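import Cfsg.Agent.H493.PGCyc
import Cfsg.Agent.S1092
import Cfsg.Agent.S1093
import Cfsg.Agent.H420.Cover

/-!
# Adjacency in the prime graph through maximal tori: classes of primes (helper168)

* `rel_of_eig` : `H493.PGTorus.conn_of_eig` with `PG.Rel` instead of `PG.Conn`;
* `CovL L G` : the prime divisors of `|G|` fall into the classes `L`, two distinct primes of the same class are adjacent;
* `CovL.card_le` : a coclique has at most `L.length` elements;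
* `split_*` : the prime divisors of `q ^ d - 1`.
-/

set_option autoImplicit false

namespace Cfsg.Agent.H168.ExcAdj

open CoxeterSystem Subgroup Cfsg Cfsg.Lie Cfsg.Lie.ChevalleyDatum
open Cfsg.Agent.ChevalleyStructure Cfsg.Agent.ChevalleyStructure.Elts Cfsg.Agent.ChevalleyStructure.CoxeterGeom
  Cfsg.Agent.ChevalleyStructure.CoxeterGeomTypes Cfsg.Agent.ChevalleyStructure.NPerm
open Cfsg.Agent.Tits.Roots Cfsg.Agent.Tits.Core Cfsg.Agent.Nodes.Reps Cfsg.Agent.Nodes.BNOf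
  Cfsg.Agent.Nodes.RGDChev Cfsg.Agent.Nodes.Bruhat
open Cfsg.Agent.KFacts.RgdField Cfsg.Agent.KFacts.RgdChevCoord Cfsg.Agent.BpExc.TorCent Cfsg.Agent.BpExc.TorChev
open Cfsg.Agent.BpExc.Tow Cfsg.Agent.BpExc.TowChev Cfsg.Agent.BpExc.FamExt Cfsg.Agent.BpExc.FamUntw
  Cfsg.Agent.BpExc.FamInst Cfsg.Agent.BpExc.LangFr Cfsg.Agent.BpExc.FamField
open Cfsg.Agent.H378.TorDual Cfsg.Agent.H378.TorChar Cfsg.Agent.H378.TorFin
open Cfsg.Agent.H493 Cfsg.Agent.H493.PGTorus Cfsg.Agent.H493.PGCyc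

universe u

/-! ### adjacency through a torus -/

section

variable {D : ChevalleyDatum} {l : ℕ} {M : CoxeterMatrix (Fin l)} (hp : IsType D l M) {W : Type*} [Group W] [Finite W]
  (cs : CoxeterSystem M W)

/-- **Two distinct primes dividing the values of two polynomials at `q` with eigenvectors of the same `w` are
adjacent.** -/
theorem rel_of_eig {d : ℕ} {B : Fin l → Fin l → ℤ} (hB : InvC D l d B) (hd : d ≠ 0) {F : Type u} [Field F] [Finite F]
    {w : W} {Th : Fin l → Fin l → ℤ} (hw : ∀ j, rep cs hp.isCartan w (sr j) = Th j)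
    {f : ℕ} {c : Fin (f + 1) → ℤ} {V : Fin (f + 1) → Fin l → ℤ} {U : Fin l → ℤ} (h : EigOK Th c V U)
    {f' : ℕ} {c' : Fin (f' + 1) → ℤ} {V' : Fin (f' + 1) → Fin l → ℤ} {U' : Fin l → ℤ} (h' : EigOK Th c' V' U')
    {r s : ℕ} (hr : r.Prime) (hs : s.Prime) (hrs : r ≠ s) (hrd : ¬ r ∣ d) (hsd : ¬ s ∣ d)
    (h1 : (r : ℤ) ∣ pv c (Nat.card F)) (h2 : (s : ℤ) ∣ pv c' (Nat.card F)) :
    PG.Rel ↥(D.group F) r s := by
  obtain ⟨φ, hφ⟩ := exists_hom hp cs hB hd (F := F) w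
  have hq : (2 : ℤ) ≤ (Nat.card F : ℤ) := by
    exact_mod_cast Finite.one_lt_card
  have hwn : (rep cs hp.isCartan w) ^ Nat.card W = 1 := by
    rw [← map_pow, pow_card_eq_one', map_one]
  obtain ⟨x, hx⟩ := exists_order (rep_apply_eq hp cs hw) Nat.card_pos hwn h hq hr h1
  obtain ⟨y, hy⟩ := exists_order (rep_apply_eq hp cs hw) Nat.card_pos hwn h' hq hs h2
  have key : ∀ {t : ℕ} (_ : t.Prime) (_ : ¬ t ∣ d) {z : Multiplicative ((Fin l → ℤ) ⧸ LinearMap.range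
      (rep cs hp.isCartan w - ((Nat.card F : ℕ) : ℤ) • (1 : Module.End ℤ (Fin l → ℤ))))} (_ : orderOf z = t),
      orderOf (φ z) = t := by
    intro t ht htd z hz
    have : Fact t.Prime := ⟨ht⟩
    refine orderOf_eq_prime ?_ ?_
    · rw [← map_pow, ← hz, pow_orderOf_eq_one, map_one]
    · intro h0
      exact htd (hz ▸ orderOf_dvd_of_pow_eq_one (hφ z h0))
  refine PG.Rel.of_commute hr hs hrs (x := φ x) (y := φ y) ?_ (by rw [key hr hrd hx]) (by rw [key hs hsd hy])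
  show φ x * φ y = φ y * φ x
  rw [← map_mul, ← map_mul, mul_comm]

end

/-! ### classes of primes -/

/-- The primes dividing `|G|` fall into the classes `L`, and two distinct primes of the same class are adjacent. -/
structure CovL (L : List (ℕ → Prop)) (G : Type*) [Group G] : Prop where
  cover : ∀ r : ℕ, r.Prime → r ∣ Nat.card G → ∃ C ∈ L, C r
  rel : ∀ C ∈ L, ∀ r s : ℕ, r.Prime → s.Prime → r ≠ s → C r → C s → PG.Rel G r s

theorem CovL.congr {L : List (ℕ → Prop)} {G H : Type*} [Group G] [Group H] (h : CovL L G) (e : G ≃* H) : CovL L H where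
  cover r hr hd := h.cover r hr (by rw [Nat.card_congr e.toEquiv]; exact hd)
  rel C hC r s hr hs hrs h1 h2 := (h.rel C hC r s hr hs hrs h1 h2).of_injective e.toMonoidHom e.injective

/-- **A coclique has at most as many elements as there are classes.** -/
theorem CovL.card_le {L : List (ℕ → Prop)} {G : Type*} [Group G] (h : CovL L G) (s : Finset ℕ)
    (hs : ∀ r ∈ s, r.Prime ∧ r ∣ Nat.card G) (hn : ∀ r ∈ s, ∀ t ∈ s, r ≠ t → ¬ PG.Rel G r t) : s.card ≤ L.length := by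
  have h1 : ∀ r ∈ s, ∃ i : ℕ, ∃ hi : i < L.length, L[i] r := by
    intro r hr
    obtain ⟨C, hC, hCr⟩ := h.cover r (hs r hr).1 (hs r hr).2
    obtain ⟨i, hi, rfl⟩ := List.mem_iff_getElem.1 hC
    exact ⟨i, hi, hCr⟩
  choose! f hf hf' using h1
  have h2 : s.card ≤ (Finset.range L.length).card := by
    refine Finset.card_le_card_of_injOn f (fun a ha => Finset.mem_coe.2 (Finset.mem_range.2 (hf a ha))) ?_
    intro a ha b hb hab
    by_contra hne
    refine hn a ha b hb hne (h.rel (L[f a]'(hf a ha)) (List.getElem_mem _) a b (hs a ha).1 (hs b hb).1 hne (hf' a ha) ?_)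
    have h3 := hf' b hb
    have h4 : ∀ (i j : ℕ) (hi : i < L.length) (hj : j < L.length), i = j → L[j] b → L[i] b := by
      rintro i j hi hj rfl h; exact h
    exact h4 _ _ (hf a ha) (hf b hb) hab h3
  rwa [Finset.card_range] at h2

/-! ### cliques -/

/-- two distinct primes with the property `A` are adjacent -/
def Cl (G : Type*) [Group G] (A : ℕ → Prop) : Prop := ∀ r s : ℕ, r.Prime → s.Prime → r ≠ s → A r → A s → PG.Rel G r s

theorem Cl.or {G : Type*} [Group G] {A B : ℕ → Prop} (hA : Cl G A) (hB : Cl G B)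
    (hAB : ∀ r s : ℕ, r.Prime → s.Prime → r ≠ s → A r → B s → PG.Rel G r s) : Cl G (fun r => A r ∨ B r) := by
  rintro r s hr hs hrs (h1 | h1) (h2 | h2)
  · exact hA r s hr hs hrs h1 h2
  · exact hAB r s hr hs hrs h1 h2
  · exact (hAB s r hs hr hrs.symm h2 h1).symm
  · exact hB r s hr hs hrs h1 h2

/-- `Cover` from a list of cliques -/
theorem cover_of_list {G : Type*} [Group G] {q c : ℕ} (L : List (ℕ → Prop)) (hc : L.length = c)
    (h1 : ∀ r : ℕ, r.Prime → 3 < r → ¬ r ∣ q → r ∣ Nat.card G → ∃ C ∈ L, C r) (h2 : ∀ C ∈ L, Cl G C) :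
    Cfsg.Agent.H420.QR.Cover G q c := by
  subst hc
  refine ⟨fun i => L[i], fun r a b c' d => ?_, fun i r s hr hs _ _ _ _ _ _ hrs h3 h4 => ?_⟩
  · obtain ⟨C, hC, hCr⟩ := h1 r a b c' d
    obtain ⟨i, hi, rfl⟩ := List.mem_iff_getElem.1 hC
    exact ⟨⟨i, hi⟩, hCr⟩
  · exact (h2 L[i] (List.getElem_mem _) r s hr hs hrs h3 h4).2.2.2

/-- the prime divisors, not dividing `d`, of the value of a polynomial at `q` -/
def phiC {f : ℕ} (c : Fin f → ℤ) (q d : ℕ) : ℕ → Prop := fun r => ¬ r ∣ d ∧ (r : ℤ) ∣ pv c q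

/-! ### the factors of `q ^ d - 1` -/

theorem two_or {r : ℕ} (hr : r.Prime) {a b : ℤ} (h : (r : ℤ) ∣ a * b) : (r : ℤ) ∣ a ∨ (r : ℤ) ∣ b :=
  (Nat.prime_iff_prime_int.1 hr).dvd_or_dvd h

/-- divides the value of one of the polynomials of the list -/
theorem cast_sub (q d : ℕ) (hq : 0 < q) : ((q ^ d - 1 : ℕ) : ℤ) = (q : ℤ) ^ d - 1 := by
  rw [Nat.cast_sub (Nat.one_le_pow _ _ hq)]
  push_cast
  rfl

variable (q : ℤ)

theorem f2 : q ^ 2 - 1 = pv c1 q * pv c2 q := by rw [pv_c1, pv_c2]; ring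

theorem f3 : q ^ 3 - 1 = pv c1 q * pv c3 q := by rw [pv_c1, pv_c3]; ring

theorem f4 : q ^ 4 - 1 = pv c1 q * (pv c2 q * pv c4 q) := by rw [pv_c1, pv_c2, pv_c4]; ring

theorem f5 : q ^ 5 - 1 = pv c1 q * pv c5 q := by rw [pv_c1, pv_c5]; ring

theorem f6 : q ^ 6 - 1 = pv c1 q * (pv c2 q * (pv c3 q * pv c6 q)) := by rw [pv_c1, pv_c2, pv_c3, pv_c6]; ring

theorem f8 : q ^ 8 - 1 = pv c1 q * (pv c2 q * (pv c4 q * pv c8 q)) := by rw [pv_c1, pv_c2, pv_c4, pv_c8]; ring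

theorem f9 : q ^ 9 - 1 = pv c1 q * (pv c3 q * pv c9 q) := by rw [pv_c1, pv_c3, pv_c9]; ring

theorem f10 : q ^ 10 - 1 = pv c1 q * (pv c2 q * (pv c5 q * pv c10 q)) := by
  rw [pv_c1, pv_c2, pv_c5, pv_c10]; ring

theorem f12 : q ^ 12 - 1 = pv c1 q * (pv c2 q * (pv c3 q * (pv c4 q * (pv c6 q * pv c12 q)))) := by
  rw [pv_c1, pv_c2, pv_c3, pv_c4, pv_c6, pv_c12]; ring

theorem f14 : q ^ 14 - 1 = pv c1 q * (pv c2 q * (pv c7 q * pv c14 q)) := by
  rw [pv_c1, pv_c2, pv_c7, pv_c14]; ring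

theorem f18 : q ^ 18 - 1 = pv c1 q * (pv c2 q * (pv c3 q * (pv c6 q * (pv c9 q * pv c18 q)))) := by
  rw [pv_c1, pv_c2, pv_c3, pv_c6, pv_c9, pv_c18]; ring

theorem f20 : q ^ 20 - 1 = pv c1 q * (pv c2 q * (pv c4 q * (pv c5 q * (pv c10 q * pv c20 q)))) := by
  rw [pv_c1, pv_c2, pv_c4, pv_c5, pv_c10, pv_c20]; ring

theorem f24 : q ^ 24 - 1 =
    pv c1 q * (pv c2 q * (pv c3 q * (pv c4 q * (pv c6 q * (pv c8 q * (pv c12 q * pv c24 q)))))) := by
  rw [pv_c1, pv_c2, pv_c3, pv_c4, pv_c6, pv_c8, pv_c12, pv_c24]; ring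

theorem f30 : q ^ 30 - 1 =
    pv c1 q * (pv c2 q * (pv c3 q * (pv c5 q * (pv c6 q * (pv c10 q * (pv c15 q * pv c30 q)))))) := by
  rw [pv_c1, pv_c2, pv_c3, pv_c5, pv_c6, pv_c10, pv_c15, pv_c30]; ring

theorem g5 : q ^ 5 + 1 = pv c2 q * pv c10 q := by rw [pv_c2, pv_c10]; ring

theorem g9 : q ^ 9 + 1 = pv c2 q * (pv c6 q * pv c18 q) := by rw [pv_c2, pv_c6, pv_c18]; ring

theorem g8 : q ^ 8 + q ^ 4 + 1 = pv c3 q * (pv c6 q * pv c12 q) := by rw [pv_c3, pv_c6, pv_c12]; ring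

end Cfsg.Agent.H168.ExcAdj
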