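import Cfsg.Agent.H493.PGF4T
import Cfsg.Agent.H493.PGSzRee
import Cfsg.Agent.H168.ExcAdj

/-!
# Clique covers of the prime graphs of `²F₄(q)`, `Sz(q)` and `²G₂(q)` (helper168)

* `tf4_cover` : five cliques for `²F₄(q)`: the two factors of `q⁴ - q² + 1`; `q² - q + 1`; `q² - 1`; `q² + 1`;
* `sz_cover` : three cliques for `Sz(q)`: `q - 1`, `q ± √(2q) + 1`;
* `ree_cover` : four cliques for `²G₂(q)`: `q - 1`, `q + 1`, `q ± √(3q) + 1`.
-/

set_option autoImplicit false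
set_option linter.unusedSectionVars false
set_option linter.unusedSimpArgs false
set_option linter.unusedTactic false
set_option linter.unreachableTactic false
set_option linter.unnecessarySeqFocus false

namespace Cfsg.Agent.H168.TwF4Cover

open CoxeterSystem Cfsg Cfsg.Lie Cfsg.Lie.ChevalleyDatum
open Cfsg.Agent.ChevalleyStructure Cfsg.Agent.ChevalleyStructure.Elts Cfsg.Agent.ChevalleyStructure.CoxeterGeom
  Cfsg.Agent.ChevalleyStructure.CoxeterGeomTypes Cfsg.Agent.ChevalleyStructure.NPerm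
open Cfsg.Agent.Tits.Roots Cfsg.Agent.Tits.Core Cfsg.Agent.Nodes Cfsg.Agent.Nodes.Reps Cfsg.Agent.Nodes.BNOf
  Cfsg.Agent.Nodes.RGDChev
open Cfsg.Agent.KFacts.RgdField Cfsg.Agent.KFacts.RgdChevCoord Cfsg.Agent.BpExc.TorCent Cfsg.Agent.BpExc.TorChev
open Cfsg.Agent.GpExc.Field Cfsg.Agent.BpExc.Tow Cfsg.Agent.BpExc.TowChev
  Cfsg.Agent.BpExc.LangFr Cfsg.Agent.BpExc Cfsg.Agent.H129.TorusChar Cfsg.Agent.H129.TorusUntw
open Cfsg.Agent.H493 Cfsg.Agent.H493.F4End Cfsg.Agent.H493.F4Tor Cfsg.Agent.H493.PGF4T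
open Cfsg.Agent.H129.WData (Mat hd ChainOK)
open Cfsg.Agent.H420.QR Cfsg.Agent.H168.ExcAdj

universe u

section Main

variable {K : Type u} [Field K] [Fintype K] {m : ℕ} (hK : Fintype.card K = 2 ^ (2 * m + 1))

include hK

/-- **Two primes** (`H493.F4Tor.conn_gen` with adjacency). -/
theorem rel_gen {C : List (Fin 4 × H129.WData.Mat 4)} {Am : H129.WData.Mat 4}
    (hA : ∀ i j, Am i j = cartanOf chevF4 4 i j) (hC : H129.WData.ChainOK Am C) {Th : Fin 4 → Fin 4 → ℤ}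
    (hTh : ∀ j, H129.WData.hd C (rv j) = Th j)
    {r s : ℕ} (hr : r.Prime) (hs : s.Prime) (hrs : r ≠ s) (hr2 : r ≠ 2) (hs2 : s ≠ 2)
    {L U L' U' : Fin 4 → ℤ} (hL : ∀ j, (r : ℤ) ∣ ∑ i, Th j i * L i - (eN j * 2 ^ m : ℕ) * L j)
    (hU : ¬ (r : ℤ) ∣ ∑ i, U i * L i) (hL' : ∀ j, (s : ℤ) ∣ ∑ i, Th j i * L' i - (eN j * 2 ^ m : ℕ) * L' j)
    (hU' : ¬ (s : ℤ) ∣ ∑ i, U' i * L' i) : PG.Rel ↥(twistedF4 K (2 ^ m)) r s := by
  classical
  have : Fact (Nat.Prime 2) := ⟨Nat.prime_two⟩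
  have hc2 : CharP K 2 := F4Fixed.charP_two hK
  obtain ⟨p, e, hpF, hpc, hpk, he, hpe, hk⟩ := exists_closure hK
  have hp2 : p = 2 := CharP.eq K hpc hc2
  subst hp2
  let k := AlgebraicClosure K
  let f : K →+* k := algebraMap K k
  let cs := CoxeterMatrix.F₄.toCoxeterSystem
  have hN : NSys CoxeterMatrix.F₄ (TT chevF4 k) (nc hp k) := nsys_of_locFin hp cs hk 2
  obtain ⟨n, hn⟩ := exists_rp cs hN (cs.wordProd (C.map Prod.fst))
  obtain ⟨z, hz⟩ := F4Lang.lang_ste m n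
  have hw : ∀ j, rep cs hp.isCartan (cs.wordProd (C.map Prod.fst)) (sr (rv j)) = Th j := fun j => by
    rw [H129.WData.chain_rep hp cs hA hC, hTh]
  obtain ⟨t, ht, h3, h4⟩ := exists_t cs hk hn hw m hr hr2 hL hU
  obtain ⟨t', ht', h3', h4'⟩ := exists_t cs hk hn hw m hs hs2 hL' hU'
  have hfix : ∀ y : ↥(chevF4.group k), n * ste k m y * n⁻¹ = y → ste k m (z * y * z⁻¹) = z * y * z⁻¹ := by
    intro y h1
    have h2 : ste k m z = z * n := by rw [hz]; group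
    rw [map_mul, map_mul, map_inv, h2]
    calc z * n * ste k m y * (z * n)⁻¹ = z * (n * ste k m y * n⁻¹) * z⁻¹ := by group
      _ = _ := by rw [h1]
  obtain ⟨g, hg, hgm⟩ := exists_fin f hK (hfix t h3)
  obtain ⟨g', hg', hgm'⟩ := exists_fin f hK (hfix t' h3')
  have ho : ∀ y : ↥(chevF4.group k), orderOf (z * y * z⁻¹) = orderOf y := fun y =>
    orderOf_injective (MulAut.conj z).toMonoidHom (MulAut.conj z).injective y
  have hcomm : t * t' = t' * t := TT_comm hp t ht t' ht'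
  have hgo : orderOf (g : GL chevF4.Idx K) = r := by
    rw [Subgroup.orderOf_coe, ← orderOf_injective (emb hD f) (emb_injective hD f) g, hg, ho, h4]
  have hgo' : orderOf (g' : GL chevF4.Idx K) = s := by
    rw [Subgroup.orderOf_coe, ← orderOf_injective (emb hD f) (emb_injective hD f) g', hg', ho, h4']
  have hgg : g * g' = g' * g := by
    apply emb_injective hD f
    rw [map_mul, map_mul, hg, hg']
    calc z * t * z⁻¹ * (z * t' * z⁻¹) = z * (t * t') * z⁻¹ := by group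
      _ = z * (t' * t) * z⁻¹ := by rw [hcomm]
      _ = _ := by group
  refine PG.Rel.of_commute hr hs hrs (x := (⟨g, hgm⟩ : ↥(twistedF4 K (2 ^ m)))) (y := ⟨g', hgm'⟩) ?_ ?_ ?_
  · apply Subtype.ext
    exact congrArg (fun x : ↥(chevF4.group K) => (x : GL chevF4.Idx K)) hgg
  · rw [Subgroup.orderOf_mk, hgo]
  · rw [Subgroup.orderOf_mk, hgo']

theorem rel_cert
    {C : List (Fin 4 × Mat 4)} (hC : ChainOK Am C) {Th : Mat 4} (hTh : ∀ j, hd C (rv j) = Th j)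
    {F : ℤ → ℤ} {L : ℤ → Fin 4 → ℤ} {U : Fin 4 → ℤ} {G : ℤ → Fin 4 → ℤ} {c : ℤ} {H : ℤ → ℤ}
    (h : Cert Th F L U G c H)
    {F' : ℤ → ℤ} {L' : ℤ → Fin 4 → ℤ} {U' : Fin 4 → ℤ} {G' : ℤ → Fin 4 → ℤ} {c' : ℤ} {H' : ℤ → ℤ}
    (h' : Cert Th F' L' U' G' c' H') {r s : ℕ} (hr : r.Prime) (hs : s.Prime) (hrs : r ≠ s) (h1 : (r : ℤ) ∣ F (2 ^ m))
    (h2 : (s : ℤ) ∣ F' (2 ^ m)) : PG.Rel ↥(twistedF4 K (2 ^ m)) r s :=
  rel_gen hK hA hC hTh hr hs hrs (h.ne_two hr h1) (h'.ne_two hs h2) (h.hL h1) (h.hU hr h1) (h'.hL h2) (h'.hU hs h2)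

end Main

/-- partial products -/
def chainG : List (Fin 4 × Mat 4) := [
    (0, ![![2, 3, 2, 1], ![-1, -2, -1, -1], ![0, 0, 0, 1], ![0, 2, 1, 0]]),
    (1, ![![1, 3, 2, 1], ![-1, -2, -1, -1], ![0, 0, 0, 1], ![2, 2, 1, 0]]),
    (0, ![![1, 2, 2, 1], ![-1, -1, -1, -1], ![0, 0, 0, 1], ![2, 2, 1, 0]]),
    (2, ![![1, 2, 2, 1], ![0, -1, -1, -1], ![0, 0, 0, 1], ![0, 2, 1, 0]]),
    (1, ![![1, 2, 1, 1], ![0, -1, -1, -1], ![0, 0, 1, 1], ![0, 2, 1, 0]]),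
    (3, ![![1, 1, 1, 1], ![0, -1, -1, -1], ![0, 2, 1, 1], ![0, 0, 1, 0]]),
    (2, ![![1, 1, 1, 0], ![0, -1, -1, 0], ![0, 2, 1, 0], ![0, 0, 1, 1]]),
    (1, ![![1, 1, 0, 0], ![0, -1, 0, 0], ![0, 2, 1, 0], ![0, 0, 0, 1]])]

theorem chainG_ok : ChainOK Am chainG := by decide +kernel

/-- the matrix -/
def ThG : Mat 4 := ![![0, 2, 1, 0], ![0, 0, 0, 1], ![-1, -2, -1, -1], ![2, 3, 2, 1]]

theorem hThG : ∀ j, hd chainG (rv j) = ThG j := by decide +kernel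

theorem certG_fp : Cert ThG fp (fun b => ![2 * b + 1, -b - 1, 0, 1]) ![0, 0, 0, 1]
    (fun b => ![-2, 1, 0, 0]) (1) (fun b => 0) where
  id b j := by fin_cases j <;> simp [ThG, fp, eN, Fin.sum_univ_four] <;> ring
  un b := by (simp [fp, Fin.sum_univ_four]) <;> ring
  one := by norm_num
  odd b := ⟨b ^ 2 + b, by unfold fp; ring⟩

theorem certG_fm : Cert ThG fm (fun b => ![0, -b + 1, 2 * b - 2, 1]) ![0, 0, 0, 1]
    (fun b => ![0, 1, -1, 0]) (1) (fun b => 0) where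
  id b j := by fin_cases j <;> simp [ThG, fm, eN, Fin.sum_univ_four] <;> ring
  un b := by (simp [fm, Fin.sum_univ_four]) <;> ring
  one := by norm_num
  odd b := ⟨b ^ 2 - b, by unfold fm; ring⟩

/-- a prime divisor of the value `F(2^m)` -/
def dF (F : ℤ → ℤ) (m : ℕ) : ℕ → Prop := fun r => (r : ℤ) ∣ F (2 ^ m)

/-- the cliques -/
def KF (m : ℕ) : List (ℕ → Prop) :=
  [dF fP m, dF fM m, dF f6 m, fun r => dF f1 m r ∨ dF f2 m r, fun r => dF fp m r ∨ dF fm m r]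

theorem clique_2F4 (K : Type u) [Field K] [Fintype K] {m : ℕ} (hK : Fintype.card K = 2 ^ (2 * m + 1)) :
    ∀ C ∈ KF m, Cl ↥(twistedF4 K (2 ^ m)) C := by
  intro C hC
  simp only [KF, List.mem_cons, List.not_mem_nil, or_false] at hC
  rcases hC with rfl | rfl | rfl | rfl | rfl
  · exact fun _ _ hr hs hrs h1 h2 => rel_cert hK chainEp_ok hThEp certEp_fP certEp_fP hr hs hrs h1 h2
  · exact fun _ _ hr hs hrs h1 h2 => rel_cert hK chainEm_ok hThEm certEm_fM certEm_fM hr hs hrs h1 h2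
  · exact fun _ _ hr hs hrs h1 h2 => rel_cert hK chainD_ok hThD certD_f6 certD_f6 hr hs hrs h1 h2
  · exact Cl.or (fun _ _ hr hs hrs h1 h2 => rel_cert hK chainA_ok hThA certA_f1 certA_f1 hr hs hrs h1 h2)
      (fun _ _ hr hs hrs h1 h2 => rel_cert hK chainA_ok hThA certA_f2 certA_f2 hr hs hrs h1 h2)
      (fun _ _ hr hs hrs h1 h2 => rel_cert hK chainA_ok hThA certA_f1 certA_f2 hr hs hrs h1 h2)
  · exact Cl.or (fun _ _ hr hs hrs h1 h2 => rel_cert hK chainG_ok hThG certG_fp certG_fp hr hs hrs h1 h2)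
      (fun _ _ hr hs hrs h1 h2 => rel_cert hK chainG_ok hThG certG_fm certG_fm hr hs hrs h1 h2)
      (fun _ _ hr hs hrs h1 h2 => rel_cert hK chainG_ok hThG certG_fp certG_fm hr hs hrs h1 h2)

theorem cover_2F4 (K : Type u) [Field K] [Fintype K] {m : ℕ} (hK : Fintype.card K = 2 ^ (2 * m + 1)) :
    Cover ↥(twistedF4 K (2 ^ m)) 2 5 := by
  refine cover_of_list (KF m) rfl (fun r hr h3 hrq hd => ?_) (clique_2F4 K hK)
  rw [Cfsg.Agent.S1068.result hK] at hd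
  rcases PGF4T.cover hr hd with (h | h | h | h | h | h) | h | h
  · omega
  · exact ⟨_, .tail _ (.tail _ (.tail _ (.head _))), .inl h⟩
  · exact ⟨_, .tail _ (.tail _ (.tail _ (.head _))), .inr h⟩
  · exact ⟨_, .tail _ (.tail _ (.tail _ (.tail _ (.head _)))), .inl h⟩
  · exact ⟨_, .tail _ (.tail _ (.tail _ (.tail _ (.head _)))), .inr h⟩
  · exact ⟨_, .tail _ (.tail _ (.head _)), h⟩
  · exact ⟨_, .head _, h⟩
  · exact ⟨_, .tail _ (.head _), h⟩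

theorem tf4_cover {F : Type} [Field F] [Fintype F] {m : ℕ} (hF : Fintype.card F = 2 ^ (2 * m + 1)) :
    Cover ↥(Lie.twistedF4 F (2 ^ m)) 2 5 := cover_2F4 F hF

/-! ### `Sz(q)` -/

theorem rel_of_cyclic {G : Type*} [Group G] {U : Subgroup G} (hU : IsCyclic U) {r s : ℕ} (hr : r.Prime)
    (hs : s.Prime) (hrs : r ≠ s) (h1 : r ∣ Nat.card U) (h2 : s ∣ Nat.card U) (hc : Nat.card U ≠ 0) :
    PG.Rel G r s := by
  obtain ⟨g, hg⟩ := hU.exists_generator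
  have ho : orderOf g = Nat.card U := orderOf_eq_card_of_forall_mem_zpowers hg
  obtain ⟨k, hk⟩ := PG.exists_pow_orderOf (x := g) (by rw [ho]; exact hc)
    (show r * s ∣ orderOf g by
      rw [ho]
      exact Nat.Coprime.mul_dvd_of_dvd_of_dvd ((Nat.coprime_primes hr hs).2 hrs) h1 h2)
  exact ⟨hr, hs, hrs, ((g ^ k : ↥U) : G), by rw [Subgroup.orderOf_coe, hk]⟩

theorem sz_cover {F : Type*} [Field F] [Fintype F] {m : ℕ} (hm : 1 ≤ m) (hF : Fintype.card F = 2 ^ (2 * m + 1)) :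
    Cover ↥(Cfsg.Sz F m) 2 3 := by
  let N : Fin 3 → ℕ := ![2 ^ (2 * m + 1) - 1, 2 ^ (2 * m + 1) + 2 ^ (m + 1) + 1, 2 ^ (2 * m + 1) - 2 ^ (m + 1) + 1]
  refine ⟨fun i r => r ∣ N i ∧ ∃ U : Subgroup ↥(Cfsg.Sz F m), IsCyclic U ∧ Nat.card U = N i, ?_, ?_⟩
  · intro r hr h3 hr2 hrG
    have := Fact.mk hr
    obtain ⟨x, hx⟩ := exists_prime_orderOf_dvd_card' r hrG
    have hx1 : x ≠ 1 := by
      rintro rfl
      rw [orderOf_one] at hx
      exact hr.one_lt.ne hx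
    obtain ⟨U, ⟨hU, hxU⟩, -⟩ := Cfsg.Agent.S2238.result hm hF x hx1
    rcases hU with ⟨P, rfl⟩ | ⟨hc, hN⟩
    · exfalso
      obtain ⟨k, hk⟩ := P.isPGroup' ⟨x, hxU⟩
      have h3 : x ^ 2 ^ k = 1 := congrArg Subtype.val hk
      have h4 : r ∣ 2 ^ k := hx ▸ orderOf_dvd_of_pow_eq_one h3
      exact hr2 (hr.dvd_of_dvd_pow h4)
    · have h5 : r ∣ Nat.card U := by
        rw [← hx, ← Subgroup.orderOf_mk x hxU]
        exact orderOf_dvd_natCard _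
      rcases hN with hN | hN | hN
      · exact ⟨0, h5.trans (dvd_of_eq hN), U, hc, hN⟩
      · exact ⟨1, h5.trans (dvd_of_eq hN), U, hc, hN⟩
      · exact ⟨2, h5.trans (dvd_of_eq hN), U, hc, hN⟩
  · rintro i r s hr hs _ _ _ _ _ _ hrs ⟨h1, U, hU, hc⟩ ⟨h2, -⟩
    exact (rel_of_cyclic hU hr hs hrs (by rw [hc]; exact h1) (by rw [hc]; exact h2) Nat.card_pos.ne').2.2.2

theorem cover_suzuki {G : Type*} [Group G] (hG : Lie.IsoSuzuki G) : Cover G 2 3 := by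
  obtain ⟨F, _, _, m, hm, hF, ⟨e⟩⟩ := hG
  obtain ⟨e'⟩ := Cfsg.Agent.OddCyclic.ClaimC.SzIso.iso hm hF
  exact Cover.congr (e.trans e'.symm) (sz_cover hm hF)

/-! ### `²G₂(q)` -/

theorem ree_cover {K : Type*} [Field K] [Fintype K] {m : ℕ} (hm : 1 ≤ m) (hK : Fintype.card K = 3 ^ (2 * m + 1)) :
    Cover ↥(Cfsg.Lie.twistedG2 K (3 ^ m)) 3 4 := by
  have : Finite ↥(Cfsg.Lie.twistedG2 K (3 ^ m)) := inferInstance
  have h1 := fun d => Cfsg.Agent.S1159.result hm hK d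
  let N : Fin 4 → ℕ := ![3 ^ (2 * m + 1) - 1, (3 ^ (2 * m + 1) + 1) / 2, 3 ^ (2 * m + 1) - 3 ^ (m + 1) + 1,
    3 ^ (2 * m + 1) + 3 ^ (m + 1) + 1]
  have hN : ∀ i d, d ∣ N i → ∃ g : ↥(Cfsg.Lie.twistedG2 K (3 ^ m)), orderOf g = d := by
    intro i d hd
    rw [h1]
    fin_cases i
    · exact Or.inr (Or.inr (Or.inl hd))
    · exact Or.inr (Or.inr (Or.inr (Or.inl hd)))
    · exact Or.inr (Or.inr (Or.inr (Or.inr (Or.inl hd))))
    · exact Or.inr (Or.inr (Or.inr (Or.inr (Or.inr hd))))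
  refine ⟨fun i r => r ∣ N i, ?_, ?_⟩
  · intro r hr h3 hr3 hrG
    have := Fact.mk hr
    obtain ⟨x, hx⟩ := exists_prime_orderOf_dvd_card' r hrG
    rcases (h1 r).1 ⟨x, hx⟩ with h | h | h | h | h | h
    · have h4 := Nat.le_of_dvd (by norm_num) h
      exfalso
      interval_cases r
      · revert hr; norm_num
      · revert h; norm_num
      · revert hr; norm_num
    · exact absurd (hr.dvd_of_dvd_pow (show r ∣ 3 ^ 2 from h)) hr3
    · exact ⟨0, h⟩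
    · exact ⟨1, h⟩
    · exact ⟨2, h⟩
    · exact ⟨3, h⟩
  · intro i r s hr hs _ _ _ _ _ _ hrs h1 h2
    exact hN i _ (Nat.Coprime.mul_dvd_of_dvd_of_dvd ((Nat.coprime_primes hr hs).2 hrs) h1 h2)

theorem cover_ree {G : Type*} [Group G] (hG : Lie.IsoRee G) : Cover G 3 4 := by
  obtain ⟨K, _, _, m, hm, hK, ⟨e⟩⟩ := hG
  exact Cover.congr e (ree_cover hm hK)

end Cfsg.Agent.H168.TwF4Cover
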