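import Mathlib
import Cfsg.Agent.H168.Rad

/-!
# Subgroups of `S₆` and subgroups of small index (helper168)

* `index_six_perm` : a subgroup of index 6 of `S₆` is `S₅`;
* `index_eight_alt` : a subgroup of index 8 of `A₈` is `A₇`;
* `perm_six` : a nontrivial group without solvable normal subgroups which embeds in `S₆` is `A₅`, `S₅`, `A₆` or `S₆`.
-/

set_option autoImplicit false

namespace Cfsg.Agent.H168.NoSolv

open Subgroup

theorem bijective_of_card {A B : Type*} [Finite A] [Finite B] {f : A → B}
    (hf : Function.Injective f) (h : Nat.card A = Nat.card B) : Function.Bijective f :=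
  (Nat.bijective_iff_injective_and_card f).2 ⟨hf, h⟩

theorem card_compl_one {X : Type*} [Finite X] (x : X) {n : ℕ} (h : Nat.card X = n + 1) :
    Nat.card {y : X // y ≠ x} = n := by
  classical
  have := Fintype.ofFinite X
  rw [Nat.card_eq_fintype_card] at h ⊢
  rw [Fintype.card_subtype_compl, Fintype.card_subtype_eq, h]
  rfl

theorem index_six_perm (K : Subgroup (Equiv.Perm (Fin 6))) (hK : K.index = 6) :
    Nonempty (K ≃* Equiv.Perm (Fin 5)) := by
  classical
  have hc : Nat.card K = 120 := by
    have h1 := K.card_mul_index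
    rw [hK, Nat.card_perm, Nat.card_fin] at h1
    have h2 : Nat.factorial 6 = 720 := by decide
    omega
  set φ := MulAction.toPermHom (Equiv.Perm (Fin 6)) (Equiv.Perm (Fin 6) ⧸ K) with hφ
  have hker : φ.ker = ⊥ := by
    by_contra hne
    have hnt : Nontrivial φ.ker := (Subgroup.nontrivial_iff_ne_bot _).2 hne
    have h1 := Equiv.Perm.alternatingGroup_le_of_normal (α := Fin 6) (by simp) (N := φ.ker) hnt
    have h2 : φ.ker ≤ K := by
      intro g hg
      rw [MonoidHom.mem_ker] at hg
      have h3 := DFunLike.congr_fun hg ((1 : Equiv.Perm (Fin 6)) : Equiv.Perm (Fin 6) ⧸ K)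
      change g • ((1 : Equiv.Perm (Fin 6)) : Equiv.Perm (Fin 6) ⧸ K) =
        ((1 : Equiv.Perm (Fin 6)) : Equiv.Perm (Fin 6) ⧸ K) at h3
      rw [MulAction.Quotient.smul_coe, smul_eq_mul, mul_one, QuotientGroup.eq] at h3
      rw [mul_one] at h3
      exact (K.inv_mem_iff).1 h3
    have h3 := Subgroup.card_dvd_of_le (h1.trans h2)
    rw [nat_card_alternatingGroup, Nat.card_fin, hc] at h3
    have h4 : Nat.factorial 6 = 720 := by decide
    rw [h4] at h3
    have := Nat.le_of_dvd (by norm_num) h3
    omega
  obtain ⟨ψ, hψ, -⟩ := exists_coset_hom K φ hφ (by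
    intro g _ hg
    have : g ∈ φ.ker := hg
    rwa [hker, Subgroup.mem_bot] at this)
  have hcq : Nat.card {y : Equiv.Perm (Fin 6) ⧸ K // y ≠ ((1 : Equiv.Perm (Fin 6)) :
      Equiv.Perm (Fin 6) ⧸ K)} = 5 := card_compl_one _ hK
  have e : {y : Equiv.Perm (Fin 6) ⧸ K // y ≠ ((1 : Equiv.Perm (Fin 6)) :
      Equiv.Perm (Fin 6) ⧸ K)} ≃ Fin 5 := Finite.equivFinOfCardEq hcq
  have hb : Function.Bijective ψ := bijective_of_card hψ (by
    rw [hc, Nat.card_perm, hcq]
    decide)
  exact ⟨(MulEquiv.ofBijective ψ hb).trans e.permCongrHom⟩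

theorem index_eight_alt (K : Subgroup (alternatingGroup (Fin 8))) (hK : K.index = 8) :
    Nonempty (K ≃* alternatingGroup (Fin 7)) := by
  classical
  have hs : IsSimpleGroup (alternatingGroup (Fin 8)) := alternatingGroup.isSimpleGroup (by simp)
  have hcG : Nat.card (alternatingGroup (Fin 8)) = 20160 := by
    rw [nat_card_alternatingGroup, Nat.card_fin]
    rfl
  have hc : Nat.card K = 2520 := by
    have h1 := K.card_mul_index
    rw [hK, hcG] at h1
    omega
  set φ := MulAction.toPermHom (alternatingGroup (Fin 8)) (alternatingGroup (Fin 8) ⧸ K) with hφ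
  have hker : φ.ker = ⊥ := by
    rcases Subgroup.Normal.eq_bot_or_eq_top (inferInstance : φ.ker.Normal) with h | h
    · exact h
    · exfalso
      have h2 : K = ⊤ := by
        rw [eq_top_iff]
        intro g _
        have hg : g ∈ φ.ker := by rw [h]; exact Subgroup.mem_top g
        rw [MonoidHom.mem_ker] at hg
        have h3 := DFunLike.congr_fun hg ((1 : alternatingGroup (Fin 8)) :
          alternatingGroup (Fin 8) ⧸ K)
        change g • ((1 : alternatingGroup (Fin 8)) : alternatingGroup (Fin 8) ⧸ K) =
          ((1 : alternatingGroup (Fin 8)) : alternatingGroup (Fin 8) ⧸ K) at h3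
        rw [MulAction.Quotient.smul_coe, smul_eq_mul, mul_one, QuotientGroup.eq] at h3
        rw [mul_one] at h3
        exact (K.inv_mem_iff).1 h3
      rw [h2, Subgroup.index_top] at hK
      omega
  have hfq : Fintype (alternatingGroup (Fin 8) ⧸ K) := Fintype.ofFinite _
  have hsign : ∀ g, Equiv.Perm.sign (φ g) = 1 := by
    have h1 : (Equiv.Perm.sign.comp φ).ker = ⊤ := by
      rcases Subgroup.Normal.eq_bot_or_eq_top
        (inferInstance : (Equiv.Perm.sign.comp φ).ker.Normal) with h | h
      · exfalso
        rw [MonoidHom.ker_eq_bot_iff] at h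
        have h3 := Nat.card_le_card_of_injective _ h
        rw [hcG, Nat.card_eq_fintype_card, Fintype.card_units_int] at h3
        omega
      · exact h
    intro g
    have : g ∈ (Equiv.Perm.sign.comp φ).ker := by rw [h1]; exact Subgroup.mem_top g
    exact this
  obtain ⟨ψ, hψ, hψs⟩ := exists_coset_hom K φ hφ (by
    intro g _ hg
    have : g ∈ φ.ker := hg
    rwa [hker, Subgroup.mem_bot] at this)
  have hcq : Nat.card {y : alternatingGroup (Fin 8) ⧸ K // y ≠ ((1 : alternatingGroup (Fin 8)) :
      alternatingGroup (Fin 8) ⧸ K)} = 7 := card_compl_one _ hK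
  have e : {y : alternatingGroup (Fin 8) ⧸ K // y ≠ ((1 : alternatingGroup (Fin 8)) :
      alternatingGroup (Fin 8) ⧸ K)} ≃ Fin 7 := Finite.equivFinOfCardEq hcq
  let ψ' : K →* alternatingGroup {y : alternatingGroup (Fin 8) ⧸ K // y ≠
      ((1 : alternatingGroup (Fin 8)) : alternatingGroup (Fin 8) ⧸ K)} :=
    ψ.codRestrict _ (fun k => by
      rw [Equiv.Perm.mem_alternatingGroup, hψs, hsign])
  have hψ' : Function.Injective ψ' := fun a b hab => hψ (congrArg Subtype.val hab)
  have hnt : Nontrivial {y : alternatingGroup (Fin 8) ⧸ K // y ≠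
      ((1 : alternatingGroup (Fin 8)) : alternatingGroup (Fin 8) ⧸ K)} := by
    rw [← Finite.one_lt_card_iff_nontrivial, hcq]
    norm_num
  have hb : Function.Bijective ψ' := bijective_of_card hψ' (by
    rw [hc, nat_card_alternatingGroup, hcq]
    rfl)
  exact ⟨(MulEquiv.ofBijective ψ' hb).trans e.altCongrHom⟩

theorem index_le_of_alt {n : ℕ} (hn : 5 ≤ n) (K : Subgroup (alternatingGroup (Fin n)))
    (hK : K ≠ ⊤) : n.factorial ≤ 2 * K.index.factorial := by
  classical
  have hs : IsSimpleGroup (alternatingGroup (Fin n)) := alternatingGroup.isSimpleGroup (by simpa)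
  set φ := MulAction.toPermHom (alternatingGroup (Fin n)) (alternatingGroup (Fin n) ⧸ K) with hφ
  have hker : φ.ker = ⊥ := by
    rcases Subgroup.Normal.eq_bot_or_eq_top (inferInstance : φ.ker.Normal) with h | h
    · exact h
    · exfalso
      apply hK
      rw [eq_top_iff]
      intro g _
      have hg : g ∈ φ.ker := by rw [h]; exact Subgroup.mem_top g
      rw [MonoidHom.mem_ker] at hg
      have h3 := DFunLike.congr_fun hg ((1 : alternatingGroup (Fin n)) :
        alternatingGroup (Fin n) ⧸ K)
      change g • ((1 : alternatingGroup (Fin n)) : alternatingGroup (Fin n) ⧸ K) =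
        ((1 : alternatingGroup (Fin n)) : alternatingGroup (Fin n) ⧸ K) at h3
      rw [MulAction.Quotient.smul_coe, smul_eq_mul, mul_one, QuotientGroup.eq] at h3
      rw [mul_one] at h3
      exact (K.inv_mem_iff).1 h3
  rw [MonoidHom.ker_eq_bot_iff] at hker
  have h1 := Nat.card_le_card_of_injective _ hker
  have hq : Nat.card (alternatingGroup (Fin n) ⧸ K) = K.index := rfl
  rw [Nat.card_perm, hq] at h1
  have hnt : Nontrivial (Fin n) := by
    rw [← Finite.one_lt_card_iff_nontrivial, Nat.card_fin]
    omega
  have h2 := two_mul_nat_card_alternatingGroup (α := Fin n)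
  rw [Nat.card_perm, Nat.card_fin] at h2
  omega

/-- A nontrivial group without solvable normal subgroups which embeds in `S₆`. -/
theorem perm_six {L : Type*} [Group L] [Nontrivial L] (hR : Rad L)
    (ι : L →* Equiv.Perm (Fin 6)) (hι : Function.Injective ι) :
    Nonempty (L ≃* alternatingGroup (Fin 5)) ∨ Nonempty (L ≃* Equiv.Perm (Fin 5)) ∨
      Nonempty (L ≃* alternatingGroup (Fin 6)) ∨ Nonempty (L ≃* Equiv.Perm (Fin 6)) := by
  classical
  have hfin : Finite L := Finite.of_injective _ hι
  have hns := hR.not_solvable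
  set s : L →* ℤˣ := Equiv.Perm.sign.comp ι with hs
  have hnk : ¬ Group.IsSolvable s.ker := by
    intro h
    exact hns (Group.isSolvable_of_ker_le_range s.ker.subtype s (by simp))
  have h60 := sixty_le hnk
  let j : s.ker →* alternatingGroup (Fin 6) := (ι.comp s.ker.subtype).codRestrict _ (fun k => by
    rw [Equiv.Perm.mem_alternatingGroup]
    exact k.2)
  have hj : Function.Injective j := fun a b hab =>
    Subtype.ext (hι (congrArg Subtype.val hab))
  have hcj : Nat.card j.range = Nat.card s.ker :=
    (Nat.card_congr (MonoidHom.ofInjective hj).toEquiv).symm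
  have hA6 : Nat.card (alternatingGroup (Fin 6)) = 360 := by
    rw [nat_card_alternatingGroup, Nat.card_fin]
    rfl
  have hS6 : Nat.card (Equiv.Perm (Fin 6)) = 720 := by
    rw [Nat.card_perm, Nat.card_fin]
    rfl
  have hci := j.range.card_mul_index
  rw [hcj, hA6] at hci
  have hLk := s.ker.card_mul_index
  have hi2 : s.ker.index = 1 ∨ s.ker.index = 2 := by
    have h1 : s.ker.index = Nat.card s.range := Subgroup.index_ker s
    have h2 : Nat.card s.range ≤ 2 := by
      have h3 := Nat.card_le_card_of_injective _ (Subtype.val_injective (p := fun x => x ∈ s.range))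
      have h4 : Nat.card ℤˣ = 2 := by rw [Nat.card_eq_fintype_card, Fintype.card_units_int]
      exact h3.trans h4.le
    have h3 : 0 < Nat.card s.range := Nat.card_pos
    omega
  by_cases htop : j.range = ⊤
  · have hk360 : Nat.card s.ker = 360 := by
      rw [htop, Subgroup.index_top] at hci
      omega
    rcases hi2 with h | h
    · right; right; left
      have hk : s.ker = ⊤ := Subgroup.index_eq_one.1 h
      have hb : Function.Bijective j := bijective_of_card hj (by rw [hk360, hA6])
      have e1 : L ≃* s.ker := (Subgroup.topEquiv.symm).trans (MulEquiv.subgroupCongr hk.symm)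
      exact ⟨e1.trans (MulEquiv.ofBijective j hb)⟩
    · right; right; right
      have hL : Nat.card L = 720 := by rw [← hLk, hk360, h]
      exact ⟨MulEquiv.ofBijective ι (bijective_of_card hι (by rw [hL, hS6]))⟩
  · have hf := index_le_of_alt (by norm_num) j.range htop
    have h6 : 6 ≤ j.range.index := by
      by_contra hlt
      have h5 : j.range.index ≤ 5 := by omega
      have h7 := Nat.factorial_le h5
      have h8 : Nat.factorial 5 = 120 := by decide
      have h9 : Nat.factorial 6 = 720 := by decide
      omega
    have h60' : Nat.card s.ker = 60 := by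
      by_contra hne
      have h61 : 61 ≤ Nat.card s.ker := by omega
      nlinarith
    rcases hi2 with h | h
    · left
      have hL : Nat.card L = 60 := by rw [← hLk, h60', h]
      exact alt_five hns hL
    · right; left
      have hL : Nat.card L = 120 := by rw [← hLk, h60', h]
      have hcr : Nat.card ι.range = 120 := by
        rw [← hL]
        exact (Nat.card_congr (MonoidHom.ofInjective hι).toEquiv).symm
      have hir : ι.range.index = 6 := by
        have h1 := ι.range.card_mul_index
        rw [hcr, hS6] at h1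
        omega
      obtain ⟨e⟩ := index_six_perm ι.range hir
      exact ⟨(MonoidHom.ofInjective hι).trans e⟩

end Cfsg.Agent.H168.NoSolv
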