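import Mathlib
import Cfsg.Agent.S0256

/-!
# `GL(4,2) ≅ A₈` (helper168)

* `gl_equiv` : `GL (Fin 4) F ≃* alternatingGroup (Fin 8)` for a field `F` with two elements.
* `altSucc` : the embedding of `alternatingGroup (Fin n)` in `alternatingGroup (Fin m)`, `n ≤ m`.
-/

set_option autoImplicit false

namespace Cfsg.Agent.H168

theorem eq_one_of_card_two {F : Type*} [Field F] [Fintype F] (hF : Fintype.card F = 2) {a : F}
    (ha : a ≠ 0) : a = 1 := by
  classical
  have e : ZMod 2 ≃+* F := ZMod.ringEquivOfPrime F Nat.prime_two hF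
  have h1 : e.symm a ≠ 0 := fun h => ha (by simpa using congrArg e h)
  have h2 : e.symm a = 1 := by
    revert h1
    generalize e.symm a = b
    revert b
    decide
  simpa using congrArg e h2

theorem toGL_surjective {F : Type*} [Field F] [Fintype F] (hF : Fintype.card F = 2) (n : ℕ) :
    Function.Surjective (Matrix.SpecialLinearGroup.toGL (n := Fin n) (R := F)) := by
  intro g
  have hd : (g : Matrix (Fin n) (Fin n) F).det ≠ 0 := by
    have := (Matrix.isUnit_iff_isUnit_det _).1 g.isUnit
    exact this.ne_zero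
  refine ⟨⟨(g : Matrix (Fin n) (Fin n) F), eq_one_of_card_two hF hd⟩, ?_⟩
  exact Units.ext rfl

theorem toGL_injective {F : Type*} [Field F] (n : ℕ) :
    Function.Injective (Matrix.SpecialLinearGroup.toGL (n := Fin n) (R := F)) := by
  intro A B h
  exact Subtype.ext (congrArg Units.val h)

/-- `SL(n,2) = GL(n,2)`. -/
theorem sl_equiv_gl {F : Type*} [Field F] [Fintype F] (hF : Fintype.card F = 2) (n : ℕ) :
    Nonempty (Matrix.SpecialLinearGroup (Fin n) F ≃* GL (Fin n) F) :=
  ⟨MulEquiv.ofBijective _ ⟨toGL_injective n, toGL_surjective hF n⟩⟩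

theorem center_sl {F : Type*} [Field F] [Fintype F] (hF : Fintype.card F = 2) (n : ℕ) :
    Subgroup.center (Matrix.SpecialLinearGroup (Fin n) F) = ⊥ := by
  rw [eq_bot_iff]
  intro A hA
  rw [Matrix.SpecialLinearGroup.mem_center_iff] at hA
  obtain ⟨r, hr, hA⟩ := hA
  rw [Subgroup.mem_bot]
  rcases Nat.eq_zero_or_pos n with hn | hn
  · subst hn
    exact Subtype.ext (Subsingleton.elim _ _)
  · have hr0 : r ≠ 0 := by
      rintro rfl
      rw [zero_pow (by rw [Fintype.card_fin]; omega)] at hr
      exact zero_ne_one hr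
    have hr1 := eq_one_of_card_two hF hr0
    subst hr1
    apply Subtype.ext
    rw [← hA]
    simp

/-- `SL(n,2) = PSL(n,2)`. -/
theorem sl_equiv_psl {F : Type*} [Field F] [Fintype F] (hF : Fintype.card F = 2) (n : ℕ) :
    Nonempty (Matrix.SpecialLinearGroup (Fin n) F ≃*
      Matrix.ProjectiveSpecialLinearGroup (Fin n) F) := by
  refine ⟨MulEquiv.ofBijective (QuotientGroup.mk' _) ⟨?_, QuotientGroup.mk'_surjective _⟩⟩
  rw [← MonoidHom.ker_eq_bot_iff, QuotientGroup.ker_mk']
  exact center_sl hF n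

theorem psl_equiv_gl {F : Type*} [Field F] [Fintype F] (hF : Fintype.card F = 2) (n : ℕ) :
    Nonempty (Matrix.ProjectiveSpecialLinearGroup (Fin n) F ≃* GL (Fin n) F) := by
  obtain ⟨e₁⟩ := sl_equiv_gl hF n
  obtain ⟨e₂⟩ := sl_equiv_psl hF n
  exact ⟨e₂.symm.trans e₁⟩

/-- `GL(4,2) ≅ A₈`. -/
theorem gl_equiv {F : Type*} [Field F] [Fintype F] (hF : Fintype.card F = 2) :
    Nonempty (GL (Fin 4) F ≃* alternatingGroup (Fin 8)) := by
  obtain ⟨e₁⟩ := psl_equiv_gl hF 4
  obtain ⟨e₂⟩ := Cfsg.Agent.S0256.result hF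
  exact ⟨e₁.symm.trans e₂⟩

/-- The alternating group of degree `n` embeds in the alternating group of degree `m ≥ n`. -/
theorem exists_alt_hom {n m : ℕ} (h : n ≤ m) :
    ∃ f : alternatingGroup (Fin n) →* alternatingGroup (Fin m), Function.Injective f := by
  classical
  let p : Fin m → Prop := fun i => i.1 < n
  let e : Fin n ≃ Subtype p :=
    { toFun := fun i => ⟨⟨i.1, lt_of_lt_of_le i.2 h⟩, i.2⟩
      invFun := fun i => ⟨i.1.1, i.2⟩
      left_inv := fun i => rfl
      right_inv := fun i => rfl }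
  let f : alternatingGroup (Fin n) →* alternatingGroup (Fin m) :=
    ((Equiv.Perm.extendDomainHom e).comp (alternatingGroup (Fin n)).subtype).codRestrict
      (alternatingGroup (Fin m)) (fun x => by
        rw [Equiv.Perm.mem_alternatingGroup]
        change Equiv.Perm.sign ((x : Equiv.Perm (Fin n)).extendDomain e) = 1
        rw [Equiv.Perm.sign_extendDomain]
        exact Equiv.Perm.mem_alternatingGroup.1 x.2)
  refine ⟨f, ?_⟩
  intro x y hxy
  apply Subtype.ext
  apply Equiv.Perm.extendDomainHom_injective e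
  exact congrArg Subtype.val hxy

end Cfsg.Agent.H168
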