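import Cfsg.Agent.H168.TwAdj
import Cfsg.Agent.H168.TwE6Fr
import Cfsg.Agent.H129.TwD4Cyc
import Cfsg.Agent.H493.PGE6
import Cfsg.Agent.S1066
import Cfsg.Agent.S1067

/-!
# Clique covers of the prime graphs of `²E₆(q)` and `³D₄(q)` (helper168)

Cliques by cyclotomic indices: `²E₆` {18} {12,6} {8,1,2} {10} {4,3}; `³D₄` {12} {3,1,2} {6}.
-/

set_option autoImplicit false

namespace Cfsg.Agent.H168.TwCover

open Cfsg Cfsg.Lie Cfsg.Agent.H129 Cfsg.Agent.H129.WData Cfsg.Agent.H129.TorusMain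
open Cfsg.Agent.Nodes Cfsg.Agent.Tits.Roots Cfsg.Agent.ChevalleyStructure.CoxeterGeomTypes
open Cfsg.Agent.H493 Cfsg.Agent.H493.PGTorus Cfsg.Agent.H493.PGCyc Cfsg.Agent.H168.ExcAdj Cfsg.Agent.H168.TwAdj
open Cfsg.Agent.H420.QR

universe u

/-- the permutation of the simple roots -/
def pi6 : Fin 6 → Fin 6 := ![5, 1, 4, 3, 2, 0]

/-- the permutation of the simple roots -/
def pi4 : Fin 4 → Fin 4 := ![2, 1, 3, 0]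

/-- the prime `r` does not divide `q` and divides the value of the polynomial at `q` -/
def phiT {f : ℕ} (c : Fin f → ℤ) (q : ℕ) : ℕ → Prop := fun r => ¬ r ∣ q ∧ r ≠ 3 ∧ (r : ℤ) ∣ pv c q

theorem lin_six {W : Type*} [Group W] (cs : CoxeterSystem CoxeterMatrix.E₆ W)
    {L : List (Fin 6 × Mat 6)} (hL : ChainOK PGE6.Am L) {Th : Mat 6} (hT : ∀ j, hd L (pi6 j) = Th j) :
    Lin (theta RGDTwE6.hp cs (cs.wordProd (L.map Prod.fst)) TwE6Fr.six) Th := by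
  intro j
  rw [theta_apply]
  have h1 : TwE6Fr.six (sr j) = sr (pi6 j) := funext (TwE6Fr.six_sr j)
  rw [h1, chain_rep RGDTwE6.hp cs PGE6.hA hL, hT]

theorem exists_pe {q : ℕ} (hq : IsPrimePow q) {F : Type u} [Field F] [Fintype F] {m : ℕ}
    (hF : Fintype.card F = q ^ m) : ∃ (p e : ℕ) (_ : Fact p.Prime) (_ : CharP (AlgebraicClosure F) p),
      0 < e ∧ q = p ^ e ∧ Cfsg.Agent.BpExc.TowChev.LocFin (AlgebraicClosure F) := by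
  obtain ⟨p, e', hpF, hpc, hpk, -, hpe, hk⟩ := TorusUntw.exists_closure hF
  obtain ⟨p', e, hp', he, hqe'⟩ := id hq
  have hpp : p' = p := by
    have h1 : p' ∣ p ^ e' := by
      rw [← hpe, ← hqe']
      have hm : m ≠ 0 := by
        rintro rfl
        rw [pow_zero] at hF
        exact Fintype.one_lt_card.ne' hF
      exact dvd_pow (dvd_pow_self p' he.ne') hm
    exact (Nat.prime_dvd_prime_iff_eq hp'.nat_prime hpF.out).1 (hp'.nat_prime.dvd_of_dvd_pow h1)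
  subst hpp
  exact ⟨p', e, hpF, hpk, he, hqe'.symm, hk⟩

theorem ne_of_not_dvd {p e q r : ℕ} (he : 0 < e) (hq : q = p ^ e) (hr : ¬ r ∣ q) : r ≠ p := by
  rintro rfl
  exact hr (by rw [hq]; exact dvd_pow_self _ he.ne')

/-- **Adjacency in `²E₆(q)`.** -/
theorem rel_six {F : Type u} [Field F] [Fintype F] {q : ℕ} (hq : IsPrimePow q) (hF : Fintype.card F = q ^ 2)
    {Ch : List (Fin 6 × Mat 6)} (hL : ChainOK PGE6.Am Ch) {Th : Mat 6} (hT : ∀ j, hd Ch (pi6 j) = Th j)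
    {f : ℕ} {c : Fin (f + 1) → ℤ} {L : Fin (f + 1) → Fin 6 → ℤ} {P : Fin 6 → ℤ} (h : EigOK (tr Th) c L P)
    {f' : ℕ} {c' : Fin (f' + 1) → ℤ} {L' : Fin (f' + 1) → Fin 6 → ℤ} {P' : Fin 6 → ℤ} (h' : EigOK (tr Th) c' L' P')
    {r s : ℕ} (hr : r.Prime) (hs : s.Prime) (hrs : r ≠ s) (h1 : phiT c q r) (h2 : phiT c' q s) :
    PG.Rel ↥(twistedE6 F q) r s := by
  obtain ⟨p, e, hpF, hpk, he, hqe, hk⟩ := exists_pe hq hF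
  have := PGE6.finW
  exact rel_of_fr RGDTwE6.hp CoxeterMatrix.E₆.toCoxeterSystem hk he TwE6Fr.isFrob_tau
    (TwE6Fr.fr_tau CoxeterMatrix.E₆.toCoxeterSystem) TorusChar.invC_E6 (by norm_num)
    (lin_six CoxeterMatrix.E₆.toCoxeterSystem hL hT) h h'
    (TwE6Fr.embT_injective (algebraMap F (AlgebraicClosure F)) (q := q)) (m := 3)
    (fun y hy => TwE6Fr.tau_pow_range _ hqe hq hF hy) hr hs hrs (ne_of_not_dvd he hqe h1.1)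
    (ne_of_not_dvd he hqe h2.1) (fun h3 => h1.2.1 ((Nat.prime_dvd_prime_iff_eq hr Nat.prime_three).1 h3))
    (fun h3 => h2.2.1 ((Nat.prime_dvd_prime_iff_eq hs Nat.prime_three).1 h3))
    (by rw [← hqe]; exact h1.2.2) (by rw [← hqe]; exact h2.2.2)

/-- **Adjacency in `³D₄(q)`.** -/
theorem rel_tri {F : Type u} [Field F] [Fintype F] {q : ℕ} (hq : IsPrimePow q) (hF : Fintype.card F = q ^ 3)
    {Ch : List (Fin 4 × Mat 4)} (hL : ChainOK DataD4C.Am Ch) {Th : Mat 4} (hT : ∀ j, hd Ch (pi4 j) = Th j)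
    {f : ℕ} {c : Fin (f + 1) → ℤ} {L : Fin (f + 1) → Fin 4 → ℤ} {P : Fin 4 → ℤ} (h : EigOK (tr Th) c L P)
    {f' : ℕ} {c' : Fin (f' + 1) → ℤ} {L' : Fin (f' + 1) → Fin 4 → ℤ} {P' : Fin 4 → ℤ} (h' : EigOK (tr Th) c' L' P')
    {r s : ℕ} (hr : r.Prime) (hs : s.Prime) (hrs : r ≠ s) (hrq : ¬ r ∣ q) (hsq : ¬ s ∣ q)
    (h1 : (r : ℤ) ∣ pv c (q : ℤ)) (h2 : (s : ℤ) ∣ pv c' (q : ℤ)) :
    PG.Rel ↥(twistedD4 F q) r s := by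
  obtain ⟨p, e, hpF, hpk, he, hqe, hk⟩ := exists_pe hq hF
  have := TwD4Cyc.finite_W
  exact rel_of_fr RGDTwD4.hp coxeterD4.toCoxeterSystem hk he TriD4.isFrob_tau
    (TriD4.fr_tau coxeterD4.toCoxeterSystem) TorusChar.invC_D4 (by norm_num)
    (TwD4Cyc.lin_tri coxeterD4.toCoxeterSystem DataD4C.hA hL hT) h h'
    (TriD4.embT_injective (algebraMap F (AlgebraicClosure F)) hq hF) (m := 1)
    (fun y hy => by rw [pow_one]; exact TriD4.tau_range _ hqe hq hF hy) hr hs hrs (ne_of_not_dvd he hqe hrq)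
    (ne_of_not_dvd he hqe hsq) (fun h3 => hr.one_lt.ne' (Nat.dvd_one.1 h3))
    (fun h3 => hs.one_lt.ne' (Nat.dvd_one.1 h3))
    (by rw [← hqe]; exact h1) (by rw [← hqe]; exact h2)

/-- partial products -/
def chE6_18 : List (Fin 6 × Mat 6) := [
    (0, ![![0, 0, 1, 0, 0, 0], ![1, 0, 1, 1, 0, 0], ![0, 1, 0, 1, 0, 0], ![-1, -1, -1, -1, 0, 0], ![1, 1, 1, 1, 1, 0],
      ![0, 0, 0, 0, 0, 1]]),
    (1, ![![1, 0, 1, 0, 0, 0], ![0, 0, 1, 1, 0, 0], ![0, 1, 0, 1, 0, 0], ![0, -1, -1, -1, 0, 0], ![0, 1, 1, 1, 1, 0],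
      ![0, 0, 0, 0, 0, 1]]),
    (2, ![![1, 0, 1, 0, 0, 0], ![0, 1, 1, 1, 0, 0], ![0, 0, 0, 1, 0, 0], ![0, 0, -1, -1, 0, 0], ![0, 0, 1, 1, 1, 0],
      ![0, 0, 0, 0, 0, 1]]),
    (3, ![![1, 0, 0, 0, 0, 0], ![0, 1, 0, 1, 0, 0], ![0, 0, 1, 1, 0, 0], ![0, 0, 0, -1, 0, 0], ![0, 0, 0, 1, 1, 0],
      ![0, 0, 0, 0, 0, 1]])]

theorem chE6_18_ok : ChainOK PGE6.Am chE6_18 := by decide +kernel

/-- the matrix of the lattice endomorphism -/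
def ThE6_18 : Mat 6 := ![![0, 0, 0, 0, 0, 1], ![1, 0, 1, 1, 0, 0], ![1, 1, 1, 1, 1, 0], ![-1, -1, -1, -1, 0, 0], ![0, 1, 0, 1, 0, 0],
    ![0, 0, 1, 0, 0, 0]]

theorem thE6_18_eq : ∀ j, hd chE6_18 (pi6 j) = ThE6_18 j := by decide +kernel

/-- the functional -/
def LE6_18_at18 : Fin 6 → Fin 6 → ℤ := ![![0, 0, 0, 0, 0, -1], ![1, 0, -1, 0, 0, 0], ![0, 0, 0, 0, -1, 1], ![0, 0, 1, -1, 0, 1], ![0, 1, 1, -1, 0, 0],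
    ![1, 0, 0, 0, 0, 0]]

/-- the vector -/
def PE6_18_at18 : Fin 6 → ℤ := ![0, -1, 0, -1, -1, -1]

theorem eE6_18_at18 : EigOK (tr ThE6_18) c18 LE6_18_at18 PE6_18_at18 := by decide +kernel

/-- partial products -/
def chE6_12_6 : List (Fin 6 × Mat 6) := [
    (3, ![![-1, 0, -1, -1, 0, 0], ![0, -1, 0, -1, 0, 0], ![1, 0, 0, 0, 0, 0], ![0, 1, 1, 2, 1, 0], ![0, 0, 0, 0, 0, 1],
      ![0, 0, 0, -1, -1, -1]]),
    (4, ![![-1, 0, -1, 0, 0, 0], ![0, -1, 0, 0, 0, 0], ![1, 0, 0, 0, 0, 0], ![0, 1, 1, 1, 1, 0], ![0, 0, 0, 0, 0, 1],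
      ![0, 0, 0, 0, -1, -1]]),
    (5, ![![-1, 0, -1, 0, 0, 0], ![0, -1, 0, 0, 0, 0], ![1, 0, 0, 0, 0, 0], ![0, 1, 1, 1, 0, 0], ![0, 0, 0, 0, 1, 1],
      ![0, 0, 0, 0, 0, -1]]),
    (2, ![![-1, 0, -1, 0, 0, 0], ![0, -1, 0, 0, 0, 0], ![1, 0, 0, 0, 0, 0], ![0, 1, 1, 1, 0, 0], ![0, 0, 0, 0, 1, 0],
      ![0, 0, 0, 0, 0, 1]]),
    (1, ![![-1, 0, 0, 0, 0, 0], ![0, -1, 0, 0, 0, 0], ![1, 0, 1, 0, 0, 0], ![0, 1, 0, 1, 0, 0], ![0, 0, 0, 0, 1, 0],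
      ![0, 0, 0, 0, 0, 1]]),
    (0, ![![-1, 0, 0, 0, 0, 0], ![0, 1, 0, 0, 0, 0], ![1, 0, 1, 0, 0, 0], ![0, 0, 0, 1, 0, 0], ![0, 0, 0, 0, 1, 0],
      ![0, 0, 0, 0, 0, 1]])]

theorem chE6_12_6_ok : ChainOK PGE6.Am chE6_12_6 := by decide +kernel

/-- the matrix of the lattice endomorphism -/
def ThE6_12_6 : Mat 6 := ![![0, 0, 0, -1, -1, -1], ![0, -1, 0, -1, 0, 0], ![0, 0, 0, 0, 0, 1], ![0, 1, 1, 2, 1, 0], ![1, 0, 0, 0, 0, 0],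
    ![-1, 0, -1, -1, 0, 0]]

theorem thE6_12_6_eq : ∀ j, hd chE6_12_6 (pi6 j) = ThE6_12_6 j := by decide +kernel

/-- the functional -/
def LE6_12_6_at12 : Fin 4 → Fin 6 → ℤ := ![![0, 0, -1, 1, -1, 0], ![-1, -1, 0, 1, 0, -1], ![0, -1, 0, 1, 0, 0], ![0, 1, 0, 0, 0, 0]]

/-- the vector -/
def PE6_12_6_at12 : Fin 6 → ℤ := ![0, 0, -1, 0, 0, 0]

theorem eE6_12_6_at12 : EigOK (tr ThE6_12_6) c12 LE6_12_6_at12 PE6_12_6_at12 := by decide +kernel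

/-- the functional -/
def LE6_12_6_at6 : Fin 2 → Fin 6 → ℤ := ![![-1, 0, 1, 0, -1, 1], ![0, 0, -1, 0, 1, 0]]

/-- the vector -/
def PE6_12_6_at6 : Fin 6 → ℤ := ![-1, 0, 0, 0, 0, 0]

theorem eE6_12_6_at6 : EigOK (tr ThE6_12_6) c6 LE6_12_6_at6 PE6_12_6_at6 := by decide +kernel

/-- partial products -/
def chE6_8_1_2 : List (Fin 6 × Mat 6) := [
    (1, ![![1, 0, 1, 0, 0, 0], ![0, 0, 1, 1, 0, 0], ![0, 1, 0, 1, 0, 0], ![0, -1, -1, -1, 0, 0], ![0, 1, 1, 1, 1, 0],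
      ![0, 0, 0, 0, 0, 1]]),
    (2, ![![1, 0, 1, 0, 0, 0], ![0, 1, 1, 1, 0, 0], ![0, 0, 0, 1, 0, 0], ![0, 0, -1, -1, 0, 0], ![0, 0, 1, 1, 1, 0],
      ![0, 0, 0, 0, 0, 1]]),
    (3, ![![1, 0, 0, 0, 0, 0], ![0, 1, 0, 1, 0, 0], ![0, 0, 1, 1, 0, 0], ![0, 0, 0, -1, 0, 0], ![0, 0, 0, 1, 1, 0],
      ![0, 0, 0, 0, 0, 1]])]

theorem chE6_8_1_2_ok : ChainOK PGE6.Am chE6_8_1_2 := by decide +kernel

/-- the matrix of the lattice endomorphism -/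
def ThE6_8_1_2 : Mat 6 := ![![0, 0, 0, 0, 0, 1], ![0, 0, 1, 1, 0, 0], ![0, 1, 1, 1, 1, 0], ![0, -1, -1, -1, 0, 0], ![0, 1, 0, 1, 0, 0],
    ![1, 0, 1, 0, 0, 0]]

theorem thE6_8_1_2_eq : ∀ j, hd chE6_8_1_2 (pi6 j) = ThE6_8_1_2 j := by decide +kernel

/-- the functional -/
def LE6_8_1_2_at8 : Fin 4 → Fin 6 → ℤ := ![![-1, -1, 1, 1, -1, 0], ![0, 0, 0, -1, 2, -1], ![0, 1, -1, 1, -1, 0], ![0, -2, 0, 1, 0, 0]]

/-- the vector -/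
def PE6_8_1_2_at8 : Fin 6 → ℤ := ![-1, 0, 0, 0, 0, 0]

theorem eE6_8_1_2_at8 : EigOK (tr ThE6_8_1_2) c8 LE6_8_1_2_at8 PE6_8_1_2_at8 := by decide +kernel

/-- the functional -/
def LE6_8_1_2_at1 : Fin 1 → Fin 6 → ℤ := ![![1, 0, 0, 0, 0, 1]]

/-- the vector -/
def PE6_8_1_2_at1 : Fin 6 → ℤ := ![1, 0, 0, 0, 0, 0]

theorem eE6_8_1_2_at1 : EigOK (tr ThE6_8_1_2) c1 LE6_8_1_2_at1 PE6_8_1_2_at1 := by decide +kernel

/-- the functional -/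
def LE6_8_1_2_at2 : Fin 1 → Fin 6 → ℤ := ![![-1, 0, 0, 0, 0, 1]]

/-- the vector -/
def PE6_8_1_2_at2 : Fin 6 → ℤ := ![-1, 0, 0, 0, 0, 0]

theorem eE6_8_1_2_at2 : EigOK (tr ThE6_8_1_2) c2 LE6_8_1_2_at2 PE6_8_1_2_at2 := by decide +kernel

/-- partial products -/
def chE6_10 : List (Fin 6 × Mat 6) := [
    (0, ![![0, 0, 1, 0, 0, 0], ![1, 1, 1, 1, 0, 0], ![0, 0, 0, 1, 0, 0], ![-1, 0, -1, -1, 0, 0], ![1, 0, 1, 1, 1, 0],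
      ![0, 0, 0, 0, 0, 1]]),
    (2, ![![1, 0, 1, 0, 0, 0], ![0, 1, 1, 1, 0, 0], ![0, 0, 0, 1, 0, 0], ![0, 0, -1, -1, 0, 0], ![0, 0, 1, 1, 1, 0],
      ![0, 0, 0, 0, 0, 1]]),
    (3, ![![1, 0, 0, 0, 0, 0], ![0, 1, 0, 1, 0, 0], ![0, 0, 1, 1, 0, 0], ![0, 0, 0, -1, 0, 0], ![0, 0, 0, 1, 1, 0],
      ![0, 0, 0, 0, 0, 1]])]

theorem chE6_10_ok : ChainOK PGE6.Am chE6_10 := by decide +kernel

/-- the matrix of the lattice endomorphism -/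
def ThE6_10 : Mat 6 := ![![0, 0, 0, 0, 0, 1], ![1, 1, 1, 1, 0, 0], ![1, 0, 1, 1, 1, 0], ![-1, 0, -1, -1, 0, 0], ![0, 0, 0, 1, 0, 0],
    ![0, 0, 1, 0, 0, 0]]

theorem thE6_10_eq : ∀ j, hd chE6_10 (pi6 j) = ThE6_10 j := by decide +kernel

/-- the functional -/
def LE6_10_at10 : Fin 4 → Fin 6 → ℤ := ![![0, 0, 0, 0, -1, 2], ![-1, 0, 2, -1, 1, -2], ![2, -1, -2, 1, 0, 1], ![-2, 0, 1, 0, 0, 0]]

/-- the vector -/
def PE6_10_at10 : Fin 6 → ℤ := ![0, -1, 0, -1, -1, 0]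

theorem eE6_10_at10 : EigOK (tr ThE6_10) c10 LE6_10_at10 PE6_10_at10 := by decide +kernel

/-- partial products -/
def chE6_4_3 : List (Fin 6 × Mat 6) := [
    (0, ![![-1, 0, 0, 0, 0, 0], ![0, 0, 0, 1, 0, 0], ![1, 1, 1, 1, 0, 0], ![0, -1, 0, -1, 0, 0], ![0, 1, 0, 1, 1, 0],
      ![0, 0, 0, 0, 0, 1]]),
    (1, ![![1, 0, 0, 0, 0, 0], ![0, 0, 0, 1, 0, 0], ![0, 1, 1, 1, 0, 0], ![0, -1, 0, -1, 0, 0], ![0, 1, 0, 1, 1, 0],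
      ![0, 0, 0, 0, 0, 1]]),
    (3, ![![1, 0, 0, 0, 0, 0], ![0, 1, 0, 1, 0, 0], ![0, 0, 1, 1, 0, 0], ![0, 0, 0, -1, 0, 0], ![0, 0, 0, 1, 1, 0],
      ![0, 0, 0, 0, 0, 1]])]

theorem chE6_4_3_ok : ChainOK PGE6.Am chE6_4_3 := by decide +kernel

/-- the matrix of the lattice endomorphism -/
def ThE6_4_3 : Mat 6 := ![![0, 0, 0, 0, 0, 1], ![0, 0, 0, 1, 0, 0], ![0, 1, 0, 1, 1, 0], ![0, -1, 0, -1, 0, 0], ![1, 1, 1, 1, 0, 0],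
    ![-1, 0, 0, 0, 0, 0]]

theorem thE6_4_3_eq : ∀ j, hd chE6_4_3 (pi6 j) = ThE6_4_3 j := by decide +kernel

/-- the functional -/
def LE6_4_3_at4 : Fin 2 → Fin 6 → ℤ := ![![-2, 0, 1, 0, 0, 0], ![0, 0, 0, 0, 1, -2]]

/-- the vector -/
def PE6_4_3_at4 : Fin 6 → ℤ := ![0, 0, 1, 0, 0, 0]

theorem eE6_4_3_at4 : EigOK (tr ThE6_4_3) c4 LE6_4_3_at4 PE6_4_3_at4 := by decide +kernel

/-- the functional -/
def LE6_4_3_at3 : Fin 2 → Fin 6 → ℤ := ![![0, -1, -1, 2, -1, 0], ![0, -2, 0, 1, 0, 0]]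

/-- the vector -/
def PE6_4_3_at3 : Fin 6 → ℤ := ![0, -1, -4, -2, 0, 0]

theorem eE6_4_3_at3 : EigOK (tr ThE6_4_3) c3 LE6_4_3_at3 PE6_4_3_at3 := by decide +kernel

/-- partial products -/
def chD4_12 : List (Fin 4 × Mat 4) := [
    (0, ![![0, 1, 0, 0], ![-1, -1, 0, 0], ![1, 1, 1, 0], ![1, 1, 0, 1]]),
    (1, ![![1, 1, 0, 0], ![0, -1, 0, 0], ![0, 1, 1, 0], ![0, 1, 0, 1]])]

theorem chD4_12_ok : ChainOK DataD4C.Am chD4_12 := by decide +kernel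

/-- the matrix of the lattice endomorphism -/
def ThD4_12 : Mat 4 := ![![1, 1, 1, 0], ![-1, -1, 0, 0], ![1, 1, 0, 1], ![0, 1, 0, 0]]

theorem thD4_12_eq : ∀ j, hd chD4_12 (pi4 j) = ThD4_12 j := by decide +kernel

/-- the functional -/
def LD4_12_at12 : Fin 4 → Fin 4 → ℤ := ![![0, 0, -1, 0], ![0, 0, 0, -1], ![1, -1, 1, 0], ![1, 0, 0, 0]]

/-- the vector -/
def PD4_12_at12 : Fin 4 → ℤ := ![0, -1, -1, 0]

theorem eD4_12_at12 : EigOK (tr ThD4_12) c12 LD4_12_at12 PD4_12_at12 := by decide +kernel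

/-- partial products -/
def chD4_3_1_2 : List (Fin 4 × Mat 4) := [
    (1, ![![1, 1, 0, 0], ![0, -1, 0, 0], ![0, 1, 1, 0], ![0, 1, 0, 1]])]

theorem chD4_3_1_2_ok : ChainOK DataD4C.Am chD4_3_1_2 := by decide +kernel

/-- the matrix of the lattice endomorphism -/
def ThD4_3_1_2 : Mat 4 := ![![0, 1, 1, 0], ![0, -1, 0, 0], ![0, 1, 0, 1], ![1, 1, 0, 0]]

theorem thD4_3_1_2_eq : ∀ j, hd chD4_3_1_2 (pi4 j) = ThD4_3_1_2 j := by decide +kernel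

/-- the functional -/
def LD4_3_1_2_at3 : Fin 2 → Fin 4 → ℤ := ![![0, 0, 1, -1], ![-1, 0, 1, 0]]

/-- the vector -/
def PD4_3_1_2_at3 : Fin 4 → ℤ := ![1, 0, 1, 0]

theorem eD4_3_1_2_at3 : EigOK (tr ThD4_3_1_2) c3 LD4_3_1_2_at3 PD4_3_1_2_at3 := by decide +kernel

/-- the functional -/
def LD4_3_1_2_at1 : Fin 1 → Fin 4 → ℤ := ![![1, 0, 1, 1]]

/-- the vector -/
def PD4_3_1_2_at1 : Fin 4 → ℤ := ![1, 0, 0, 0]

theorem eD4_3_1_2_at1 : EigOK (tr ThD4_3_1_2) c1 LD4_3_1_2_at1 PD4_3_1_2_at1 := by decide +kernel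

/-- the functional -/
def LD4_3_1_2_at2 : Fin 1 → Fin 4 → ℤ := ![![1, -2, 1, 1]]

/-- the vector -/
def PD4_3_1_2_at2 : Fin 4 → ℤ := ![1, 0, 0, 0]

theorem eD4_3_1_2_at2 : EigOK (tr ThD4_3_1_2) c2 LD4_3_1_2_at2 PD4_3_1_2_at2 := by decide +kernel

/-- partial products -/
def chD4_6 : List (Fin 4 × Mat 4) := [
    (0, ![![-1, 0, 0, 0], ![1, 1, 0, 0], ![0, 0, 1, 0], ![0, 0, 0, 1]])]

theorem chD4_6_ok : ChainOK DataD4C.Am chD4_6 := by decide +kernel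

/-- the matrix of the lattice endomorphism -/
def ThD4_6 : Mat 4 := ![![0, 0, 1, 0], ![1, 1, 0, 0], ![0, 0, 0, 1], ![-1, 0, 0, 0]]

theorem thD4_6_eq : ∀ j, hd chD4_6 (pi4 j) = ThD4_6 j := by decide +kernel

/-- the functional -/
def LD4_6_at6 : Fin 2 → Fin 4 → ℤ := ![![1, -1, 1, 0], ![-1, 0, 0, 1]]

/-- the vector -/
def PD4_6_at6 : Fin 4 → ℤ := ![0, -1, 0, 0]

theorem eD4_6_at6 : EigOK (tr ThD4_6) c6 LD4_6_at6 PD4_6_at6 := by decide +kernel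

/-- the cliques of `²E₆(q)` -/
def K2E6 (q : ℕ) : List (ℕ → Prop) := [
    phiT c18 q,
    fun r => phiT c12 q r ∨ phiT c6 q r,
    fun r => phiT c8 q r ∨ (phiT c1 q r ∨ phiT c2 q r),
    phiT c10 q,
    fun r => phiT c4 q r ∨ phiT c3 q r]

theorem clique_2E6 (F : Type u) [Field F] [Fintype F] {q : ℕ} (hq : IsPrimePow q) (hF : Fintype.card F = q ^ 2) :
    ∀ C ∈ K2E6 q, Cl ↥(twistedE6 F q) C := by
  intro C hC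
  simp only [K2E6, List.mem_cons, List.not_mem_nil, or_false] at hC
  rcases hC with rfl | rfl | rfl | rfl | rfl
  · exact fun _ _ hr hs hrs h1 h2 => rel_six hq hF chE6_18_ok thE6_18_eq eE6_18_at18 eE6_18_at18 hr hs hrs h1 h2
  · exact Cl.or (fun _ _ hr hs hrs h1 h2 => rel_six hq hF chE6_12_6_ok thE6_12_6_eq eE6_12_6_at12 eE6_12_6_at12 hr hs hrs h1 h2)
      (fun _ _ hr hs hrs h1 h2 => rel_six hq hF chE6_12_6_ok thE6_12_6_eq eE6_12_6_at6 eE6_12_6_at6 hr hs hrs h1 h2)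
      (fun _ _ hr hs hrs h1 h2 => rel_six hq hF chE6_12_6_ok thE6_12_6_eq eE6_12_6_at12 eE6_12_6_at6 hr hs hrs h1 h2)
  · refine Cl.or (fun _ _ hr hs hrs h1 h2 => rel_six hq hF chE6_8_1_2_ok thE6_8_1_2_eq eE6_8_1_2_at8 eE6_8_1_2_at8 hr hs hrs h1 h2)
      (Cl.or (fun _ _ hr hs hrs h1 h2 => rel_six hq hF chE6_8_1_2_ok thE6_8_1_2_eq eE6_8_1_2_at1 eE6_8_1_2_at1 hr hs hrs h1 h2)
        (fun _ _ hr hs hrs h1 h2 => rel_six hq hF chE6_8_1_2_ok thE6_8_1_2_eq eE6_8_1_2_at2 eE6_8_1_2_at2 hr hs hrs h1 h2)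
        (fun _ _ hr hs hrs h1 h2 => rel_six hq hF chE6_8_1_2_ok thE6_8_1_2_eq eE6_8_1_2_at1 eE6_8_1_2_at2 hr hs hrs h1 h2)) ?_
    rintro r s hr hs hrs h1 (h2 | h2)
    · exact rel_six hq hF chE6_8_1_2_ok thE6_8_1_2_eq eE6_8_1_2_at8 eE6_8_1_2_at1 hr hs hrs h1 h2
    · exact rel_six hq hF chE6_8_1_2_ok thE6_8_1_2_eq eE6_8_1_2_at8 eE6_8_1_2_at2 hr hs hrs h1 h2
  · exact fun _ _ hr hs hrs h1 h2 => rel_six hq hF chE6_10_ok thE6_10_eq eE6_10_at10 eE6_10_at10 hr hs hrs h1 h2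
  · exact Cl.or (fun _ _ hr hs hrs h1 h2 => rel_six hq hF chE6_4_3_ok thE6_4_3_eq eE6_4_3_at4 eE6_4_3_at4 hr hs hrs h1 h2)
      (fun _ _ hr hs hrs h1 h2 => rel_six hq hF chE6_4_3_ok thE6_4_3_eq eE6_4_3_at3 eE6_4_3_at3 hr hs hrs h1 h2)
      (fun _ _ hr hs hrs h1 h2 => rel_six hq hF chE6_4_3_ok thE6_4_3_eq eE6_4_3_at4 eE6_4_3_at3 hr hs hrs h1 h2)

theorem cover_2E6 (F : Type u) [Field F] [Fintype F] {q : ℕ} (hq : IsPrimePow q) (hF : Fintype.card F = q ^ 2) :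
    Cover ↥(twistedE6 F q) q 5 := by
  refine cover_of_list (K2E6 q) rfl (fun r hr h3 hrq hd => ?_) (clique_2E6 F hq hF)
  have h := S1066.result hq hF
  have hq0 : 0 < q := hq.pos
  have hdv : (r : ℤ) ∣ ((Nat.card ↥(twistedE6 F q) : ℕ) : ℤ) := Int.natCast_dvd_natCast.2 hd
  replace hdv := hdv.mul_left ((Nat.gcd 3 (q + 1) : ℕ) : ℤ)
  rw [← Nat.cast_mul, h] at hdv
  by_contra hn
  have hr3 : r ≠ 3 := by omega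
  have n1 : ¬ (r : ℤ) ∣ pv c1 (q : ℤ) := fun h => hn ⟨_, .tail _ (.tail _ (.head _)), .inr (.inl ⟨hrq, hr3, h⟩)⟩
  have n2 : ¬ (r : ℤ) ∣ pv c2 (q : ℤ) := fun h => hn ⟨_, .tail _ (.tail _ (.head _)), .inr (.inr ⟨hrq, hr3, h⟩)⟩
  have n3 : ¬ (r : ℤ) ∣ pv c3 (q : ℤ) := fun h => hn ⟨_, .tail _ (.tail _ (.tail _ (.tail _ (.head _)))), .inr ⟨hrq, hr3, h⟩⟩
  have n4 : ¬ (r : ℤ) ∣ pv c4 (q : ℤ) := fun h => hn ⟨_, .tail _ (.tail _ (.tail _ (.tail _ (.head _)))), .inl ⟨hrq, hr3, h⟩⟩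
  have n6 : ¬ (r : ℤ) ∣ pv c6 (q : ℤ) := fun h => hn ⟨_, .tail _ (.head _), .inr ⟨hrq, hr3, h⟩⟩
  have n8 : ¬ (r : ℤ) ∣ pv c8 (q : ℤ) := fun h => hn ⟨_, .tail _ (.tail _ (.head _)), .inl ⟨hrq, hr3, h⟩⟩
  have n10 : ¬ (r : ℤ) ∣ pv c10 (q : ℤ) := fun h => hn ⟨_, .tail _ (.tail _ (.tail _ (.head _))), ⟨hrq, hr3, h⟩⟩
  have n12 : ¬ (r : ℤ) ∣ pv c12 (q : ℤ) := fun h => hn ⟨_, .tail _ (.head _), .inl ⟨hrq, hr3, h⟩⟩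
  have n18 : ¬ (r : ℤ) ∣ pv c18 (q : ℤ) := fun h => hn ⟨_, .head _, ⟨hrq, hr3, h⟩⟩
  have nq : ¬ (r : ℤ) ∣ ((q : ℕ) : ℤ) := fun h' => hrq (Int.natCast_dvd_natCast.1 h')
  have hpr := Nat.prime_iff_prime_int.1 hr
  simp only [Nat.cast_mul, Nat.cast_pow, Nat.cast_add, Nat.cast_one, cast_sub _ _ hq0, f2, f6, f8, f12, g5, g9,
    hpr.dvd_mul] at hdv
  have nqa : ¬ (r : ℤ) ∣ ((q : ℕ) : ℤ) ^ 36 := fun h' => nq (hpr.dvd_of_dvd_pow h')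
  simp only [nqa, n1, n2, n3, n4, n6, n8, n10, n12, n18, or_self] at hdv

/-- the prime divisors, not dividing `q`, of the value of a polynomial -/
def phiD {f : ℕ} (c : Fin f → ℤ) (q : ℕ) : ℕ → Prop := fun r => ¬ r ∣ q ∧ (r : ℤ) ∣ pv c q

/-- the cliques of `³D₄(q)` -/
def K3D4 (q : ℕ) : List (ℕ → Prop) := [
    phiD c12 q,
    fun r => phiD c3 q r ∨ (phiD c1 q r ∨ phiD c2 q r),
    phiD c6 q]

theorem clique_3D4 (F : Type u) [Field F] [Fintype F] {q : ℕ} (hq : IsPrimePow q) (hF : Fintype.card F = q ^ 3) :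
    ∀ C ∈ K3D4 q, Cl ↥(twistedD4 F q) C := by
  intro C hC
  simp only [K3D4, List.mem_cons, List.not_mem_nil, or_false] at hC
  rcases hC with rfl | rfl | rfl
  · exact fun _ _ hr hs hrs h1 h2 => rel_tri hq hF chD4_12_ok thD4_12_eq eD4_12_at12 eD4_12_at12 hr hs hrs h1.1 h2.1 h1.2 h2.2
  · refine Cl.or (fun _ _ hr hs hrs h1 h2 => rel_tri hq hF chD4_3_1_2_ok thD4_3_1_2_eq eD4_3_1_2_at3 eD4_3_1_2_at3 hr hs hrs h1.1 h2.1 h1.2 h2.2)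
      (Cl.or (fun _ _ hr hs hrs h1 h2 => rel_tri hq hF chD4_3_1_2_ok thD4_3_1_2_eq eD4_3_1_2_at1 eD4_3_1_2_at1 hr hs hrs h1.1 h2.1 h1.2 h2.2)
        (fun _ _ hr hs hrs h1 h2 => rel_tri hq hF chD4_3_1_2_ok thD4_3_1_2_eq eD4_3_1_2_at2 eD4_3_1_2_at2 hr hs hrs h1.1 h2.1 h1.2 h2.2)
        (fun _ _ hr hs hrs h1 h2 => rel_tri hq hF chD4_3_1_2_ok thD4_3_1_2_eq eD4_3_1_2_at1 eD4_3_1_2_at2 hr hs hrs h1.1 h2.1 h1.2 h2.2)) ?_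
    rintro r s hr hs hrs h1 (h2 | h2)
    · exact rel_tri hq hF chD4_3_1_2_ok thD4_3_1_2_eq eD4_3_1_2_at3 eD4_3_1_2_at1 hr hs hrs h1.1 h2.1 h1.2 h2.2
    · exact rel_tri hq hF chD4_3_1_2_ok thD4_3_1_2_eq eD4_3_1_2_at3 eD4_3_1_2_at2 hr hs hrs h1.1 h2.1 h1.2 h2.2
  · exact fun _ _ hr hs hrs h1 h2 => rel_tri hq hF chD4_6_ok thD4_6_eq eD4_6_at6 eD4_6_at6 hr hs hrs h1.1 h2.1 h1.2 h2.2

theorem dvd_3D4 {F : Type u} [Field F] [Fintype F] {q : ℕ} (hq : IsPrimePow q) (hF : Fintype.card F = q ^ 3) {r : ℕ}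
    (hr : r.Prime) (hrq : ¬ r ∣ q) (hd : r ∣ Nat.card ↥(twistedD4 F q)) :
    (r : ℤ) ∣ pv c1 (q : ℤ) ∨ (r : ℤ) ∣ pv c2 (q : ℤ) ∨ (r : ℤ) ∣ pv c3 (q : ℤ) ∨ (r : ℤ) ∣ pv c6 (q : ℤ) ∨
      (r : ℤ) ∣ pv c12 (q : ℤ) := by
  have h := S1067.result hq hF
  have hq0 : 0 < q := hq.pos
  have hdv : (r : ℤ) ∣ ((Nat.card ↥(twistedD4 F q) : ℕ) : ℤ) := Int.natCast_dvd_natCast.2 hd
  rw [h] at hdv
  have nq : ¬ (r : ℤ) ∣ ((q : ℕ) : ℤ) := fun h' => hrq (Int.natCast_dvd_natCast.1 h')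
  have hpr := Nat.prime_iff_prime_int.1 hr
  simp only [Nat.cast_mul, Nat.cast_pow, Nat.cast_add, Nat.cast_one, cast_sub _ _ hq0, f2, f6, g8,
    hpr.dvd_mul] at hdv
  have nqa : ¬ (r : ℤ) ∣ ((q : ℕ) : ℤ) ^ 12 := fun h' => nq (hpr.dvd_of_dvd_pow h')
  simp only [nqa, false_or] at hdv
  tauto

theorem cover_3D4 (F : Type u) [Field F] [Fintype F] {q : ℕ} (hq : IsPrimePow q) (hF : Fintype.card F = q ^ 3) :
    Cover ↥(twistedD4 F q) q 3 := by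
  refine cover_of_list (K3D4 q) rfl (fun r hr _ hrq hd => ?_) (clique_3D4 F hq hF)
  rcases dvd_3D4 hq hF hr hrq hd with h | h | h | h | h
  · exact ⟨_, .tail _ (.head _), .inr (.inl ⟨hrq, h⟩)⟩
  · exact ⟨_, .tail _ (.head _), .inr (.inr ⟨hrq, h⟩)⟩
  · exact ⟨_, .tail _ (.head _), .inl ⟨hrq, h⟩⟩
  · exact ⟨_, .tail _ (.tail _ (.head _)), ⟨hrq, h⟩⟩
  · exact ⟨_, .head _, ⟨hrq, h⟩⟩

theorem te6_cover {F : Type} [Field F] [Fintype F] {q : ℕ} (hF : Fintype.card F = q ^ 2) (hq : IsPrimePow q) :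
    Cover ↥(Lie.twistedE6 F q) q 5 := cover_2E6 F hq hF

theorem td4_cover {F : Type} [Field F] [Fintype F] {q : ℕ} (hF : Fintype.card F = q ^ 3) (hq : IsPrimePow q) :
    Cover ↥(Lie.twistedD4 F q) q 3 := cover_3D4 F hq hF

end Cfsg.Agent.H168.TwCover
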