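import Cfsg.Agent.H168.ExcCover
import Cfsg.Agent.H168.TwCover
import Cfsg.Agent.H168.TwF4Cover
import Cfsg.Agent.H376.Coc
import Cfsg.Agent.S1074
import Cfsg.Prelude.Def_LieTwisted

/-!
# Clique covers and cocliques of the prime graphs of all exceptional groups of Lie type (helper168)

`ExcCov G q c` : `q` is a prime power and `Cover G q c`. For every family the number `c`:
`G₂` 3, `F₄` 5, `E₆` 5, `E₇` 8, `E₈` 12, `²E₆` 5, `³D₄` 3, `Sz` 3, `²G₂` 4, `²F₄` 5, `²F₄(2)'` 2.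

* `exists_cover` : one of these for every exceptional group;
* `coc_le` : a coclique has at most `c + 3` elements; `coc_le_big` : at most `c + 1`, if its elements are greater than 3.
-/

set_option autoImplicit false

namespace Cfsg.Agent.H168.ExcCoc

open Cfsg Cfsg.Lie Cfsg.Agent.H420.QR Cfsg.Agent.H376.Coc Cfsg.Agent.H168

/-- `q` is a power of a prime and `c` cliques cover the primes `> 3` not dividing `q` -/
def ExcCov (G : Type*) [Group G] (q c : ℕ) : Prop := IsPrimePow q ∧ Cover G q c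

theorem isPrimePow_card (F : Type*) [Field F] [Fintype F] : IsPrimePow (Fintype.card F) := by
  obtain ⟨p, hp⟩ := CharP.exists F
  obtain ⟨n, h1, h2⟩ := FiniteField.card F p
  exact ⟨p, n, h1.prime, n.pos, h2.symm⟩

theorem g2 {G : Type*} [Group G] (h : IsoChevG2 G) : ∃ q, ExcCov G q 3 := by
  obtain ⟨F, _, _, _, ⟨e⟩⟩ := h
  exact ⟨_, isPrimePow_card F, Cover.congr e ExcCover.g2_cover⟩

theorem f4 {G : Type*} [Group G] (h : IsoF4 G) : ∃ q, ExcCov G q 5 := by
  obtain ⟨F, _, _, ⟨e⟩⟩ := h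
  exact ⟨_, isPrimePow_card F, Cover.congr e ExcCover.f4_cover⟩

theorem e6 {G : Type*} [Group G] (h : IsoChevE6 G) : ∃ q, ExcCov G q 5 := by
  obtain ⟨F, _, _, ⟨e⟩⟩ := h
  exact ⟨_, isPrimePow_card F, Cover.congr e ExcCover.e6_cover⟩

theorem e7 {G : Type*} [Group G] (h : IsoE7 G) : ∃ q, ExcCov G q 8 := by
  obtain ⟨F, _, _, ⟨e⟩⟩ := h
  exact ⟨_, isPrimePow_card F, Cover.congr e ExcCover.e7_cover⟩

theorem e8 {G : Type*} [Group G] (h : IsoE8 G) : ∃ q, ExcCov G q 12 := by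
  obtain ⟨F, _, _, ⟨e⟩⟩ := h
  exact ⟨_, isPrimePow_card F, Cover.congr e ExcCover.e8_cover⟩

theorem te6 {G : Type*} [Group G] (h : Iso2E6 G) : ∃ q, ExcCov G q 5 := by
  obtain ⟨F, _, _, q, hq, hF, ⟨e⟩⟩ := h
  exact ⟨q, hq, Cover.congr e (TwCover.te6_cover hF hq)⟩

theorem td4 {G : Type*} [Group G] (h : Iso3D4 G) : ∃ q, ExcCov G q 3 := by
  obtain ⟨F, _, _, q, hq, hF, ⟨e⟩⟩ := h
  exact ⟨q, hq, Cover.congr e (TwCover.td4_cover hF hq)⟩

theorem sz {G : Type*} [Group G] (h : IsoSuzuki G) : ExcCov G 2 3 :=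
  ⟨Nat.prime_two.isPrimePow, TwF4Cover.cover_suzuki h⟩

theorem ree {G : Type*} [Group G] (h : IsoRee G) : ExcCov G 3 4 :=
  ⟨Nat.prime_three.isPrimePow, TwF4Cover.cover_ree h⟩

theorem tf4 {G : Type*} [Group G] (h : Iso2F4 G) : ExcCov G 2 5 := by
  obtain ⟨F, _, _, m, _, hF, ⟨e⟩⟩ := h
  exact ⟨Nat.prime_two.isPrimePow, Cover.congr e (TwF4Cover.tf4_cover hF)⟩

theorem tits_cover {G : Type*} [Group G] (hcard : Nat.card G = 2 ^ 11 * 3 ^ 3 * 5 ^ 2 * 13) : Cover G 2 2 := by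
  refine ⟨fun i r => if i = 0 then r = 5 else r = 13, ?_, ?_⟩
  · intro r hr h3 h2 hd
    rw [hcard] at hd
    rcases (Nat.Prime.dvd_mul hr).1 hd with hd | hd
    · rcases (Nat.Prime.dvd_mul hr).1 hd with hd | hd
      · rcases (Nat.Prime.dvd_mul hr).1 hd with hd | hd
        · exact absurd (hr.dvd_of_dvd_pow hd) h2
        · have h4 := (Nat.prime_dvd_prime_iff_eq hr Nat.prime_three).1 (hr.dvd_of_dvd_pow hd)
          omega
      · exact ⟨0, (Nat.prime_dvd_prime_iff_eq hr Nat.prime_five).1 (hr.dvd_of_dvd_pow hd)⟩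
    · exact ⟨1, (Nat.prime_dvd_prime_iff_eq hr (by norm_num)).1 hd⟩
  · intro i r s _ _ _ _ _ _ _ _ hrs h1 h2
    by_cases hi : i = 0
    · rw [if_pos hi] at h1 h2
      exact absurd (h1.trans h2.symm) hrs
    · rw [if_neg hi] at h1 h2
      exact absurd (h1.trans h2.symm) hrs

theorem tits {G : Type*} [Group G] (h : IsoTits G) : ExcCov G 2 2 := by
  obtain ⟨e⟩ := h
  have hc : Nat.card G = Nat.card TitsGroup := Nat.card_congr e.toEquiv
  exact ⟨Nat.prime_two.isPrimePow, tits_cover (hc.trans S1074.result.2.2.2)⟩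

/-- the exceptional groups -/
def IsExc (G : Type*) [Group G] : Prop :=
  IsoChevG2 G ∨ IsoF4 G ∨ IsoChevE6 G ∨ IsoE7 G ∨ IsoE8 G ∨ Iso2E6 G ∨ Iso3D4 G ∨ IsoSuzuki G ∨ IsoRee G ∨
    Iso2F4 G ∨ IsoTits G

theorem ExcCov.mono {G : Type*} [Group G] {q c d : ℕ} (h : ExcCov G q c) (hcd : c ≤ d) : ExcCov G q d :=
  ⟨h.1, h.2.mono hcd⟩

/-- **A uniform cover.** -/
theorem exists_cover {G : Type*} [Group G] (h : IsExc G) : ∃ q, ExcCov G q 12 := by
  rcases h with h | h | h | h | h | h | h | h | h | h | h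
  · exact (g2 h).imp fun _ h => h.mono (by norm_num)
  · exact (f4 h).imp fun _ h => h.mono (by norm_num)
  · exact (e6 h).imp fun _ h => h.mono (by norm_num)
  · exact (e7 h).imp fun _ h => h.mono (by norm_num)
  · exact e8 h
  · exact (te6 h).imp fun _ h => h.mono (by norm_num)
  · exact (td4 h).imp fun _ h => h.mono (by norm_num)
  · exact ⟨_, (sz h).mono (by norm_num)⟩
  · exact ⟨_, (ree h).mono (by norm_num)⟩
  · exact ⟨_, (tf4 h).mono (by norm_num)⟩
  · exact ⟨_, (tits h).mono (by norm_num)⟩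

/-- a coclique of primes `> 3` has at most `c + 1` elements -/
theorem coc_le_big {G : Type*} [Group G] {q c : ℕ} (h : ExcCov G q c) {C : Finset ℕ} (hC : IsCoc G C)
    (h3 : ∀ r ∈ C, 3 < r) : C.card ≤ c + 1 := by
  classical
  obtain ⟨⟨p, k, hp, -, hq⟩, hcov⟩ := h
  have h1 : (C.erase p).card ≤ c := by
    refine hcov.card_le (C.erase p) (fun r hr => ?_) fun r hr s hs hrs => ?_
    · obtain ⟨hrp, hrC⟩ := Finset.mem_erase.1 hr
      refine ⟨hC.prime r hrC, h3 r hrC, fun hd => hrp ?_, hC.dvd r hrC⟩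
      rw [← hq] at hd
      exact (Nat.prime_dvd_prime_iff_eq (hC.prime r hrC) hp.nat_prime).1 ((hC.prime r hrC).dvd_of_dvd_pow hd)
    · exact hC.indep r (Finset.mem_of_mem_erase hr) s (Finset.mem_of_mem_erase hs) hrs
  have h2 := Finset.pred_card_le_card_erase (s := C) (a := p)
  omega

/-- a coclique has at most `c + 3` elements -/
theorem coc_le {G : Type*} [Group G] {q c : ℕ} (h : ExcCov G q c) {C : Finset ℕ} (hC : IsCoc G C) :
    C.card ≤ c + 3 := by
  classical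
  have h1 := coc_le_big h (hC.subset (Finset.filter_subset (fun r => 3 < r) C))
    (fun r hr => (Finset.mem_filter.1 hr).2)
  have h2 : (C.filter fun r => ¬ 3 < r).card ≤ ({2, 3} : Finset ℕ).card := by
    refine Finset.card_le_card fun r hr => ?_
    obtain ⟨h4, h5⟩ := Finset.mem_filter.1 hr
    have h6 := (hC.prime r h4).two_le
    rw [Finset.mem_insert, Finset.mem_singleton]
    omega
  have h3 : ({2, 3} : Finset ℕ).card = 2 := rfl
  have h4 := Finset.card_filter_add_card_filter_not (s := C) (fun r => 3 < r)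
  omega

/-- **Cocliques of the exceptional groups.** -/
theorem exc_coc {G : Type*} [Group G] (h : IsExc G) {C : Finset ℕ} (hC : IsCoc G C) : C.card ≤ 15 := by
  obtain ⟨q, hq⟩ := exists_cover h
  exact coc_le hq hC

/-- **Cocliques of primes `> 3` of the exceptional groups.** -/
theorem exc_coc_big {G : Type*} [Group G] (h : IsExc G) {C : Finset ℕ} (hC : IsCoc G C) (h3 : ∀ r ∈ C, 3 < r) :
    C.card ≤ 13 := by
  obtain ⟨q, hq⟩ := exists_cover h
  exact coc_le_big hq hC h3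

end Cfsg.Agent.H168.ExcCoc
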