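import Cfsg.Agent.H168.ExcE6

/-!
# Adjacency of the prime divisors of two cyclotomic values through one torus, type E6 (helper168)
-/

set_option autoImplicit false

namespace Cfsg.Agent.H168.ExcE6

open Cfsg.Agent.H129.WData Cfsg.Agent.ChevalleyStructure.CoxeterGeomTypes Cfsg.Agent.Nodes.RGDChev
open Cfsg.Lie Cfsg.Lie.ChevalleyDatum
open Cfsg.Agent.H493 Cfsg.Agent.H493.PGTorus Cfsg.Agent.H493.PGCyc Cfsg.Agent.H493.PGE6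
open Cfsg.Agent.H168.ExcAdj

universe u

/-- partial products of an element with eigenvalues of orders 12, 3 -/
def kc12_3 : List (Fin 6 × Mat 6) := [
    (0, ![![0, 0, 1, 0, 0, 0], ![1, 0, 1, 1, 0, 0], ![0, 1, 0, 1, 0, 0], ![0, 0, 0, 0, 1, 0], ![0, 0, 0, 0, 0, 1],
      ![-1, -1, -1, -1, -1, -1]]),
    (1, ![![1, 0, 1, 0, 0, 0], ![0, 0, 1, 1, 0, 0], ![0, 1, 0, 1, 0, 0], ![0, 0, 0, 0, 1, 0], ![0, 0, 0, 0, 0, 1],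
      ![0, -1, -1, -1, -1, -1]]),
    (2, ![![1, 0, 1, 0, 0, 0], ![0, 1, 1, 1, 0, 0], ![0, 0, 0, 1, 0, 0], ![0, 0, 0, 0, 1, 0], ![0, 0, 0, 0, 0, 1],
      ![0, 0, -1, -1, -1, -1]]),
    (3, ![![1, 0, 0, 0, 0, 0], ![0, 1, 0, 1, 0, 0], ![0, 0, 1, 1, 0, 0], ![0, 0, 0, 0, 1, 0], ![0, 0, 0, 0, 0, 1],
      ![0, 0, 0, -1, -1, -1]]),
    (4, ![![1, 0, 0, 0, 0, 0], ![0, 1, 0, 0, 0, 0], ![0, 0, 1, 0, 0, 0], ![0, 0, 0, 1, 1, 0], ![0, 0, 0, 0, 0, 1],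
      ![0, 0, 0, 0, -1, -1]]),
    (5, ![![1, 0, 0, 0, 0, 0], ![0, 1, 0, 0, 0, 0], ![0, 0, 1, 0, 0, 0], ![0, 0, 0, 1, 0, 0], ![0, 0, 0, 0, 1, 1],
      ![0, 0, 0, 0, 0, -1]])]

theorem kc12_3_ok : ChainOK Am kc12_3 := by decide +kernel

/-- coefficients of the eigenvector -/
def kV12_3_at12 : Fin 4 → Fin 6 → ℤ := ![![0, 1, 0, 1, 1, 1], ![0, 0, 1, 1, 1, 0], ![1, 0, 1, 1, 0, 0], ![0, 1, 0, 0, 0, 0]]

/-- the functional -/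
def kU12_3_at12 : Fin 6 → ℤ := ![0, 0, -1, 1, 0, 0]

theorem keig12_3_at12 : EigOK (hd kc12_3) c12 kV12_3_at12 kU12_3_at12 := by decide +kernel

/-- coefficients of the eigenvector -/
def kV12_3_at3 : Fin 2 → Fin 6 → ℤ := ![![1, 0, 1, 0, 1, 1], ![1, 0, 0, 0, 1, 0]]

/-- the functional -/
def kU12_3_at3 : Fin 6 → ℤ := ![0, 0, 1, 0, 0, 0]

theorem keig12_3_at3 : EigOK (hd kc12_3) c3 kV12_3_at3 kU12_3_at3 := by decide +kernel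

theorem rel_12_3 {F : Type u} [Field F] [Finite F] {r s : ℕ} (hr : r.Prime) (hs : s.Prime) (hrs : r ≠ s)
    (h1 : phiC c12 (Nat.card F) 3 r) (h2 : phiC c3 (Nat.card F) 3 s) :
    PG.Rel ↥(chevE6.group F) r s := by
  have := finW
  exact rel_of_eig hp CoxeterMatrix.E₆.toCoxeterSystem H129.TorusChar.invC_E6 (by norm_num)
    (chain_rep hp CoxeterMatrix.E₆.toCoxeterSystem hA kc12_3_ok) keig12_3_at12 keig12_3_at3 hr hs hrs h1.1 h2.1 h1.2 h2.2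

/-- partial products of an element with eigenvalues of orders 8, 2, 1 -/
def kc8_2_1 : List (Fin 6 × Mat 6) := [
    (0, ![![0, 0, 1, 0, 0, 0], ![1, 0, 1, 1, 0, 0], ![0, 1, 0, 1, 0, 0], ![0, 0, 0, 0, 1, 0], ![-1, -1, -1, -1, -1, 0],
      ![1, 1, 1, 1, 1, 1]]),
    (1, ![![1, 0, 1, 0, 0, 0], ![0, 0, 1, 1, 0, 0], ![0, 1, 0, 1, 0, 0], ![0, 0, 0, 0, 1, 0], ![0, -1, -1, -1, -1, 0],
      ![0, 1, 1, 1, 1, 1]]),
    (2, ![![1, 0, 1, 0, 0, 0], ![0, 1, 1, 1, 0, 0], ![0, 0, 0, 1, 0, 0], ![0, 0, 0, 0, 1, 0], ![0, 0, -1, -1, -1, 0],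
      ![0, 0, 1, 1, 1, 1]]),
    (3, ![![1, 0, 0, 0, 0, 0], ![0, 1, 0, 1, 0, 0], ![0, 0, 1, 1, 0, 0], ![0, 0, 0, 0, 1, 0], ![0, 0, 0, -1, -1, 0],
      ![0, 0, 0, 1, 1, 1]]),
    (4, ![![1, 0, 0, 0, 0, 0], ![0, 1, 0, 0, 0, 0], ![0, 0, 1, 0, 0, 0], ![0, 0, 0, 1, 1, 0], ![0, 0, 0, 0, -1, 0],
      ![0, 0, 0, 0, 1, 1]])]

theorem kc8_2_1_ok : ChainOK Am kc8_2_1 := by decide +kernel

/-- coefficients of the eigenvector -/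
def kV8_2_1_at8 : Fin 4 → Fin 6 → ℤ := ![![-1, 0, 0, 0, 0, 0], ![1, 0, 1, 1, 1, 0], ![0, 1, 0, 1, 0, 0], ![0, 0, 1, 0, 0, 0]]

/-- the functional -/
def kU8_2_1_at8 : Fin 6 → ℤ := ![-1, -1, 0, 1, 0, 0]

theorem keig8_2_1_at8 : EigOK (hd kc8_2_1) c8 kV8_2_1_at8 kU8_2_1_at8 := by decide +kernel

/-- coefficients of the eigenvector -/
def kV8_2_1_at2 : Fin 1 → Fin 6 → ℤ := ![![0, 1, 0, 0, 1, 0]]

/-- the functional -/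
def kU8_2_1_at2 : Fin 6 → ℤ := ![0, 1, 0, 0, 0, 0]

theorem keig8_2_1_at2 : EigOK (hd kc8_2_1) c2 kV8_2_1_at2 kU8_2_1_at2 := by decide +kernel

/-- coefficients of the eigenvector -/
def kV8_2_1_at1 : Fin 1 → Fin 6 → ℤ := ![![2, 3, 4, 6, 5, 4]]

/-- the functional -/
def kU8_2_1_at1 : Fin 6 → ℤ := ![-1, 1, 0, 0, 0, 0]

theorem keig8_2_1_at1 : EigOK (hd kc8_2_1) c1 kV8_2_1_at1 kU8_2_1_at1 := by decide +kernel

theorem rel_8_2 {F : Type u} [Field F] [Finite F] {r s : ℕ} (hr : r.Prime) (hs : s.Prime) (hrs : r ≠ s)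
    (h1 : phiC c8 (Nat.card F) 3 r) (h2 : phiC c2 (Nat.card F) 3 s) :
    PG.Rel ↥(chevE6.group F) r s := by
  have := finW
  exact rel_of_eig hp CoxeterMatrix.E₆.toCoxeterSystem H129.TorusChar.invC_E6 (by norm_num)
    (chain_rep hp CoxeterMatrix.E₆.toCoxeterSystem hA kc8_2_1_ok) keig8_2_1_at8 keig8_2_1_at2 hr hs hrs h1.1 h2.1 h1.2 h2.2

theorem rel_8_1 {F : Type u} [Field F] [Finite F] {r s : ℕ} (hr : r.Prime) (hs : s.Prime) (hrs : r ≠ s)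
    (h1 : phiC c8 (Nat.card F) 3 r) (h2 : phiC c1 (Nat.card F) 3 s) :
    PG.Rel ↥(chevE6.group F) r s := by
  have := finW
  exact rel_of_eig hp CoxeterMatrix.E₆.toCoxeterSystem H129.TorusChar.invC_E6 (by norm_num)
    (chain_rep hp CoxeterMatrix.E₆.toCoxeterSystem hA kc8_2_1_ok) keig8_2_1_at8 keig8_2_1_at1 hr hs hrs h1.1 h2.1 h1.2 h2.2

theorem rel_2_1 {F : Type u} [Field F] [Finite F] {r s : ℕ} (hr : r.Prime) (hs : s.Prime) (hrs : r ≠ s)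
    (h1 : phiC c2 (Nat.card F) 3 r) (h2 : phiC c1 (Nat.card F) 3 s) :
    PG.Rel ↥(chevE6.group F) r s := by
  have := finW
  exact rel_of_eig hp CoxeterMatrix.E₆.toCoxeterSystem H129.TorusChar.invC_E6 (by norm_num)
    (chain_rep hp CoxeterMatrix.E₆.toCoxeterSystem hA kc8_2_1_ok) keig8_2_1_at2 keig8_2_1_at1 hr hs hrs h1.1 h2.1 h1.2 h2.2

/-- partial products of an element with eigenvalues of orders 4, 6 -/
def kc4_6 : List (Fin 6 × Mat 6) := [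
    (2, ![![1, 0, 1, 1, 0, 0], ![0, -1, -1, -2, -1, 0], ![0, 0, 0, 0, 1, 0], ![0, 1, 1, 1, 0, 0], ![0, 0, 0, 1, 1, 1],
      ![0, 0, -1, -1, -1, -1]]),
    (3, ![![1, 0, 1, 1, 0, 0], ![0, -1, -1, -2, -1, 0], ![0, 0, 0, 0, 1, 0], ![0, 1, 0, 1, 0, 0], ![0, 0, 1, 1, 1, 1],
      ![0, 0, 0, -1, -1, -1]]),
    (4, ![![1, 0, 1, 0, 0, 0], ![0, -1, -1, -1, -1, 0], ![0, 0, 0, 1, 1, 0], ![0, 1, 0, 0, 0, 0], ![0, 0, 1, 1, 1, 1],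
      ![0, 0, 0, 0, -1, -1]]),
    (5, ![![1, 0, 1, 0, 0, 0], ![0, -1, -1, -1, 0, 0], ![0, 0, 0, 1, 0, 0], ![0, 1, 0, 0, 0, 0], ![0, 0, 1, 1, 1, 1],
      ![0, 0, 0, 0, 0, -1]]),
    (2, ![![1, 0, 1, 0, 0, 0], ![0, -1, -1, -1, 0, 0], ![0, 0, 0, 1, 0, 0], ![0, 1, 0, 0, 0, 0], ![0, 0, 1, 1, 1, 0],
      ![0, 0, 0, 0, 0, 1]]),
    (3, ![![1, 0, 0, 0, 0, 0], ![0, -1, 0, -1, 0, 0], ![0, 0, 1, 1, 0, 0], ![0, 1, 0, 0, 0, 0], ![0, 0, 0, 1, 1, 0],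
      ![0, 0, 0, 0, 0, 1]]),
    (1, ![![1, 0, 0, 0, 0, 0], ![0, -1, 0, 0, 0, 0], ![0, 0, 1, 0, 0, 0], ![0, 1, 0, 1, 0, 0], ![0, 0, 0, 0, 1, 0],
      ![0, 0, 0, 0, 0, 1]])]

theorem kc4_6_ok : ChainOK Am kc4_6 := by decide +kernel

/-- coefficients of the eigenvector -/
def kV4_6_at4 : Fin 2 → Fin 6 → ℤ := ![![0, 1, 1, 1, 0, 0], ![0, 0, 0, 1, 0, 0]]

/-- the functional -/
def kU4_6_at4 : Fin 6 → ℤ := ![0, 1, 0, 0, 0, 0]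

theorem keig4_6_at4 : EigOK (hd kc4_6) c4 kV4_6_at4 kU4_6_at4 := by decide +kernel

/-- coefficients of the eigenvector -/
def kV4_6_at6 : Fin 2 → Fin 6 → ℤ := ![![0, 1, 0, 1, 1, 1], ![0, 0, 1, 1, 1, 0]]

/-- the functional -/
def kU4_6_at6 : Fin 6 → ℤ := ![0, 1, 0, 0, 0, 0]

theorem keig4_6_at6 : EigOK (hd kc4_6) c6 kV4_6_at6 kU4_6_at6 := by decide +kernel

theorem rel_4_6 {F : Type u} [Field F] [Finite F] {r s : ℕ} (hr : r.Prime) (hs : s.Prime) (hrs : r ≠ s)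
    (h1 : phiC c4 (Nat.card F) 3 r) (h2 : phiC c6 (Nat.card F) 3 s) :
    PG.Rel ↥(chevE6.group F) r s := by
  have := finW
  exact rel_of_eig hp CoxeterMatrix.E₆.toCoxeterSystem H129.TorusChar.invC_E6 (by norm_num)
    (chain_rep hp CoxeterMatrix.E₆.toCoxeterSystem hA kc4_6_ok) keig4_6_at4 keig4_6_at6 hr hs hrs h1.1 h2.1 h1.2 h2.2

end Cfsg.Agent.H168.ExcE6
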