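import Cfsg.Agent.H168.ExcE7

/-!
# Adjacency of the prime divisors of two cyclotomic values through one torus, type E7 (helper168)
-/

set_option autoImplicit false

namespace Cfsg.Agent.H168.ExcE7

open Cfsg.Agent.H129.WData Cfsg.Agent.ChevalleyStructure.CoxeterGeomTypes Cfsg.Agent.Nodes.RGDChev
open Cfsg.Lie Cfsg.Lie.ChevalleyDatum
open Cfsg.Agent.H493 Cfsg.Agent.H493.PGTorus Cfsg.Agent.H493.PGCyc Cfsg.Agent.H493.PGE7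
open Cfsg.Agent.H168.ExcAdj

universe u

/-- partial products of an element with eigenvalues of orders 18, 2 -/
def kc18_2 : List (Fin 7 × Mat 7) := [
    (0, ![![0, 0, 1, 0, 0, 0, 0], ![1, 0, 1, 1, 0, 0, 0], ![0, 1, 0, 1, 0, 0, 0], ![0, 0, 0, 0, 1, 0, 0],
      ![0, 0, 0, 0, 0, 1, 0], ![0, 0, 0, 0, 0, 0, 1], ![-1, -1, -1, -1, -1, -1, -1]]),
    (1, ![![1, 0, 1, 0, 0, 0, 0], ![0, 0, 1, 1, 0, 0, 0], ![0, 1, 0, 1, 0, 0, 0], ![0, 0, 0, 0, 1, 0, 0],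
      ![0, 0, 0, 0, 0, 1, 0], ![0, 0, 0, 0, 0, 0, 1], ![0, -1, -1, -1, -1, -1, -1]]),
    (2, ![![1, 0, 1, 0, 0, 0, 0], ![0, 1, 1, 1, 0, 0, 0], ![0, 0, 0, 1, 0, 0, 0], ![0, 0, 0, 0, 1, 0, 0],
      ![0, 0, 0, 0, 0, 1, 0], ![0, 0, 0, 0, 0, 0, 1], ![0, 0, -1, -1, -1, -1, -1]]),
    (3, ![![1, 0, 0, 0, 0, 0, 0], ![0, 1, 0, 1, 0, 0, 0], ![0, 0, 1, 1, 0, 0, 0], ![0, 0, 0, 0, 1, 0, 0],
      ![0, 0, 0, 0, 0, 1, 0], ![0, 0, 0, 0, 0, 0, 1], ![0, 0, 0, -1, -1, -1, -1]]),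
    (4, ![![1, 0, 0, 0, 0, 0, 0], ![0, 1, 0, 0, 0, 0, 0], ![0, 0, 1, 0, 0, 0, 0], ![0, 0, 0, 1, 1, 0, 0],
      ![0, 0, 0, 0, 0, 1, 0], ![0, 0, 0, 0, 0, 0, 1], ![0, 0, 0, 0, -1, -1, -1]]),
    (5, ![![1, 0, 0, 0, 0, 0, 0], ![0, 1, 0, 0, 0, 0, 0], ![0, 0, 1, 0, 0, 0, 0], ![0, 0, 0, 1, 0, 0, 0],
      ![0, 0, 0, 0, 1, 1, 0], ![0, 0, 0, 0, 0, 0, 1], ![0, 0, 0, 0, 0, -1, -1]]),
    (6, ![![1, 0, 0, 0, 0, 0, 0], ![0, 1, 0, 0, 0, 0, 0], ![0, 0, 1, 0, 0, 0, 0], ![0, 0, 0, 1, 0, 0, 0],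
      ![0, 0, 0, 0, 1, 0, 0], ![0, 0, 0, 0, 0, 1, 1], ![0, 0, 0, 0, 0, 0, -1]])]

theorem kc18_2_ok : ChainOK Am kc18_2 := by decide +kernel

/-- coefficients of the eigenvector -/
def kV18_2_at18 : Fin 6 → Fin 7 → ℤ := ![![1, 0, 1, 1, 1, 1, 1], ![0, 1, 0, 1, 1, 1, 0], ![0, 0, 1, 1, 1, 0, 0], ![0, 1, 0, 1, 0, 0, 0],
    ![0, 0, 1, 0, 0, 0, 0], ![1, 0, 0, 0, 0, 0, 0]]

/-- the functional -/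
def kU18_2_at18 : Fin 7 → ℤ := ![0, -1, 0, 1, -1, 1, 0]

theorem keig18_2_at18 : EigOK (hd kc18_2) c18 kV18_2_at18 kU18_2_at18 := by decide +kernel

/-- coefficients of the eigenvector -/
def kV18_2_at2 : Fin 1 → Fin 7 → ℤ := ![![0, 1, 0, 0, 1, 0, 1]]

/-- the functional -/
def kU18_2_at2 : Fin 7 → ℤ := ![0, 1, 0, 0, 0, 0, 0]

theorem keig18_2_at2 : EigOK (hd kc18_2) c2 kV18_2_at2 kU18_2_at2 := by decide +kernel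

theorem rel_18_2 {F : Type u} [Field F] [Finite F] {r s : ℕ} (hr : r.Prime) (hs : s.Prime) (hrs : r ≠ s)
    (h1 : phiC c18 (Nat.card F) 2 r) (h2 : phiC c2 (Nat.card F) 2 s) :
    PG.Rel ↥(chevE7.group F) r s := by
  have := finW
  exact rel_of_eig hp CoxeterMatrix.E₇.toCoxeterSystem H129.TorusChar.invC_E7 (by norm_num)
    (chain_rep hp CoxeterMatrix.E₇.toCoxeterSystem hA kc18_2_ok) keig18_2_at18 keig18_2_at2 hr hs hrs h1.1 h2.1 h1.2 h2.2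

/-- partial products of an element with eigenvalues of orders 9, 1 -/
def kc9_1 : List (Fin 7 × Mat 7) := [
    (3, ![![0, 1, 1, 2, 1, 0, 0], ![0, 0, 0, 0, -1, 0, 0], ![-1, -1, -1, -2, -1, 0, 0], ![1, 0, 1, 1, 1, 0, 0],
      ![0, 1, 0, 1, 1, 1, 0], ![0, 0, 0, -1, -1, -1, 0], ![0, 0, 0, 1, 1, 1, 1]]),
    (4, ![![0, 1, 1, 1, 1, 0, 0], ![0, 0, 0, -1, -1, 0, 0], ![-1, -1, -1, -1, -1, 0, 0], ![1, 0, 1, 1, 1, 0, 0],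
      ![0, 1, 0, 1, 1, 1, 0], ![0, 0, 0, 0, -1, -1, 0], ![0, 0, 0, 0, 1, 1, 1]]),
    (5, ![![0, 1, 1, 1, 0, 0, 0], ![0, 0, 0, -1, 0, 0, 0], ![-1, -1, -1, -1, 0, 0, 0], ![1, 0, 1, 1, 0, 0, 0],
      ![0, 1, 0, 1, 1, 1, 0], ![0, 0, 0, 0, 0, -1, 0], ![0, 0, 0, 0, 0, 1, 1]]),
    (1, ![![0, 1, 1, 1, 0, 0, 0], ![0, 0, 0, -1, 0, 0, 0], ![-1, -1, -1, -1, 0, 0, 0], ![1, 0, 1, 1, 0, 0, 0],
      ![0, 1, 0, 1, 1, 0, 0], ![0, 0, 0, 0, 0, 1, 0], ![0, 0, 0, 0, 0, 0, 1]]),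
    (3, ![![0, 0, 1, 1, 0, 0, 0], ![0, -1, 0, -1, 0, 0, 0], ![-1, 0, -1, -1, 0, 0, 0], ![1, 1, 1, 1, 0, 0, 0],
      ![0, 0, 0, 1, 1, 0, 0], ![0, 0, 0, 0, 0, 1, 0], ![0, 0, 0, 0, 0, 0, 1]]),
    (0, ![![0, 0, 1, 0, 0, 0, 0], ![0, -1, 0, 0, 0, 0, 0], ![-1, 0, -1, 0, 0, 0, 0], ![1, 1, 1, 1, 0, 0, 0],
      ![0, 0, 0, 0, 1, 0, 0], ![0, 0, 0, 0, 0, 1, 0], ![0, 0, 0, 0, 0, 0, 1]]),
    (2, ![![1, 0, 1, 0, 0, 0, 0], ![0, -1, 0, 0, 0, 0, 0], ![0, 0, -1, 0, 0, 0, 0], ![0, 1, 1, 1, 0, 0, 0],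
      ![0, 0, 0, 0, 1, 0, 0], ![0, 0, 0, 0, 0, 1, 0], ![0, 0, 0, 0, 0, 0, 1]]),
    (1, ![![1, 0, 0, 0, 0, 0, 0], ![0, -1, 0, 0, 0, 0, 0], ![0, 0, 1, 0, 0, 0, 0], ![0, 1, 0, 1, 0, 0, 0],
      ![0, 0, 0, 0, 1, 0, 0], ![0, 0, 0, 0, 0, 1, 0], ![0, 0, 0, 0, 0, 0, 1]])]

theorem kc9_1_ok : ChainOK Am kc9_1 := by decide +kernel

/-- coefficients of the eigenvector -/
def kV9_1_at9 : Fin 6 → Fin 7 → ℤ := ![![0, 0, 0, 0, -1, -1, 0], ![0, 0, -1, -1, -1, 0, 0], ![-1, 0, -1, -1, 0, 0, 0], ![0, -1, 0, -1, -1, -1, 0],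
    ![0, 0, 0, 0, -1, 0, 0], ![0, 1, 0, 0, 0, 0, 0]]

/-- the functional -/
def kU9_1_at9 : Fin 7 → ℤ := ![0, 0, -1, 1, 0, -1, 0]

theorem keig9_1_at9 : EigOK (hd kc9_1) c9 kV9_1_at9 kU9_1_at9 := by decide +kernel

/-- coefficients of the eigenvector -/
def kV9_1_at1 : Fin 1 → Fin 7 → ℤ := ![![2, 3, 4, 6, 5, 4, 3]]

/-- the functional -/
def kU9_1_at1 : Fin 7 → ℤ := ![-1, 1, 0, 0, 0, 0, 0]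

theorem keig9_1_at1 : EigOK (hd kc9_1) c1 kV9_1_at1 kU9_1_at1 := by decide +kernel

theorem rel_9_1 {F : Type u} [Field F] [Finite F] {r s : ℕ} (hr : r.Prime) (hs : s.Prime) (hrs : r ≠ s)
    (h1 : phiC c9 (Nat.card F) 2 r) (h2 : phiC c1 (Nat.card F) 2 s) :
    PG.Rel ↥(chevE7.group F) r s := by
  have := finW
  exact rel_of_eig hp CoxeterMatrix.E₇.toCoxeterSystem H129.TorusChar.invC_E7 (by norm_num)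
    (chain_rep hp CoxeterMatrix.E₇.toCoxeterSystem hA kc9_1_ok) keig9_1_at9 keig9_1_at1 hr hs hrs h1.1 h2.1 h1.2 h2.2

/-- partial products of an element with eigenvalues of orders 12, 6 -/
def kc12_6 : List (Fin 7 × Mat 7) := [
    (6, ![![0, 1, 0, 1, 1, 0, 0], ![0, 0, 1, 1, 1, 0, 0], ![-1, -1, -1, -2, -2, -1, -1], ![1, 0, 0, 0, 0, 0, 0],
      ![0, 1, 1, 1, 1, 1, 1], ![0, 0, 0, 1, 0, 0, 0], ![0, 0, 0, 0, 1, 1, 0]]),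
    (4, ![![0, 1, 0, 1, 1, 0, 0], ![0, 0, 1, 1, 1, 0, 0], ![-1, -1, -1, -2, -2, -1, 0], ![1, 0, 0, 0, 0, 0, 0],
      ![0, 1, 1, 1, 1, 1, 0], ![0, 0, 0, 1, 0, 0, 0], ![0, 0, 0, 0, 1, 1, 1]]),
    (5, ![![0, 1, 0, 1, 0, 0, 0], ![0, 0, 1, 1, 0, 0, 0], ![-1, -1, -1, -2, -1, -1, 0], ![1, 0, 0, 0, 0, 0, 0],
      ![0, 1, 1, 1, 1, 1, 0], ![0, 0, 0, 1, 1, 0, 0], ![0, 0, 0, 0, 0, 1, 1]]),
    (3, ![![0, 1, 0, 1, 0, 0, 0], ![0, 0, 1, 1, 0, 0, 0], ![-1, -1, -1, -2, -1, 0, 0], ![1, 0, 0, 0, 0, 0, 0],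
      ![0, 1, 1, 1, 1, 0, 0], ![0, 0, 0, 1, 1, 1, 0], ![0, 0, 0, 0, 0, 0, 1]]),
    (4, ![![0, 1, 0, 0, 0, 0, 0], ![0, 0, 1, 0, 0, 0, 0], ![-1, -1, -1, -1, -1, 0, 0], ![1, 0, 0, 0, 0, 0, 0],
      ![0, 1, 1, 2, 1, 0, 0], ![0, 0, 0, 0, 1, 1, 0], ![0, 0, 0, 0, 0, 0, 1]]),
    (3, ![![0, 1, 0, 0, 0, 0, 0], ![0, 0, 1, 0, 0, 0, 0], ![-1, -1, -1, -1, 0, 0, 0], ![1, 0, 0, 0, 0, 0, 0],
      ![0, 1, 1, 2, 1, 0, 0], ![0, 0, 0, 0, 0, 1, 0], ![0, 0, 0, 0, 0, 0, 1]]),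
    (2, ![![0, 1, 0, 1, 0, 0, 0], ![0, 0, 1, 1, 0, 0, 0], ![-1, -1, -1, -1, 0, 0, 0], ![1, 0, 0, 0, 0, 0, 0],
      ![0, 1, 1, 1, 1, 0, 0], ![0, 0, 0, 0, 0, 1, 0], ![0, 0, 0, 0, 0, 0, 1]]),
    (1, ![![0, 1, 1, 1, 0, 0, 0], ![0, 0, 0, 1, 0, 0, 0], ![-1, -1, -1, -1, 0, 0, 0], ![1, 0, 1, 0, 0, 0, 0],
      ![0, 1, 0, 1, 1, 0, 0], ![0, 0, 0, 0, 0, 1, 0], ![0, 0, 0, 0, 0, 0, 1]]),
    (3, ![![0, 0, 1, 1, 0, 0, 0], ![0, 1, 0, 1, 0, 0, 0], ![-1, 0, -1, -1, 0, 0, 0], ![1, 0, 1, 0, 0, 0, 0],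
      ![0, 0, 0, 1, 1, 0, 0], ![0, 0, 0, 0, 0, 1, 0], ![0, 0, 0, 0, 0, 0, 1]]),
    (0, ![![0, 0, 1, 0, 0, 0, 0], ![0, 1, 0, 0, 0, 0, 0], ![-1, 0, -1, 0, 0, 0, 0], ![1, 0, 1, 1, 0, 0, 0],
      ![0, 0, 0, 0, 1, 0, 0], ![0, 0, 0, 0, 0, 1, 0], ![0, 0, 0, 0, 0, 0, 1]]),
    (2, ![![1, 0, 1, 0, 0, 0, 0], ![0, 1, 0, 0, 0, 0, 0], ![0, 0, -1, 0, 0, 0, 0], ![0, 0, 1, 1, 0, 0, 0],
      ![0, 0, 0, 0, 1, 0, 0], ![0, 0, 0, 0, 0, 1, 0], ![0, 0, 0, 0, 0, 0, 1]])]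

theorem kc12_6_ok : ChainOK Am kc12_6 := by decide +kernel

/-- coefficients of the eigenvector -/
def kV12_6_at12 : Fin 4 → Fin 7 → ℤ := ![![0, -1, -1, -2, -1, 0, 0], ![-1, -1, -1, -1, -1, -1, 0], ![-1, 0, -1, -1, -1, -1, -1], ![1, 0, 1, 0, 0, 0, 0]]

/-- the functional -/
def kU12_6_at12 : Fin 7 → ℤ := ![1, 0, -1, 0, 0, 0, 0]

theorem keig12_6_at12 : EigOK (hd kc12_6) c12 kV12_6_at12 kU12_6_at12 := by decide +kernel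

/-- coefficients of the eigenvector -/
def kV12_6_at6 : Fin 2 → Fin 7 → ℤ := ![![0, -1, -2, -2, -2, -2, -1], ![0, 0, 1, 1, 0, 1, 0]]

/-- the functional -/
def kU12_6_at6 : Fin 7 → ℤ := ![0, -1, 0, 0, 0, 0, 0]

theorem keig12_6_at6 : EigOK (hd kc12_6) c6 kV12_6_at6 kU12_6_at6 := by decide +kernel

theorem rel_12_6 {F : Type u} [Field F] [Finite F] {r s : ℕ} (hr : r.Prime) (hs : s.Prime) (hrs : r ≠ s)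
    (h1 : phiC c12 (Nat.card F) 2 r) (h2 : phiC c6 (Nat.card F) 2 s) :
    PG.Rel ↥(chevE7.group F) r s := by
  have := finW
  exact rel_of_eig hp CoxeterMatrix.E₇.toCoxeterSystem H129.TorusChar.invC_E7 (by norm_num)
    (chain_rep hp CoxeterMatrix.E₇.toCoxeterSystem hA kc12_6_ok) keig12_6_at12 keig12_6_at6 hr hs hrs h1.1 h2.1 h1.2 h2.2

/-- partial products of an element with eigenvalues of orders 8, 4 -/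
def kc8_4 : List (Fin 7 × Mat 7) := [
    (5, ![![1, 1, 1, 1, 0, 0, 0], ![0, 1, 1, 2, 1, 1, 0], ![0, 0, 0, 0, 1, 1, 0], ![0, -1, 0, -1, -1, -1, 0],
      ![0, 0, -1, 0, 0, 0, 0], ![0, 1, 1, 1, 1, 1, 1], ![0, 0, 0, 0, 0, -1, -1]]),
    (6, ![![1, 1, 1, 1, 0, 0, 0], ![0, 1, 1, 2, 1, 0, 0], ![0, 0, 0, 0, 1, 0, 0], ![0, -1, 0, -1, -1, 0, 0],
      ![0, 0, -1, 0, 0, 0, 0], ![0, 1, 1, 1, 1, 1, 1], ![0, 0, 0, 0, 0, 0, -1]]),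
    (2, ![![1, 1, 1, 1, 0, 0, 0], ![0, 1, 1, 2, 1, 0, 0], ![0, 0, 0, 0, 1, 0, 0], ![0, -1, 0, -1, -1, 0, 0],
      ![0, 0, -1, 0, 0, 0, 0], ![0, 1, 1, 1, 1, 1, 0], ![0, 0, 0, 0, 0, 0, 1]]),
    (1, ![![1, 1, 1, 1, 0, 0, 0], ![0, 1, 1, 2, 1, 0, 0], ![0, 0, 0, 0, 1, 0, 0], ![0, -1, -1, -1, -1, 0, 0],
      ![0, 0, 1, 0, 0, 0, 0], ![0, 1, 0, 1, 1, 1, 0], ![0, 0, 0, 0, 0, 0, 1]]),
    (3, ![![1, 0, 1, 1, 0, 0, 0], ![0, 1, 1, 2, 1, 0, 0], ![0, 0, 0, 0, 1, 0, 0], ![0, 0, -1, -1, -1, 0, 0],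
      ![0, 0, 1, 0, 0, 0, 0], ![0, 0, 0, 1, 1, 1, 0], ![0, 0, 0, 0, 0, 0, 1]]),
    (4, ![![1, 0, 1, 0, 0, 0, 0], ![0, 1, 1, 1, 1, 0, 0], ![0, 0, 0, 1, 1, 0, 0], ![0, 0, -1, -1, -1, 0, 0],
      ![0, 0, 1, 1, 0, 0, 0], ![0, 0, 0, 0, 1, 1, 0], ![0, 0, 0, 0, 0, 0, 1]]),
    (2, ![![1, 0, 1, 0, 0, 0, 0], ![0, 1, 1, 1, 0, 0, 0], ![0, 0, 0, 1, 0, 0, 0], ![0, 0, -1, -1, 0, 0, 0],
      ![0, 0, 1, 1, 1, 0, 0], ![0, 0, 0, 0, 0, 1, 0], ![0, 0, 0, 0, 0, 0, 1]]),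
    (3, ![![1, 0, 0, 0, 0, 0, 0], ![0, 1, 0, 1, 0, 0, 0], ![0, 0, 1, 1, 0, 0, 0], ![0, 0, 0, -1, 0, 0, 0],
      ![0, 0, 0, 1, 1, 0, 0], ![0, 0, 0, 0, 0, 1, 0], ![0, 0, 0, 0, 0, 0, 1]])]

theorem kc8_4_ok : ChainOK Am kc8_4 := by decide +kernel

/-- coefficients of the eigenvector -/
def kV8_4_at8 : Fin 4 → Fin 7 → ℤ := ![![0, 0, 0, -1, -1, -1, 0], ![0, -1, -1, -1, -1, 0, 0], ![0, 0, 0, 0, 0, -1, -1], ![0, 0, 0, 0, 0, 0, 1]]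

/-- the functional -/
def kU8_4_at8 : Fin 7 → ℤ := ![0, 1, 0, -1, 0, 0, 0]

theorem keig8_4_at8 : EigOK (hd kc8_4) c8 kV8_4_at8 kU8_4_at8 := by decide +kernel

/-- coefficients of the eigenvector -/
def kV8_4_at4 : Fin 2 → Fin 7 → ℤ := ![![0, 0, 1, 1, 0, 0, 0], ![0, 1, 0, 1, 0, 0, 0]]

/-- the functional -/
def kU8_4_at4 : Fin 7 → ℤ := ![0, 0, 1, 0, 0, 0, 0]

theorem keig8_4_at4 : EigOK (hd kc8_4) c4 kV8_4_at4 kU8_4_at4 := by decide +kernel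

theorem rel_8_4 {F : Type u} [Field F] [Finite F] {r s : ℕ} (hr : r.Prime) (hs : s.Prime) (hrs : r ≠ s)
    (h1 : phiC c8 (Nat.card F) 2 r) (h2 : phiC c4 (Nat.card F) 2 s) :
    PG.Rel ↥(chevE7.group F) r s := by
  have := finW
  exact rel_of_eig hp CoxeterMatrix.E₇.toCoxeterSystem H129.TorusChar.invC_E7 (by norm_num)
    (chain_rep hp CoxeterMatrix.E₇.toCoxeterSystem hA kc8_4_ok) keig8_4_at8 keig8_4_at4 hr hs hrs h1.1 h2.1 h1.2 h2.2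

/-- partial products of an element with eigenvalues of orders 5, 3 -/
def kc5_3 : List (Fin 7 × Mat 7) := [
    (0, ![![0, 0, 1, 0, 0, 0, 0], ![1, 0, 1, 1, 0, 0, 0], ![0, 1, 0, 1, 0, 0, 0], ![-1, -1, -1, -1, 0, 0, 0],
      ![1, 1, 1, 1, 1, 1, 0], ![0, 0, 0, 0, 0, 0, 1], ![0, 0, 0, 0, 0, -1, -1]]),
    (1, ![![1, 0, 1, 0, 0, 0, 0], ![0, 0, 1, 1, 0, 0, 0], ![0, 1, 0, 1, 0, 0, 0], ![0, -1, -1, -1, 0, 0, 0],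
      ![0, 1, 1, 1, 1, 1, 0], ![0, 0, 0, 0, 0, 0, 1], ![0, 0, 0, 0, 0, -1, -1]]),
    (2, ![![1, 0, 1, 0, 0, 0, 0], ![0, 1, 1, 1, 0, 0, 0], ![0, 0, 0, 1, 0, 0, 0], ![0, 0, -1, -1, 0, 0, 0],
      ![0, 0, 1, 1, 1, 1, 0], ![0, 0, 0, 0, 0, 0, 1], ![0, 0, 0, 0, 0, -1, -1]]),
    (3, ![![1, 0, 0, 0, 0, 0, 0], ![0, 1, 0, 1, 0, 0, 0], ![0, 0, 1, 1, 0, 0, 0], ![0, 0, 0, -1, 0, 0, 0],
      ![0, 0, 0, 1, 1, 1, 0], ![0, 0, 0, 0, 0, 0, 1], ![0, 0, 0, 0, 0, -1, -1]]),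
    (5, ![![1, 0, 0, 0, 0, 0, 0], ![0, 1, 0, 0, 0, 0, 0], ![0, 0, 1, 0, 0, 0, 0], ![0, 0, 0, 1, 0, 0, 0],
      ![0, 0, 0, 0, 1, 1, 0], ![0, 0, 0, 0, 0, 0, 1], ![0, 0, 0, 0, 0, -1, -1]]),
    (6, ![![1, 0, 0, 0, 0, 0, 0], ![0, 1, 0, 0, 0, 0, 0], ![0, 0, 1, 0, 0, 0, 0], ![0, 0, 0, 1, 0, 0, 0],
      ![0, 0, 0, 0, 1, 0, 0], ![0, 0, 0, 0, 0, 1, 1], ![0, 0, 0, 0, 0, 0, -1]])]

theorem kc5_3_ok : ChainOK Am kc5_3 := by decide +kernel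

/-- coefficients of the eigenvector -/
def kV5_3_at5 : Fin 4 → Fin 7 → ℤ := ![![0, -1, -1, -1, 0, 0, 0], ![-1, -1, -2, -1, 0, 0, 0], ![-1, -1, -1, 0, 0, 0, 0], ![0, 0, 0, 1, 0, 0, 0]]

/-- the functional -/
def kU5_3_at5 : Fin 7 → ℤ := ![1, -1, 0, 0, 0, 0, 0]

theorem keig5_3_at5 : EigOK (hd kc5_3) c5 kV5_3_at5 kU5_3_at5 := by decide +kernel

/-- coefficients of the eigenvector -/
def kV5_3_at3 : Fin 2 → Fin 7 → ℤ := ![![0, 0, 0, 0, 0, 1, 1], ![0, 0, 0, 0, 0, 1, 0]]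

/-- the functional -/
def kU5_3_at3 : Fin 7 → ℤ := ![0, 0, 0, 0, 0, 0, 1]

theorem keig5_3_at3 : EigOK (hd kc5_3) c3 kV5_3_at3 kU5_3_at3 := by decide +kernel

theorem rel_5_3 {F : Type u} [Field F] [Finite F] {r s : ℕ} (hr : r.Prime) (hs : s.Prime) (hrs : r ≠ s)
    (h1 : phiC c5 (Nat.card F) 2 r) (h2 : phiC c3 (Nat.card F) 2 s) :
    PG.Rel ↥(chevE7.group F) r s := by
  have := finW
  exact rel_of_eig hp CoxeterMatrix.E₇.toCoxeterSystem H129.TorusChar.invC_E7 (by norm_num)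
    (chain_rep hp CoxeterMatrix.E₇.toCoxeterSystem hA kc5_3_ok) keig5_3_at5 keig5_3_at3 hr hs hrs h1.1 h2.1 h1.2 h2.2

end Cfsg.Agent.H168.ExcE7
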