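import Cfsg.Agent.H168.ExcF4

/-!
# Adjacency of the prime divisors of two cyclotomic values through one torus, type F4 (helper168)
-/

set_option autoImplicit false

namespace Cfsg.Agent.H168.ExcF4

open Cfsg.Agent.H129.WData Cfsg.Agent.ChevalleyStructure.CoxeterGeomTypes Cfsg.Agent.Nodes.RGDChev
open Cfsg.Lie Cfsg.Lie.ChevalleyDatum
open Cfsg.Agent.H493 Cfsg.Agent.H493.PGTorus Cfsg.Agent.H493.PGCyc Cfsg.Agent.H493.PGF4
open Cfsg.Agent.H168.ExcAdj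

universe u

/-- partial products of an element with eigenvalues of orders 3, 1, 2 -/
def kc3_1_2 : List (Fin 4 × Mat 4) := [
    (0, ![![0, 1, 0, 0], ![-1, -1, 0, 0], ![2, 2, 1, 1], ![0, 0, 0, -1]]),
    (1, ![![1, 1, 0, 0], ![0, -1, 0, 0], ![0, 2, 1, 1], ![0, 0, 0, -1]]),
    (3, ![![1, 0, 0, 0], ![0, 1, 0, 0], ![0, 0, 1, 1], ![0, 0, 0, -1]])]

theorem kc3_1_2_ok : ChainOK Am kc3_1_2 := by decide +kernel

/-- coefficients of the eigenvector -/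
def kV3_1_2_at3 : Fin 2 → Fin 4 → ℤ := ![![1, 1, 0, 0], ![1, 0, 0, 0]]

/-- the functional -/
def kU3_1_2_at3 : Fin 4 → ℤ := ![0, 1, 0, 0]

theorem keig3_1_2_at3 : EigOK (hd kc3_1_2) c3 kV3_1_2_at3 kU3_1_2_at3 := by decide +kernel

/-- coefficients of the eigenvector -/
def kV3_1_2_at1 : Fin 1 → Fin 4 → ℤ := ![![-4, -8, -6, -3]]

/-- the functional -/
def kU3_1_2_at1 : Fin 4 → ℤ := ![-1, 0, 0, 1]

theorem keig3_1_2_at1 : EigOK (hd kc3_1_2) c1 kV3_1_2_at1 kU3_1_2_at1 := by decide +kernel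

/-- coefficients of the eigenvector -/
def kV3_1_2_at2 : Fin 1 → Fin 4 → ℤ := ![![0, 0, 0, 1]]

/-- the functional -/
def kU3_1_2_at2 : Fin 4 → ℤ := ![0, 0, 0, 1]

theorem keig3_1_2_at2 : EigOK (hd kc3_1_2) c2 kV3_1_2_at2 kU3_1_2_at2 := by decide +kernel

theorem rel_3_1 {F : Type u} [Field F] [Finite F] {r s : ℕ} (hr : r.Prime) (hs : s.Prime) (hrs : r ≠ s)
    (h1 : phiC c3 (Nat.card F) 1 r) (h2 : phiC c1 (Nat.card F) 1 s) :
    PG.Rel ↥(chevF4.group F) r s := by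
  have := finW
  exact rel_of_eig hp CoxeterMatrix.F₄.toCoxeterSystem H129.TorusChar.invC_F4 one_ne_zero
    (chain_rep hp CoxeterMatrix.F₄.toCoxeterSystem hA kc3_1_2_ok) keig3_1_2_at3 keig3_1_2_at1 hr hs hrs h1.1 h2.1 h1.2 h2.2

theorem rel_3_2 {F : Type u} [Field F] [Finite F] {r s : ℕ} (hr : r.Prime) (hs : s.Prime) (hrs : r ≠ s)
    (h1 : phiC c3 (Nat.card F) 1 r) (h2 : phiC c2 (Nat.card F) 1 s) :
    PG.Rel ↥(chevF4.group F) r s := by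
  have := finW
  exact rel_of_eig hp CoxeterMatrix.F₄.toCoxeterSystem H129.TorusChar.invC_F4 one_ne_zero
    (chain_rep hp CoxeterMatrix.F₄.toCoxeterSystem hA kc3_1_2_ok) keig3_1_2_at3 keig3_1_2_at2 hr hs hrs h1.1 h2.1 h1.2 h2.2

theorem rel_1_2 {F : Type u} [Field F] [Finite F] {r s : ℕ} (hr : r.Prime) (hs : s.Prime) (hrs : r ≠ s)
    (h1 : phiC c1 (Nat.card F) 1 r) (h2 : phiC c2 (Nat.card F) 1 s) :
    PG.Rel ↥(chevF4.group F) r s := by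
  have := finW
  exact rel_of_eig hp CoxeterMatrix.F₄.toCoxeterSystem H129.TorusChar.invC_F4 one_ne_zero
    (chain_rep hp CoxeterMatrix.F₄.toCoxeterSystem hA kc3_1_2_ok) keig3_1_2_at1 keig3_1_2_at2 hr hs hrs h1.1 h2.1 h1.2 h2.2

end Cfsg.Agent.H168.ExcF4
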