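import Cfsg.Agent.H168.ExcG2

/-!
# Adjacency of the prime divisors of two cyclotomic values through one torus, type G2 (helper168)
-/

set_option autoImplicit false

namespace Cfsg.Agent.H168.ExcG2

open Cfsg.Agent.H129.WData Cfsg.Agent.ChevalleyStructure.CoxeterGeomTypes Cfsg.Agent.Nodes.RGDChev
open Cfsg.Lie Cfsg.Lie.ChevalleyDatum
open Cfsg.Agent.H493 Cfsg.Agent.H493.PGTorus Cfsg.Agent.H493.PGCyc Cfsg.Agent.H493.PGG2
open Cfsg.Agent.H168.ExcAdj

universe u

/-- partial products of an element with eigenvalues of orders 1, 2 -/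
def kc1_2 : List (Fin 2 × Mat 2) := [
    (0, ![![-1, 0], ![3, 1]])]

theorem kc1_2_ok : ChainOK Am kc1_2 := by decide +kernel

/-- coefficients of the eigenvector -/
def kV1_2_at1 : Fin 1 → Fin 2 → ℤ := ![![-3, -2]]

/-- the functional -/
def kU1_2_at1 : Fin 2 → ℤ := ![-1, 1]

theorem keig1_2_at1 : EigOK (hd kc1_2) c1 kV1_2_at1 kU1_2_at1 := by decide +kernel

/-- coefficients of the eigenvector -/
def kV1_2_at2 : Fin 1 → Fin 2 → ℤ := ![![1, 0]]

/-- the functional -/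
def kU1_2_at2 : Fin 2 → ℤ := ![1, 0]

theorem keig1_2_at2 : EigOK (hd kc1_2) c2 kV1_2_at2 kU1_2_at2 := by decide +kernel

theorem rel_1_2 {F : Type u} [Field F] [Finite F] {r s : ℕ} (hr : r.Prime) (hs : s.Prime) (hrs : r ≠ s)
    (h1 : phiC c1 (Nat.card F) 1 r) (h2 : phiC c2 (Nat.card F) 1 s) :
    PG.Rel ↥(chevG2.group F) r s := by
  have := finW
  exact rel_of_eig hp CoxeterMatrix.G₂.toCoxeterSystem H129.TorusChar.invC_G2 one_ne_zero
    (chain_rep hp CoxeterMatrix.G₂.toCoxeterSystem hA kc1_2_ok) keig1_2_at1 keig1_2_at2 hr hs hrs h1.1 h2.1 h1.2 h2.2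

end Cfsg.Agent.H168.ExcG2
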