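import Cfsg.Agent.H168.ExcUntw
import Cfsg.Agent.H168.ExcPairG2
import Cfsg.Agent.H168.ExcPairF4
import Cfsg.Agent.H168.ExcPairE6
import Cfsg.Agent.H168.ExcPairE7
import Cfsg.Agent.H168.ExcPairE8

/-!
# Clique covers of the prime graphs of the untwisted exceptional groups (helper168)

Cliques by cyclotomic indices: `E8` {30} {24} {20} {15} {18,6} {14,2} {9,3} {7,1} {12} {10} {8,4} {5};
`E7` {18,2} {14} {9,1} {7} {12,6} {10} {8,4} {5,3}; `E6` {9} {12,3} {8,2,1} {5} {4,6};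
`F4` {12} {8} {3,1,2} {6} {4}; `G2` {3} {6} {1,2}.
-/

set_option autoImplicit false

namespace Cfsg.Agent.H168.ExcCover

open Cfsg Cfsg.Lie Cfsg.Agent.H493 Cfsg.Agent.H493.PGTorus Cfsg.Agent.H493.PGCyc Cfsg.Agent.H168.ExcAdj
  Cfsg.Agent.H168.ExcUntw Cfsg.Agent.H420.QR

universe u

/-- from the classes of `ExcUntw` to the value of a cyclotomic polynomial -/
theorem ne_p {F : Type u} [Field F] [Finite F] {p k r : ℕ} (hq : Nat.card F = p ^ k) (hr : ¬ r ∣ Nat.card F) : r ≠ p := by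
  rintro rfl
  have h1 : 1 < Nat.card F := Finite.one_lt_card
  have h0 : k ≠ 0 := by
    rintro rfl
    rw [pow_zero] at hq
    omega
  exact hr (by rw [hq]; exact dvd_pow_self _ h0)

/-- the cliques of type G2 -/
def KG2 (F : Type u) : List (ℕ → Prop) := [
    phiC c3 (Nat.card F) 1,
    phiC c6 (Nat.card F) 1,
    fun r => phiC c1 (Nat.card F) 1 r ∨ phiC c2 (Nat.card F) 1 r]

theorem clique_G2 (F : Type u) [Field F] [Finite F] : ∀ C ∈ KG2 F, Cl ↥(chevG2.group F) C := by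
  intro C hC
  simp only [KG2, List.mem_cons, List.not_mem_nil, or_false] at hC
  rcases hC with rfl | rfl | rfl
  · exact fun _ _ hr hs hrs h1 h2 => ExcG2.rel3 hr hs hrs h1 h2
  · exact fun _ _ hr hs hrs h1 h2 => ExcG2.rel6 hr hs hrs h1 h2
  · exact Cl.or (fun _ _ hr hs hrs h1 h2 => ExcG2.rel1 hr hs hrs h1 h2)
      (fun _ _ hr hs hrs h1 h2 => ExcG2.rel2 hr hs hrs h1 h2)
      (fun _ _ hr hs hrs h1 h2 => ExcG2.rel_1_2 hr hs hrs h1 h2)

theorem cover_G2 (F : Type u) [Field F] [Finite F] : Cover ↥(chevG2.group F) (Nat.card F) 3 := by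
  refine cover_of_list (KG2 F) rfl (fun r hr h3 hq hd => ?_) (clique_G2 F)
  obtain ⟨p, k, hp, hpk⟩ := exists_card F
  obtain ⟨C, hC, hCr⟩ := (cov_G2 F hp hpk).cover r hr hd
  simp only [LG2, List.mem_cons, List.not_mem_nil, or_false] at hC
  rcases hC with rfl | rfl | rfl | rfl | rfl
  · exact absurd hCr (ne_p hpk hq)
  · exact ⟨_, .tail _ (.tail _ (.head _)), .inl hCr⟩
  · exact ⟨_, .tail _ (.tail _ (.head _)), .inr hCr⟩
  · exact ⟨_, .head _, hCr⟩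
  · exact ⟨_, .tail _ (.head _), hCr⟩

/-- the cliques of type F4 -/
def KF4 (F : Type u) : List (ℕ → Prop) := [
    phiC c12 (Nat.card F) 1,
    phiC c8 (Nat.card F) 1,
    fun r => phiC c3 (Nat.card F) 1 r ∨ (phiC c1 (Nat.card F) 1 r ∨ phiC c2 (Nat.card F) 1 r),
    phiC c6 (Nat.card F) 1,
    phiC c4 (Nat.card F) 1]

theorem clique_F4 (F : Type u) [Field F] [Finite F] : ∀ C ∈ KF4 F, Cl ↥(chevF4.group F) C := by
  intro C hC
  simp only [KF4, List.mem_cons, List.not_mem_nil, or_false] at hC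
  rcases hC with rfl | rfl | rfl | rfl | rfl
  · exact fun _ _ hr hs hrs h1 h2 => ExcF4.rel12 hr hs hrs h1 h2
  · exact fun _ _ hr hs hrs h1 h2 => ExcF4.rel8 hr hs hrs h1 h2
  · refine Cl.or (fun _ _ hr hs hrs h1 h2 => ExcF4.rel3 hr hs hrs h1 h2)
      (Cl.or (fun _ _ hr hs hrs h1 h2 => ExcF4.rel1 hr hs hrs h1 h2)
        (fun _ _ hr hs hrs h1 h2 => ExcF4.rel2 hr hs hrs h1 h2)
        (fun _ _ hr hs hrs h1 h2 => ExcF4.rel_1_2 hr hs hrs h1 h2)) ?_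
    rintro r s hr hs hrs h1 (h2 | h2)
    · exact ExcF4.rel_3_1 hr hs hrs h1 h2
    · exact ExcF4.rel_3_2 hr hs hrs h1 h2
  · exact fun _ _ hr hs hrs h1 h2 => ExcF4.rel6 hr hs hrs h1 h2
  · exact fun _ _ hr hs hrs h1 h2 => ExcF4.rel4 hr hs hrs h1 h2

theorem cover_F4 (F : Type u) [Field F] [Finite F] : Cover ↥(chevF4.group F) (Nat.card F) 5 := by
  refine cover_of_list (KF4 F) rfl (fun r hr h3 hq hd => ?_) (clique_F4 F)
  obtain ⟨p, k, hp, hpk⟩ := exists_card F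
  obtain ⟨C, hC, hCr⟩ := (cov_F4 F hp hpk).cover r hr hd
  simp only [LF4, List.mem_cons, List.not_mem_nil, or_false] at hC
  rcases hC with rfl | rfl | rfl | rfl | rfl | rfl | rfl | rfl
  · exact absurd hCr (ne_p hpk hq)
  · exact ⟨_, .tail _ (.tail _ (.head _)), .inr (.inl hCr)⟩
  · exact ⟨_, .tail _ (.tail _ (.head _)), .inr (.inr hCr)⟩
  · exact ⟨_, .tail _ (.tail _ (.head _)), .inl hCr⟩
  · exact ⟨_, .tail _ (.tail _ (.tail _ (.tail _ (.head _)))), hCr⟩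
  · exact ⟨_, .tail _ (.tail _ (.tail _ (.head _))), hCr⟩
  · exact ⟨_, .tail _ (.head _), hCr⟩
  · exact ⟨_, .head _, hCr⟩

/-- the cliques of type E6 -/
def KE6 (F : Type u) : List (ℕ → Prop) := [
    phiC c9 (Nat.card F) 3,
    fun r => phiC c12 (Nat.card F) 3 r ∨ phiC c3 (Nat.card F) 3 r,
    fun r => phiC c8 (Nat.card F) 3 r ∨ (phiC c2 (Nat.card F) 3 r ∨ phiC c1 (Nat.card F) 3 r),
    phiC c5 (Nat.card F) 3,
    fun r => phiC c4 (Nat.card F) 3 r ∨ phiC c6 (Nat.card F) 3 r]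

theorem clique_E6 (F : Type u) [Field F] [Finite F] : ∀ C ∈ KE6 F, Cl ↥(chevE6.group F) C := by
  intro C hC
  simp only [KE6, List.mem_cons, List.not_mem_nil, or_false] at hC
  rcases hC with rfl | rfl | rfl | rfl | rfl
  · exact fun _ _ hr hs hrs h1 h2 => ExcE6.rel9 hr hs hrs h1 h2
  · exact Cl.or (fun _ _ hr hs hrs h1 h2 => ExcE6.rel12 hr hs hrs h1 h2)
      (fun _ _ hr hs hrs h1 h2 => ExcE6.rel3 hr hs hrs h1 h2)
      (fun _ _ hr hs hrs h1 h2 => ExcE6.rel_12_3 hr hs hrs h1 h2)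
  · refine Cl.or (fun _ _ hr hs hrs h1 h2 => ExcE6.rel8 hr hs hrs h1 h2)
      (Cl.or (fun _ _ hr hs hrs h1 h2 => ExcE6.rel2 hr hs hrs h1 h2)
        (fun _ _ hr hs hrs h1 h2 => ExcE6.rel1 hr hs hrs h1 h2)
        (fun _ _ hr hs hrs h1 h2 => ExcE6.rel_2_1 hr hs hrs h1 h2)) ?_
    rintro r s hr hs hrs h1 (h2 | h2)
    · exact ExcE6.rel_8_2 hr hs hrs h1 h2
    · exact ExcE6.rel_8_1 hr hs hrs h1 h2
  · exact fun _ _ hr hs hrs h1 h2 => ExcE6.rel5 hr hs hrs h1 h2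
  · exact Cl.or (fun _ _ hr hs hrs h1 h2 => ExcE6.rel4 hr hs hrs h1 h2)
      (fun _ _ hr hs hrs h1 h2 => ExcE6.rel6 hr hs hrs h1 h2)
      (fun _ _ hr hs hrs h1 h2 => ExcE6.rel_4_6 hr hs hrs h1 h2)

theorem cover_E6 (F : Type u) [Field F] [Finite F] : Cover ↥(chevE6.group F) (Nat.card F) 5 := by
  refine cover_of_list (KE6 F) rfl (fun r hr h3 hq hd => ?_) (clique_E6 F)
  obtain ⟨p, k, hp, hpk⟩ := exists_card F
  obtain ⟨C, hC, hCr⟩ := (cov_E6 F hp hpk).cover r hr hd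
  simp only [LE6, List.mem_cons, List.not_mem_nil, or_false] at hC
  rcases hC with rfl | rfl | rfl | rfl | rfl | rfl | rfl | rfl | rfl | rfl | rfl
  · exact absurd hCr (ne_p hpk hq)
  · exact absurd hCr (by omega)
  · exact ⟨_, .tail _ (.tail _ (.head _)), .inr (.inr hCr)⟩
  · exact ⟨_, .tail _ (.tail _ (.head _)), .inr (.inl hCr)⟩
  · exact ⟨_, .tail _ (.head _), .inr hCr⟩
  · exact ⟨_, .tail _ (.tail _ (.tail _ (.tail _ (.head _)))), .inl hCr⟩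
  · exact ⟨_, .tail _ (.tail _ (.tail _ (.head _))), hCr⟩
  · exact ⟨_, .tail _ (.tail _ (.tail _ (.tail _ (.head _)))), .inr hCr⟩
  · exact ⟨_, .tail _ (.tail _ (.head _)), .inl hCr⟩
  · exact ⟨_, .head _, hCr⟩
  · exact ⟨_, .tail _ (.head _), .inl hCr⟩

/-- the cliques of type E7 -/
def KE7 (F : Type u) : List (ℕ → Prop) := [
    fun r => phiC c18 (Nat.card F) 2 r ∨ phiC c2 (Nat.card F) 2 r,
    phiC c14 (Nat.card F) 2,
    fun r => phiC c9 (Nat.card F) 2 r ∨ phiC c1 (Nat.card F) 2 r,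
    phiC c7 (Nat.card F) 2,
    fun r => phiC c12 (Nat.card F) 2 r ∨ phiC c6 (Nat.card F) 2 r,
    phiC c10 (Nat.card F) 2,
    fun r => phiC c8 (Nat.card F) 2 r ∨ phiC c4 (Nat.card F) 2 r,
    fun r => phiC c5 (Nat.card F) 2 r ∨ phiC c3 (Nat.card F) 2 r]

theorem clique_E7 (F : Type u) [Field F] [Finite F] : ∀ C ∈ KE7 F, Cl ↥(chevE7.group F) C := by
  intro C hC
  simp only [KE7, List.mem_cons, List.not_mem_nil, or_false] at hC
  rcases hC with rfl | rfl | rfl | rfl | rfl | rfl | rfl | rfl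
  · exact Cl.or (fun _ _ hr hs hrs h1 h2 => ExcE7.rel18 hr hs hrs h1 h2)
      (fun _ _ hr hs hrs h1 h2 => ExcE7.rel2 hr hs hrs h1 h2)
      (fun _ _ hr hs hrs h1 h2 => ExcE7.rel_18_2 hr hs hrs h1 h2)
  · exact fun _ _ hr hs hrs h1 h2 => ExcE7.rel14 hr hs hrs h1 h2
  · exact Cl.or (fun _ _ hr hs hrs h1 h2 => ExcE7.rel9 hr hs hrs h1 h2)
      (fun _ _ hr hs hrs h1 h2 => ExcE7.rel1 hr hs hrs h1 h2)
      (fun _ _ hr hs hrs h1 h2 => ExcE7.rel_9_1 hr hs hrs h1 h2)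
  · exact fun _ _ hr hs hrs h1 h2 => ExcE7.rel7 hr hs hrs h1 h2
  · exact Cl.or (fun _ _ hr hs hrs h1 h2 => ExcE7.rel12 hr hs hrs h1 h2)
      (fun _ _ hr hs hrs h1 h2 => ExcE7.rel6 hr hs hrs h1 h2)
      (fun _ _ hr hs hrs h1 h2 => ExcE7.rel_12_6 hr hs hrs h1 h2)
  · exact fun _ _ hr hs hrs h1 h2 => ExcE7.rel10 hr hs hrs h1 h2
  · exact Cl.or (fun _ _ hr hs hrs h1 h2 => ExcE7.rel8 hr hs hrs h1 h2)
      (fun _ _ hr hs hrs h1 h2 => ExcE7.rel4 hr hs hrs h1 h2)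
      (fun _ _ hr hs hrs h1 h2 => ExcE7.rel_8_4 hr hs hrs h1 h2)
  · exact Cl.or (fun _ _ hr hs hrs h1 h2 => ExcE7.rel5 hr hs hrs h1 h2)
      (fun _ _ hr hs hrs h1 h2 => ExcE7.rel3 hr hs hrs h1 h2)
      (fun _ _ hr hs hrs h1 h2 => ExcE7.rel_5_3 hr hs hrs h1 h2)

theorem cover_E7 (F : Type u) [Field F] [Finite F] : Cover ↥(chevE7.group F) (Nat.card F) 8 := by
  refine cover_of_list (KE7 F) rfl (fun r hr h3 hq hd => ?_) (clique_E7 F)
  obtain ⟨p, k, hp, hpk⟩ := exists_card F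
  obtain ⟨C, hC, hCr⟩ := (cov_E7 F hp hpk).cover r hr hd
  simp only [LE7, List.mem_cons, List.not_mem_nil, or_false] at hC
  rcases hC with rfl | rfl | rfl | rfl | rfl | rfl | rfl | rfl | rfl | rfl | rfl | rfl | rfl | rfl | rfl
  · exact absurd hCr (ne_p hpk hq)
  · exact absurd hCr (by omega)
  · exact ⟨_, .tail _ (.tail _ (.head _)), .inr hCr⟩
  · exact ⟨_, .head _, .inr hCr⟩
  · exact ⟨_, .tail _ (.tail _ (.tail _ (.tail _ (.tail _ (.tail _ (.tail _ (.head _))))))), .inr hCr⟩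
  · exact ⟨_, .tail _ (.tail _ (.tail _ (.tail _ (.tail _ (.tail _ (.head _)))))), .inr hCr⟩
  · exact ⟨_, .tail _ (.tail _ (.tail _ (.tail _ (.tail _ (.tail _ (.tail _ (.head _))))))), .inl hCr⟩
  · exact ⟨_, .tail _ (.tail _ (.tail _ (.tail _ (.head _)))), .inr hCr⟩
  · exact ⟨_, .tail _ (.tail _ (.tail _ (.head _))), hCr⟩
  · exact ⟨_, .tail _ (.tail _ (.tail _ (.tail _ (.tail _ (.tail _ (.head _)))))), .inl hCr⟩
  · exact ⟨_, .tail _ (.tail _ (.head _)), .inl hCr⟩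
  · exact ⟨_, .tail _ (.tail _ (.tail _ (.tail _ (.tail _ (.head _))))), hCr⟩
  · exact ⟨_, .tail _ (.tail _ (.tail _ (.tail _ (.head _)))), .inl hCr⟩
  · exact ⟨_, .tail _ (.head _), hCr⟩
  · exact ⟨_, .head _, .inl hCr⟩

/-- the cliques of type E8 -/
def KE8 (F : Type u) : List (ℕ → Prop) := [
    phiC c30 (Nat.card F) 1,
    phiC c24 (Nat.card F) 1,
    phiC c20 (Nat.card F) 1,
    phiC c15 (Nat.card F) 1,
    fun r => phiC c18 (Nat.card F) 1 r ∨ phiC c6 (Nat.card F) 1 r,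
    fun r => phiC c14 (Nat.card F) 1 r ∨ phiC c2 (Nat.card F) 1 r,
    fun r => phiC c9 (Nat.card F) 1 r ∨ phiC c3 (Nat.card F) 1 r,
    fun r => phiC c7 (Nat.card F) 1 r ∨ phiC c1 (Nat.card F) 1 r,
    phiC c12 (Nat.card F) 1,
    phiC c10 (Nat.card F) 1,
    fun r => phiC c8 (Nat.card F) 1 r ∨ phiC c4 (Nat.card F) 1 r,
    phiC c5 (Nat.card F) 1]

theorem clique_E8 (F : Type u) [Field F] [Finite F] : ∀ C ∈ KE8 F, Cl ↥(chevE8.group F) C := by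
  intro C hC
  simp only [KE8, List.mem_cons, List.not_mem_nil, or_false] at hC
  rcases hC with rfl | rfl | rfl | rfl | rfl | rfl | rfl | rfl | rfl | rfl | rfl | rfl
  · exact fun _ _ hr hs hrs h1 h2 => ExcE8.rel30 hr hs hrs h1 h2
  · exact fun _ _ hr hs hrs h1 h2 => ExcE8.rel24 hr hs hrs h1 h2
  · exact fun _ _ hr hs hrs h1 h2 => ExcE8.rel20 hr hs hrs h1 h2
  · exact fun _ _ hr hs hrs h1 h2 => ExcE8.rel15 hr hs hrs h1 h2
  · exact Cl.or (fun _ _ hr hs hrs h1 h2 => ExcE8.rel18 hr hs hrs h1 h2)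
      (fun _ _ hr hs hrs h1 h2 => ExcE8.rel6 hr hs hrs h1 h2)
      (fun _ _ hr hs hrs h1 h2 => ExcE8.rel_18_6 hr hs hrs h1 h2)
  · exact Cl.or (fun _ _ hr hs hrs h1 h2 => ExcE8.rel14 hr hs hrs h1 h2)
      (fun _ _ hr hs hrs h1 h2 => ExcE8.rel2 hr hs hrs h1 h2)
      (fun _ _ hr hs hrs h1 h2 => ExcE8.rel_14_2 hr hs hrs h1 h2)
  · exact Cl.or (fun _ _ hr hs hrs h1 h2 => ExcE8.rel9 hr hs hrs h1 h2)
      (fun _ _ hr hs hrs h1 h2 => ExcE8.rel3 hr hs hrs h1 h2)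
      (fun _ _ hr hs hrs h1 h2 => ExcE8.rel_9_3 hr hs hrs h1 h2)
  · exact Cl.or (fun _ _ hr hs hrs h1 h2 => ExcE8.rel7 hr hs hrs h1 h2)
      (fun _ _ hr hs hrs h1 h2 => ExcE8.rel1 hr hs hrs h1 h2)
      (fun _ _ hr hs hrs h1 h2 => ExcE8.rel_7_1 hr hs hrs h1 h2)
  · exact fun _ _ hr hs hrs h1 h2 => ExcE8.rel12 hr hs hrs h1 h2
  · exact fun _ _ hr hs hrs h1 h2 => ExcE8.rel10 hr hs hrs h1 h2
  · exact Cl.or (fun _ _ hr hs hrs h1 h2 => ExcE8.rel8 hr hs hrs h1 h2)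
      (fun _ _ hr hs hrs h1 h2 => ExcE8.rel4 hr hs hrs h1 h2)
      (fun _ _ hr hs hrs h1 h2 => ExcE8.rel_8_4 hr hs hrs h1 h2)
  · exact fun _ _ hr hs hrs h1 h2 => ExcE8.rel5 hr hs hrs h1 h2

theorem cover_E8 (F : Type u) [Field F] [Finite F] : Cover ↥(chevE8.group F) (Nat.card F) 12 := by
  refine cover_of_list (KE8 F) rfl (fun r hr h3 hq hd => ?_) (clique_E8 F)
  obtain ⟨p, k, hp, hpk⟩ := exists_card F
  obtain ⟨C, hC, hCr⟩ := (cov_E8 F hp hpk).cover r hr hd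
  simp only [LE8, List.mem_cons, List.not_mem_nil, or_false] at hC
  rcases hC with rfl | rfl | rfl | rfl | rfl | rfl | rfl | rfl | rfl | rfl | rfl | rfl | rfl | rfl | rfl | rfl | rfl | rfl
  · exact absurd hCr (ne_p hpk hq)
  · exact ⟨_, .tail _ (.tail _ (.tail _ (.tail _ (.tail _ (.tail _ (.tail _ (.head _))))))), .inr hCr⟩
  · exact ⟨_, .tail _ (.tail _ (.tail _ (.tail _ (.tail _ (.head _))))), .inr hCr⟩
  · exact ⟨_, .tail _ (.tail _ (.tail _ (.tail _ (.tail _ (.tail _ (.head _)))))), .inr hCr⟩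
  · exact ⟨_, .tail _ (.tail _ (.tail _ (.tail _ (.tail _ (.tail _ (.tail _ (.tail _ (.tail _ (.tail _ (.head _)))))))))), .inr hCr⟩
  · exact ⟨_, .tail _ (.tail _ (.tail _ (.tail _ (.tail _ (.tail _ (.tail _ (.tail _ (.tail _ (.tail _ (.tail _ (.head _))))))))))), hCr⟩
  · exact ⟨_, .tail _ (.tail _ (.tail _ (.tail _ (.head _)))), .inr hCr⟩
  · exact ⟨_, .tail _ (.tail _ (.tail _ (.tail _ (.tail _ (.tail _ (.tail _ (.head _))))))), .inl hCr⟩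
  · exact ⟨_, .tail _ (.tail _ (.tail _ (.tail _ (.tail _ (.tail _ (.tail _ (.tail _ (.tail _ (.tail _ (.head _)))))))))), .inl hCr⟩
  · exact ⟨_, .tail _ (.tail _ (.tail _ (.tail _ (.tail _ (.tail _ (.head _)))))), .inl hCr⟩
  · exact ⟨_, .tail _ (.tail _ (.tail _ (.tail _ (.tail _ (.tail _ (.tail _ (.tail _ (.tail _ (.head _))))))))), hCr⟩
  · exact ⟨_, .tail _ (.tail _ (.tail _ (.tail _ (.tail _ (.tail _ (.tail _ (.tail _ (.head _)))))))), hCr⟩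
  · exact ⟨_, .tail _ (.tail _ (.tail _ (.tail _ (.tail _ (.head _))))), .inl hCr⟩
  · exact ⟨_, .tail _ (.tail _ (.tail _ (.head _))), hCr⟩
  · exact ⟨_, .tail _ (.tail _ (.tail _ (.tail _ (.head _)))), .inl hCr⟩
  · exact ⟨_, .tail _ (.tail _ (.head _)), hCr⟩
  · exact ⟨_, .tail _ (.head _), hCr⟩
  · exact ⟨_, .head _, hCr⟩

theorem e8_cover {F : Type} [Field F] [Fintype F] : Cover ↥(Lie.chevE8.group F) (Fintype.card F) 12 := by
  rw [← Nat.card_eq_fintype_card]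
  exact cover_E8 F

theorem e7_cover {F : Type} [Field F] [Fintype F] : Cover ↥(Lie.chevE7.group F) (Fintype.card F) 8 := by
  rw [← Nat.card_eq_fintype_card]
  exact cover_E7 F

theorem e6_cover {F : Type} [Field F] [Fintype F] : Cover ↥(Lie.chevE6.group F) (Fintype.card F) 5 := by
  rw [← Nat.card_eq_fintype_card]
  exact cover_E6 F

theorem f4_cover {F : Type} [Field F] [Fintype F] : Cover ↥(Lie.chevF4.group F) (Fintype.card F) 5 := by
  rw [← Nat.card_eq_fintype_card]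
  exact cover_F4 F

theorem g2_cover {F : Type} [Field F] [Fintype F] : Cover ↥(Lie.chevG2.group F) (Fintype.card F) 3 := by
  rw [← Nat.card_eq_fintype_card]
  exact cover_G2 F

end Cfsg.Agent.H168.ExcCover
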