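import Cfsg.Agent.H168.ExcAdj
import Cfsg.Agent.H493.PGE6

/-!
# Adjacency of the prime divisors of each cyclotomic value, type E6 (helper168)
-/

set_option autoImplicit false

namespace Cfsg.Agent.H168.ExcE6

open Cfsg.Agent.H129.WData Cfsg.Agent.ChevalleyStructure.CoxeterGeomTypes Cfsg.Agent.Nodes.RGDChev
open Cfsg.Lie Cfsg.Lie.ChevalleyDatum
open Cfsg.Agent.H493 Cfsg.Agent.H493.PGTorus Cfsg.Agent.H493.PGCyc Cfsg.Agent.H493.PGE6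
open Cfsg.Agent.H168.ExcAdj

universe u

/-- partial products of an element with characteristic polynomial divisible by the cyclotomic polynomial 1 -/
def ch1 : List (Fin 6 × Mat 6) := []

theorem ch1_ok : ChainOK Am ch1 := by decide +kernel

/-- coefficients of the eigenvector -/
def Ve1 : Fin 1 → Fin 6 → ℤ := ![![1, 0, 0, 0, 0, 0]]

/-- the functional -/
def Ue1 : Fin 6 → ℤ := ![1, 0, 0, 0, 0, 0]

theorem eig_1 : EigOK (hd ch1) c1 Ve1 Ue1 := by decide +kernel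

theorem rel1 {F : Type u} [Field F] [Finite F] {r s : ℕ} (hr : r.Prime) (hs : s.Prime) (hrs : r ≠ s)
    (h1 : phiC c1 (Nat.card F) 3 r) (h2 : phiC c1 (Nat.card F) 3 s) :
    PG.Rel ↥(chevE6.group F) r s := by
  have := finW
  exact rel_of_eig hp CoxeterMatrix.E₆.toCoxeterSystem H129.TorusChar.invC_E6 (by norm_num)
    (chain_rep hp CoxeterMatrix.E₆.toCoxeterSystem hA ch1_ok) eig_1 eig_1 hr hs hrs h1.1 h2.1 h1.2 h2.2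

/-- partial products of an element with characteristic polynomial divisible by the cyclotomic polynomial 2 -/
def ch2 : List (Fin 6 × Mat 6) := [
    (0, ![![-1, 0, 0, 0, 0, 0], ![0, 1, 0, 0, 0, 0], ![1, 0, 1, 0, 0, 0], ![0, 0, 0, 1, 0, 0], ![0, 0, 0, 0, 1, 0],
      ![0, 0, 0, 0, 0, 1]])]

theorem ch2_ok : ChainOK Am ch2 := by decide +kernel

/-- coefficients of the eigenvector -/
def Ve2 : Fin 1 → Fin 6 → ℤ := ![![1, 0, 0, 0, 0, 0]]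

/-- the functional -/
def Ue2 : Fin 6 → ℤ := ![1, 0, 0, 0, 0, 0]

theorem eig_2 : EigOK (hd ch2) c2 Ve2 Ue2 := by decide +kernel

theorem rel2 {F : Type u} [Field F] [Finite F] {r s : ℕ} (hr : r.Prime) (hs : s.Prime) (hrs : r ≠ s)
    (h1 : phiC c2 (Nat.card F) 3 r) (h2 : phiC c2 (Nat.card F) 3 s) :
    PG.Rel ↥(chevE6.group F) r s := by
  have := finW
  exact rel_of_eig hp CoxeterMatrix.E₆.toCoxeterSystem H129.TorusChar.invC_E6 (by norm_num)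
    (chain_rep hp CoxeterMatrix.E₆.toCoxeterSystem hA ch2_ok) eig_2 eig_2 hr hs hrs h1.1 h2.1 h1.2 h2.2

/-- partial products of an element with characteristic polynomial divisible by the cyclotomic polynomial 3 -/
def ch3 : List (Fin 6 × Mat 6) := [
    (0, ![![0, 0, 1, 0, 0, 0], ![0, 1, 0, 0, 0, 0], ![-1, 0, -1, 0, 0, 0], ![1, 0, 1, 1, 0, 0], ![0, 0, 0, 0, 1, 0],
      ![0, 0, 0, 0, 0, 1]]),
    (2, ![![1, 0, 1, 0, 0, 0], ![0, 1, 0, 0, 0, 0], ![0, 0, -1, 0, 0, 0], ![0, 0, 1, 1, 0, 0], ![0, 0, 0, 0, 1, 0],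
      ![0, 0, 0, 0, 0, 1]])]

theorem ch3_ok : ChainOK Am ch3 := by decide +kernel

/-- coefficients of the eigenvector -/
def Ve3 : Fin 2 → Fin 6 → ℤ := ![![-1, 0, 0, 0, 0, 0], ![0, 0, 1, 0, 0, 0]]

/-- the functional -/
def Ue3 : Fin 6 → ℤ := ![-1, 0, 0, 0, 0, 0]

theorem eig_3 : EigOK (hd ch3) c3 Ve3 Ue3 := by decide +kernel

theorem rel3 {F : Type u} [Field F] [Finite F] {r s : ℕ} (hr : r.Prime) (hs : s.Prime) (hrs : r ≠ s)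
    (h1 : phiC c3 (Nat.card F) 3 r) (h2 : phiC c3 (Nat.card F) 3 s) :
    PG.Rel ↥(chevE6.group F) r s := by
  have := finW
  exact rel_of_eig hp CoxeterMatrix.E₆.toCoxeterSystem H129.TorusChar.invC_E6 (by norm_num)
    (chain_rep hp CoxeterMatrix.E₆.toCoxeterSystem hA ch3_ok) eig_3 eig_3 hr hs hrs h1.1 h2.1 h1.2 h2.2

/-- partial products of an element with characteristic polynomial divisible by the cyclotomic polynomial 4 -/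
def ch4 : List (Fin 6 × Mat 6) := [
    (0, ![![0, 0, 1, 0, 0, 0], ![1, 1, 1, 1, 0, 0], ![0, 0, 0, 1, 0, 0], ![-1, 0, -1, -1, 0, 0], ![1, 0, 1, 1, 1, 0],
      ![0, 0, 0, 0, 0, 1]]),
    (2, ![![1, 0, 1, 0, 0, 0], ![0, 1, 1, 1, 0, 0], ![0, 0, 0, 1, 0, 0], ![0, 0, -1, -1, 0, 0], ![0, 0, 1, 1, 1, 0],
      ![0, 0, 0, 0, 0, 1]]),
    (3, ![![1, 0, 0, 0, 0, 0], ![0, 1, 0, 1, 0, 0], ![0, 0, 1, 1, 0, 0], ![0, 0, 0, -1, 0, 0], ![0, 0, 0, 1, 1, 0],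
      ![0, 0, 0, 0, 0, 1]])]

theorem ch4_ok : ChainOK Am ch4 := by decide +kernel

/-- coefficients of the eigenvector -/
def Ve4 : Fin 2 → Fin 6 → ℤ := ![![0, 0, 1, 1, 0, 0], ![1, 0, 1, 0, 0, 0]]

/-- the functional -/
def Ue4 : Fin 6 → ℤ := ![-1, 0, 1, 0, 0, 0]

theorem eig_4 : EigOK (hd ch4) c4 Ve4 Ue4 := by decide +kernel

theorem rel4 {F : Type u} [Field F] [Finite F] {r s : ℕ} (hr : r.Prime) (hs : s.Prime) (hrs : r ≠ s)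
    (h1 : phiC c4 (Nat.card F) 3 r) (h2 : phiC c4 (Nat.card F) 3 s) :
    PG.Rel ↥(chevE6.group F) r s := by
  have := finW
  exact rel_of_eig hp CoxeterMatrix.E₆.toCoxeterSystem H129.TorusChar.invC_E6 (by norm_num)
    (chain_rep hp CoxeterMatrix.E₆.toCoxeterSystem hA ch4_ok) eig_4 eig_4 hr hs hrs h1.1 h2.1 h1.2 h2.2

/-- partial products of an element with characteristic polynomial divisible by the cyclotomic polynomial 5 -/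
def ch5 : List (Fin 6 × Mat 6) := [
    (0, ![![0, 0, 1, 0, 0, 0], ![1, 0, 1, 1, 0, 0], ![0, 1, 0, 1, 0, 0], ![-1, -1, -1, -1, 0, 0], ![1, 1, 1, 1, 1, 0],
      ![0, 0, 0, 0, 0, 1]]),
    (1, ![![1, 0, 1, 0, 0, 0], ![0, 0, 1, 1, 0, 0], ![0, 1, 0, 1, 0, 0], ![0, -1, -1, -1, 0, 0], ![0, 1, 1, 1, 1, 0],
      ![0, 0, 0, 0, 0, 1]]),
    (2, ![![1, 0, 1, 0, 0, 0], ![0, 1, 1, 1, 0, 0], ![0, 0, 0, 1, 0, 0], ![0, 0, -1, -1, 0, 0], ![0, 0, 1, 1, 1, 0],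
      ![0, 0, 0, 0, 0, 1]]),
    (3, ![![1, 0, 0, 0, 0, 0], ![0, 1, 0, 1, 0, 0], ![0, 0, 1, 1, 0, 0], ![0, 0, 0, -1, 0, 0], ![0, 0, 0, 1, 1, 0],
      ![0, 0, 0, 0, 0, 1]])]

theorem ch5_ok : ChainOK Am ch5 := by decide +kernel

/-- coefficients of the eigenvector -/
def Ve5 : Fin 4 → Fin 6 → ℤ := ![![-1, 0, 0, 0, 0, 0], ![0, 0, 1, 1, 0, 0], ![0, 1, 1, 1, 0, 0], ![0, 0, 1, 0, 0, 0]]

/-- the functional -/
def Ue5 : Fin 6 → ℤ := ![-1, 0, 0, 0, 0, 0]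

theorem eig_5 : EigOK (hd ch5) c5 Ve5 Ue5 := by decide +kernel

theorem rel5 {F : Type u} [Field F] [Finite F] {r s : ℕ} (hr : r.Prime) (hs : s.Prime) (hrs : r ≠ s)
    (h1 : phiC c5 (Nat.card F) 3 r) (h2 : phiC c5 (Nat.card F) 3 s) :
    PG.Rel ↥(chevE6.group F) r s := by
  have := finW
  exact rel_of_eig hp CoxeterMatrix.E₆.toCoxeterSystem H129.TorusChar.invC_E6 (by norm_num)
    (chain_rep hp CoxeterMatrix.E₆.toCoxeterSystem hA ch5_ok) eig_5 eig_5 hr hs hrs h1.1 h2.1 h1.2 h2.2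

/-- partial products of an element with characteristic polynomial divisible by the cyclotomic polynomial 6 -/
def ch6 : List (Fin 6 × Mat 6) := [
    (1, ![![1, 0, 1, 0, 0, 0], ![0, 0, 1, 1, 0, 0], ![0, 1, 0, 1, 0, 0], ![0, 0, 0, 0, 1, 0], ![0, -1, -1, -1, -1, 0],
      ![0, 1, 1, 1, 1, 1]]),
    (2, ![![1, 0, 1, 0, 0, 0], ![0, 1, 1, 1, 0, 0], ![0, 0, 0, 1, 0, 0], ![0, 0, 0, 0, 1, 0], ![0, 0, -1, -1, -1, 0],
      ![0, 0, 1, 1, 1, 1]]),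
    (3, ![![1, 0, 0, 0, 0, 0], ![0, 1, 0, 1, 0, 0], ![0, 0, 1, 1, 0, 0], ![0, 0, 0, 0, 1, 0], ![0, 0, 0, -1, -1, 0],
      ![0, 0, 0, 1, 1, 1]]),
    (4, ![![1, 0, 0, 0, 0, 0], ![0, 1, 0, 0, 0, 0], ![0, 0, 1, 0, 0, 0], ![0, 0, 0, 1, 1, 0], ![0, 0, 0, 0, -1, 0],
      ![0, 0, 0, 0, 1, 1]])]

theorem ch6_ok : ChainOK Am ch6 := by decide +kernel

/-- coefficients of the eigenvector -/
def Ve6 : Fin 2 → Fin 6 → ℤ := ![![0, -1, -1, -2, -1, 0], ![0, 0, 0, 1, 1, 0]]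

/-- the functional -/
def Ue6 : Fin 6 → ℤ := ![0, -1, 0, 0, 0, 0]

theorem eig_6 : EigOK (hd ch6) c6 Ve6 Ue6 := by decide +kernel

theorem rel6 {F : Type u} [Field F] [Finite F] {r s : ℕ} (hr : r.Prime) (hs : s.Prime) (hrs : r ≠ s)
    (h1 : phiC c6 (Nat.card F) 3 r) (h2 : phiC c6 (Nat.card F) 3 s) :
    PG.Rel ↥(chevE6.group F) r s := by
  have := finW
  exact rel_of_eig hp CoxeterMatrix.E₆.toCoxeterSystem H129.TorusChar.invC_E6 (by norm_num)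
    (chain_rep hp CoxeterMatrix.E₆.toCoxeterSystem hA ch6_ok) eig_6 eig_6 hr hs hrs h1.1 h2.1 h1.2 h2.2

/-- partial products of an element with characteristic polynomial divisible by the cyclotomic polynomial 8 -/
def ch8 : List (Fin 6 × Mat 6) := [
    (0, ![![0, 0, 1, 0, 0, 0], ![1, 0, 1, 1, 0, 0], ![0, 1, 0, 1, 0, 0], ![0, 0, 0, 0, 1, 0], ![-1, -1, -1, -1, -1, 0],
      ![1, 1, 1, 1, 1, 1]]),
    (1, ![![1, 0, 1, 0, 0, 0], ![0, 0, 1, 1, 0, 0], ![0, 1, 0, 1, 0, 0], ![0, 0, 0, 0, 1, 0], ![0, -1, -1, -1, -1, 0],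
      ![0, 1, 1, 1, 1, 1]]),
    (2, ![![1, 0, 1, 0, 0, 0], ![0, 1, 1, 1, 0, 0], ![0, 0, 0, 1, 0, 0], ![0, 0, 0, 0, 1, 0], ![0, 0, -1, -1, -1, 0],
      ![0, 0, 1, 1, 1, 1]]),
    (3, ![![1, 0, 0, 0, 0, 0], ![0, 1, 0, 1, 0, 0], ![0, 0, 1, 1, 0, 0], ![0, 0, 0, 0, 1, 0], ![0, 0, 0, -1, -1, 0],
      ![0, 0, 0, 1, 1, 1]]),
    (4, ![![1, 0, 0, 0, 0, 0], ![0, 1, 0, 0, 0, 0], ![0, 0, 1, 0, 0, 0], ![0, 0, 0, 1, 1, 0], ![0, 0, 0, 0, -1, 0],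
      ![0, 0, 0, 0, 1, 1]])]

theorem ch8_ok : ChainOK Am ch8 := by decide +kernel

/-- coefficients of the eigenvector -/
def Ve8 : Fin 4 → Fin 6 → ℤ := ![![-1, 0, 0, 0, 0, 0], ![1, 0, 1, 1, 1, 0], ![0, 1, 0, 1, 0, 0], ![0, 0, 1, 0, 0, 0]]

/-- the functional -/
def Ue8 : Fin 6 → ℤ := ![-1, -1, 0, 1, 0, 0]

theorem eig_8 : EigOK (hd ch8) c8 Ve8 Ue8 := by decide +kernel

theorem rel8 {F : Type u} [Field F] [Finite F] {r s : ℕ} (hr : r.Prime) (hs : s.Prime) (hrs : r ≠ s)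
    (h1 : phiC c8 (Nat.card F) 3 r) (h2 : phiC c8 (Nat.card F) 3 s) :
    PG.Rel ↥(chevE6.group F) r s := by
  have := finW
  exact rel_of_eig hp CoxeterMatrix.E₆.toCoxeterSystem H129.TorusChar.invC_E6 (by norm_num)
    (chain_rep hp CoxeterMatrix.E₆.toCoxeterSystem hA ch8_ok) eig_8 eig_8 hr hs hrs h1.1 h2.1 h1.2 h2.2

/-- partial products of an element with characteristic polynomial divisible by the cyclotomic polynomial 9 -/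
def ch9 : List (Fin 6 × Mat 6) := [
    (3, ![![-1, 0, -1, -1, 0, 0], ![0, -1, -1, -2, -1, -1], ![1, 0, 1, 1, 1, 1], ![0, 1, 1, 1, 0, 0],
      ![0, 0, -1, 0, 0, 0], ![0, 0, 1, 1, 1, 0]]),
    (3, ![![-1, 0, -1, 0, 0, 0], ![0, -1, -1, -1, -1, -1], ![1, 0, 1, 1, 1, 1], ![0, 1, 1, 1, 0, 0],
      ![0, 0, -1, -1, 0, 0], ![0, 0, 1, 1, 1, 0]]),
    (3, ![![-1, 0, -1, -1, 0, 0], ![0, -1, -1, -2, -1, -1], ![1, 0, 1, 1, 1, 1], ![0, 1, 1, 1, 0, 0],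
      ![0, 0, -1, 0, 0, 0], ![0, 0, 1, 1, 1, 0]]),
    (2, ![![-1, 0, -1, 0, 0, 0], ![0, -1, -1, -1, -1, -1], ![1, 0, 1, 1, 1, 1], ![0, 1, 1, 1, 0, 0],
      ![0, 0, -1, -1, 0, 0], ![0, 0, 1, 1, 1, 0]]),
    (5, ![![-1, 0, 0, 0, 0, 0], ![0, -1, 0, -1, -1, -1], ![1, 0, 1, 1, 1, 1], ![0, 1, 0, 1, 0, 0], ![0, 0, 0, -1, 0, 0],
      ![0, 0, 0, 1, 1, 0]]),
    (4, ![![-1, 0, 0, 0, 0, 0], ![0, -1, 0, -1, -1, 0], ![1, 0, 1, 1, 1, 0], ![0, 1, 0, 1, 0, 0], ![0, 0, 0, -1, 0, 0],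
      ![0, 0, 0, 1, 1, 1]]),
    (3, ![![-1, 0, 0, 0, 0, 0], ![0, -1, 0, -1, 0, 0], ![1, 0, 1, 1, 0, 0], ![0, 1, 0, 1, 1, 0], ![0, 0, 0, -1, -1, 0],
      ![0, 0, 0, 1, 1, 1]]),
    (0, ![![-1, 0, 0, 0, 0, 0], ![0, -1, 0, 0, 0, 0], ![1, 0, 1, 0, 0, 0], ![0, 1, 0, 1, 1, 0], ![0, 0, 0, 0, -1, 0],
      ![0, 0, 0, 0, 1, 1]]),
    (1, ![![1, 0, 0, 0, 0, 0], ![0, -1, 0, 0, 0, 0], ![0, 0, 1, 0, 0, 0], ![0, 1, 0, 1, 1, 0], ![0, 0, 0, 0, -1, 0],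
      ![0, 0, 0, 0, 1, 1]]),
    (4, ![![1, 0, 0, 0, 0, 0], ![0, 1, 0, 0, 0, 0], ![0, 0, 1, 0, 0, 0], ![0, 0, 0, 1, 1, 0], ![0, 0, 0, 0, -1, 0],
      ![0, 0, 0, 0, 1, 1]])]

theorem ch9_ok : ChainOK Am ch9 := by decide +kernel

/-- coefficients of the eigenvector -/
def Ve9 : Fin 6 → Fin 6 → ℤ := ![![0, -1, -1, -1, -1, 0], ![-1, -1, -1, -2, -1, -1], ![0, 0, -1, -1, -1, 0], ![0, -1, -1, -1, -1, -1],
    ![-1, 0, -1, -1, 0, 0], ![1, 0, 0, 0, 0, 0]]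

/-- the functional -/
def Ue9 : Fin 6 → ℤ := ![0, -1, 0, 0, 0, 1]

theorem eig_9 : EigOK (hd ch9) c9 Ve9 Ue9 := by decide +kernel

theorem rel9 {F : Type u} [Field F] [Finite F] {r s : ℕ} (hr : r.Prime) (hs : s.Prime) (hrs : r ≠ s)
    (h1 : phiC c9 (Nat.card F) 3 r) (h2 : phiC c9 (Nat.card F) 3 s) :
    PG.Rel ↥(chevE6.group F) r s := by
  have := finW
  exact rel_of_eig hp CoxeterMatrix.E₆.toCoxeterSystem H129.TorusChar.invC_E6 (by norm_num)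
    (chain_rep hp CoxeterMatrix.E₆.toCoxeterSystem hA ch9_ok) eig_9 eig_9 hr hs hrs h1.1 h2.1 h1.2 h2.2

/-- partial products of an element with characteristic polynomial divisible by the cyclotomic polynomial 12 -/
def ch12 : List (Fin 6 × Mat 6) := [
    (0, ![![0, 0, 1, 0, 0, 0], ![1, 0, 1, 1, 0, 0], ![0, 1, 0, 1, 0, 0], ![0, 0, 0, 0, 1, 0], ![0, 0, 0, 0, 0, 1],
      ![-1, -1, -1, -1, -1, -1]]),
    (1, ![![1, 0, 1, 0, 0, 0], ![0, 0, 1, 1, 0, 0], ![0, 1, 0, 1, 0, 0], ![0, 0, 0, 0, 1, 0], ![0, 0, 0, 0, 0, 1],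
      ![0, -1, -1, -1, -1, -1]]),
    (2, ![![1, 0, 1, 0, 0, 0], ![0, 1, 1, 1, 0, 0], ![0, 0, 0, 1, 0, 0], ![0, 0, 0, 0, 1, 0], ![0, 0, 0, 0, 0, 1],
      ![0, 0, -1, -1, -1, -1]]),
    (3, ![![1, 0, 0, 0, 0, 0], ![0, 1, 0, 1, 0, 0], ![0, 0, 1, 1, 0, 0], ![0, 0, 0, 0, 1, 0], ![0, 0, 0, 0, 0, 1],
      ![0, 0, 0, -1, -1, -1]]),
    (4, ![![1, 0, 0, 0, 0, 0], ![0, 1, 0, 0, 0, 0], ![0, 0, 1, 0, 0, 0], ![0, 0, 0, 1, 1, 0], ![0, 0, 0, 0, 0, 1],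
      ![0, 0, 0, 0, -1, -1]]),
    (5, ![![1, 0, 0, 0, 0, 0], ![0, 1, 0, 0, 0, 0], ![0, 0, 1, 0, 0, 0], ![0, 0, 0, 1, 0, 0], ![0, 0, 0, 0, 1, 1],
      ![0, 0, 0, 0, 0, -1]])]

theorem ch12_ok : ChainOK Am ch12 := by decide +kernel

/-- coefficients of the eigenvector -/
def Ve12 : Fin 4 → Fin 6 → ℤ := ![![0, 1, 0, 1, 1, 1], ![0, 0, 1, 1, 1, 0], ![1, 0, 1, 1, 0, 0], ![0, 1, 0, 0, 0, 0]]

/-- the functional -/
def Ue12 : Fin 6 → ℤ := ![0, 0, -1, 1, 0, 0]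

theorem eig_12 : EigOK (hd ch12) c12 Ve12 Ue12 := by decide +kernel

theorem rel12 {F : Type u} [Field F] [Finite F] {r s : ℕ} (hr : r.Prime) (hs : s.Prime) (hrs : r ≠ s)
    (h1 : phiC c12 (Nat.card F) 3 r) (h2 : phiC c12 (Nat.card F) 3 s) :
    PG.Rel ↥(chevE6.group F) r s := by
  have := finW
  exact rel_of_eig hp CoxeterMatrix.E₆.toCoxeterSystem H129.TorusChar.invC_E6 (by norm_num)
    (chain_rep hp CoxeterMatrix.E₆.toCoxeterSystem hA ch12_ok) eig_12 eig_12 hr hs hrs h1.1 h2.1 h1.2 h2.2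

end Cfsg.Agent.H168.ExcE6
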