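import Cfsg.Agent.H168.ExcAdj
import Cfsg.Agent.H493.PGE8

/-!
# Adjacency of the prime divisors of each cyclotomic value, type E8 (helper168)
-/

set_option autoImplicit false

namespace Cfsg.Agent.H168.ExcE8

open Cfsg.Agent.H129.WData Cfsg.Agent.ChevalleyStructure.CoxeterGeomTypes Cfsg.Agent.Nodes.RGDChev
open Cfsg.Lie Cfsg.Lie.ChevalleyDatum
open Cfsg.Agent.H493 Cfsg.Agent.H493.PGTorus Cfsg.Agent.H493.PGCyc Cfsg.Agent.H493.PGE8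
open Cfsg.Agent.H168.ExcAdj

universe u

/-- partial products of an element with characteristic polynomial divisible by the cyclotomic polynomial 1 -/
def ch1 : List (Fin 8 × Mat 8) := []

theorem ch1_ok : ChainOK Am ch1 := by decide +kernel

/-- coefficients of the eigenvector -/
def Ve1 : Fin 1 → Fin 8 → ℤ := ![![1, 0, 0, 0, 0, 0, 0, 0]]

/-- the functional -/
def Ue1 : Fin 8 → ℤ := ![1, 0, 0, 0, 0, 0, 0, 0]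

theorem eig_1 : EigOK (hd ch1) c1 Ve1 Ue1 := by decide +kernel

theorem rel1 {F : Type u} [Field F] [Finite F] {r s : ℕ} (hr : r.Prime) (hs : s.Prime) (hrs : r ≠ s)
    (h1 : phiC c1 (Nat.card F) 1 r) (h2 : phiC c1 (Nat.card F) 1 s) :
    PG.Rel ↥(chevE8.group F) r s := by
  have := finW
  exact rel_of_eig hp CoxeterMatrix.E₈.toCoxeterSystem H129.TorusChar.invC_E8 one_ne_zero
    (chain_rep hp CoxeterMatrix.E₈.toCoxeterSystem hA ch1_ok) eig_1 eig_1 hr hs hrs h1.1 h2.1 h1.2 h2.2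

/-- partial products of an element with characteristic polynomial divisible by the cyclotomic polynomial 2 -/
def ch2 : List (Fin 8 × Mat 8) := [
    (0, ![![-1, 0, 0, 0, 0, 0, 0, 0], ![0, 1, 0, 0, 0, 0, 0, 0], ![1, 0, 1, 0, 0, 0, 0, 0], ![0, 0, 0, 1, 0, 0, 0, 0],
      ![0, 0, 0, 0, 1, 0, 0, 0], ![0, 0, 0, 0, 0, 1, 0, 0], ![0, 0, 0, 0, 0, 0, 1, 0], ![0, 0, 0, 0, 0, 0, 0, 1]])]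

theorem ch2_ok : ChainOK Am ch2 := by decide +kernel

/-- coefficients of the eigenvector -/
def Ve2 : Fin 1 → Fin 8 → ℤ := ![![1, 0, 0, 0, 0, 0, 0, 0]]

/-- the functional -/
def Ue2 : Fin 8 → ℤ := ![1, 0, 0, 0, 0, 0, 0, 0]

theorem eig_2 : EigOK (hd ch2) c2 Ve2 Ue2 := by decide +kernel

theorem rel2 {F : Type u} [Field F] [Finite F] {r s : ℕ} (hr : r.Prime) (hs : s.Prime) (hrs : r ≠ s)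
    (h1 : phiC c2 (Nat.card F) 1 r) (h2 : phiC c2 (Nat.card F) 1 s) :
    PG.Rel ↥(chevE8.group F) r s := by
  have := finW
  exact rel_of_eig hp CoxeterMatrix.E₈.toCoxeterSystem H129.TorusChar.invC_E8 one_ne_zero
    (chain_rep hp CoxeterMatrix.E₈.toCoxeterSystem hA ch2_ok) eig_2 eig_2 hr hs hrs h1.1 h2.1 h1.2 h2.2

/-- partial products of an element with characteristic polynomial divisible by the cyclotomic polynomial 3 -/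
def ch3 : List (Fin 8 × Mat 8) := [
    (0, ![![0, 0, 1, 0, 0, 0, 0, 0], ![0, 1, 0, 0, 0, 0, 0, 0], ![-1, 0, -1, 0, 0, 0, 0, 0], ![1, 0, 1, 1, 0, 0, 0, 0],
      ![0, 0, 0, 0, 1, 0, 0, 0], ![0, 0, 0, 0, 0, 1, 0, 0], ![0, 0, 0, 0, 0, 0, 1, 0], ![0, 0, 0, 0, 0, 0, 0, 1]]),
    (2, ![![1, 0, 1, 0, 0, 0, 0, 0], ![0, 1, 0, 0, 0, 0, 0, 0], ![0, 0, -1, 0, 0, 0, 0, 0], ![0, 0, 1, 1, 0, 0, 0, 0],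
      ![0, 0, 0, 0, 1, 0, 0, 0], ![0, 0, 0, 0, 0, 1, 0, 0], ![0, 0, 0, 0, 0, 0, 1, 0], ![0, 0, 0, 0, 0, 0, 0, 1]])]

theorem ch3_ok : ChainOK Am ch3 := by decide +kernel

/-- coefficients of the eigenvector -/
def Ve3 : Fin 2 → Fin 8 → ℤ := ![![-1, 0, 0, 0, 0, 0, 0, 0], ![0, 0, 1, 0, 0, 0, 0, 0]]

/-- the functional -/
def Ue3 : Fin 8 → ℤ := ![-1, 0, 0, 0, 0, 0, 0, 0]

theorem eig_3 : EigOK (hd ch3) c3 Ve3 Ue3 := by decide +kernel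

theorem rel3 {F : Type u} [Field F] [Finite F] {r s : ℕ} (hr : r.Prime) (hs : s.Prime) (hrs : r ≠ s)
    (h1 : phiC c3 (Nat.card F) 1 r) (h2 : phiC c3 (Nat.card F) 1 s) :
    PG.Rel ↥(chevE8.group F) r s := by
  have := finW
  exact rel_of_eig hp CoxeterMatrix.E₈.toCoxeterSystem H129.TorusChar.invC_E8 one_ne_zero
    (chain_rep hp CoxeterMatrix.E₈.toCoxeterSystem hA ch3_ok) eig_3 eig_3 hr hs hrs h1.1 h2.1 h1.2 h2.2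

/-- partial products of an element with characteristic polynomial divisible by the cyclotomic polynomial 4 -/
def ch4 : List (Fin 8 × Mat 8) := [
    (0, ![![0, 0, 1, 0, 0, 0, 0, 0], ![1, 1, 1, 1, 0, 0, 0, 0], ![0, 0, 0, 1, 0, 0, 0, 0], ![-1, 0, -1, -1, 0, 0, 0, 0],
      ![1, 0, 1, 1, 1, 0, 0, 0], ![0, 0, 0, 0, 0, 1, 0, 0], ![0, 0, 0, 0, 0, 0, 1, 0], ![0, 0, 0, 0, 0, 0, 0, 1]]),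
    (2, ![![1, 0, 1, 0, 0, 0, 0, 0], ![0, 1, 1, 1, 0, 0, 0, 0], ![0, 0, 0, 1, 0, 0, 0, 0], ![0, 0, -1, -1, 0, 0, 0, 0],
      ![0, 0, 1, 1, 1, 0, 0, 0], ![0, 0, 0, 0, 0, 1, 0, 0], ![0, 0, 0, 0, 0, 0, 1, 0], ![0, 0, 0, 0, 0, 0, 0, 1]]),
    (3, ![![1, 0, 0, 0, 0, 0, 0, 0], ![0, 1, 0, 1, 0, 0, 0, 0], ![0, 0, 1, 1, 0, 0, 0, 0], ![0, 0, 0, -1, 0, 0, 0, 0],
      ![0, 0, 0, 1, 1, 0, 0, 0], ![0, 0, 0, 0, 0, 1, 0, 0], ![0, 0, 0, 0, 0, 0, 1, 0], ![0, 0, 0, 0, 0, 0, 0, 1]])]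

theorem ch4_ok : ChainOK Am ch4 := by decide +kernel

/-- coefficients of the eigenvector -/
def Ve4 : Fin 2 → Fin 8 → ℤ := ![![0, 0, 1, 1, 0, 0, 0, 0], ![1, 0, 1, 0, 0, 0, 0, 0]]

/-- the functional -/
def Ue4 : Fin 8 → ℤ := ![-1, 0, 1, 0, 0, 0, 0, 0]

theorem eig_4 : EigOK (hd ch4) c4 Ve4 Ue4 := by decide +kernel

theorem rel4 {F : Type u} [Field F] [Finite F] {r s : ℕ} (hr : r.Prime) (hs : s.Prime) (hrs : r ≠ s)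
    (h1 : phiC c4 (Nat.card F) 1 r) (h2 : phiC c4 (Nat.card F) 1 s) :
    PG.Rel ↥(chevE8.group F) r s := by
  have := finW
  exact rel_of_eig hp CoxeterMatrix.E₈.toCoxeterSystem H129.TorusChar.invC_E8 one_ne_zero
    (chain_rep hp CoxeterMatrix.E₈.toCoxeterSystem hA ch4_ok) eig_4 eig_4 hr hs hrs h1.1 h2.1 h1.2 h2.2

/-- partial products of an element with characteristic polynomial divisible by the cyclotomic polynomial 5 -/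
def ch5 : List (Fin 8 × Mat 8) := [
    (0, ![![0, 0, 1, 0, 0, 0, 0, 0], ![1, 0, 1, 1, 0, 0, 0, 0], ![0, 1, 0, 1, 0, 0, 0, 0], ![-1, -1, -1, -1, 0, 0, 0, 0],
      ![1, 1, 1, 1, 1, 0, 0, 0], ![0, 0, 0, 0, 0, 1, 0, 0], ![0, 0, 0, 0, 0, 0, 1, 0], ![0, 0, 0, 0, 0, 0, 0, 1]]),
    (1, ![![1, 0, 1, 0, 0, 0, 0, 0], ![0, 0, 1, 1, 0, 0, 0, 0], ![0, 1, 0, 1, 0, 0, 0, 0], ![0, -1, -1, -1, 0, 0, 0, 0],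
      ![0, 1, 1, 1, 1, 0, 0, 0], ![0, 0, 0, 0, 0, 1, 0, 0], ![0, 0, 0, 0, 0, 0, 1, 0], ![0, 0, 0, 0, 0, 0, 0, 1]]),
    (2, ![![1, 0, 1, 0, 0, 0, 0, 0], ![0, 1, 1, 1, 0, 0, 0, 0], ![0, 0, 0, 1, 0, 0, 0, 0], ![0, 0, -1, -1, 0, 0, 0, 0],
      ![0, 0, 1, 1, 1, 0, 0, 0], ![0, 0, 0, 0, 0, 1, 0, 0], ![0, 0, 0, 0, 0, 0, 1, 0], ![0, 0, 0, 0, 0, 0, 0, 1]]),
    (3, ![![1, 0, 0, 0, 0, 0, 0, 0], ![0, 1, 0, 1, 0, 0, 0, 0], ![0, 0, 1, 1, 0, 0, 0, 0], ![0, 0, 0, -1, 0, 0, 0, 0],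
      ![0, 0, 0, 1, 1, 0, 0, 0], ![0, 0, 0, 0, 0, 1, 0, 0], ![0, 0, 0, 0, 0, 0, 1, 0], ![0, 0, 0, 0, 0, 0, 0, 1]])]

theorem ch5_ok : ChainOK Am ch5 := by decide +kernel

/-- coefficients of the eigenvector -/
def Ve5 : Fin 4 → Fin 8 → ℤ := ![![1, 0, 1, 1, 0, 0, 0, 0], ![1, 1, 1, 1, 0, 0, 0, 0], ![1, 0, 1, 0, 0, 0, 0, 0], ![1, 0, 0, 0, 0, 0, 0, 0]]

/-- the functional -/
def Ue5 : Fin 8 → ℤ := ![0, -1, 0, 1, 0, 0, 0, 0]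

theorem eig_5 : EigOK (hd ch5) c5 Ve5 Ue5 := by decide +kernel

theorem rel5 {F : Type u} [Field F] [Finite F] {r s : ℕ} (hr : r.Prime) (hs : s.Prime) (hrs : r ≠ s)
    (h1 : phiC c5 (Nat.card F) 1 r) (h2 : phiC c5 (Nat.card F) 1 s) :
    PG.Rel ↥(chevE8.group F) r s := by
  have := finW
  exact rel_of_eig hp CoxeterMatrix.E₈.toCoxeterSystem H129.TorusChar.invC_E8 one_ne_zero
    (chain_rep hp CoxeterMatrix.E₈.toCoxeterSystem hA ch5_ok) eig_5 eig_5 hr hs hrs h1.1 h2.1 h1.2 h2.2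

/-- partial products of an element with characteristic polynomial divisible by the cyclotomic polynomial 6 -/
def ch6 : List (Fin 8 × Mat 8) := [
    (1, ![![1, 0, 1, 0, 0, 0, 0, 0], ![0, 0, 1, 1, 0, 0, 0, 0], ![0, 1, 0, 1, 0, 0, 0, 0], ![0, 0, 0, 0, 1, 0, 0, 0],
      ![0, -1, -1, -1, -1, 0, 0, 0], ![0, 1, 1, 1, 1, 1, 0, 0], ![0, 0, 0, 0, 0, 0, 1, 0],
      ![0, 0, 0, 0, 0, 0, 0, 1]]),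
    (2, ![![1, 0, 1, 0, 0, 0, 0, 0], ![0, 1, 1, 1, 0, 0, 0, 0], ![0, 0, 0, 1, 0, 0, 0, 0], ![0, 0, 0, 0, 1, 0, 0, 0],
      ![0, 0, -1, -1, -1, 0, 0, 0], ![0, 0, 1, 1, 1, 1, 0, 0], ![0, 0, 0, 0, 0, 0, 1, 0],
      ![0, 0, 0, 0, 0, 0, 0, 1]]),
    (3, ![![1, 0, 0, 0, 0, 0, 0, 0], ![0, 1, 0, 1, 0, 0, 0, 0], ![0, 0, 1, 1, 0, 0, 0, 0], ![0, 0, 0, 0, 1, 0, 0, 0],
      ![0, 0, 0, -1, -1, 0, 0, 0], ![0, 0, 0, 1, 1, 1, 0, 0], ![0, 0, 0, 0, 0, 0, 1, 0],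
      ![0, 0, 0, 0, 0, 0, 0, 1]]),
    (4, ![![1, 0, 0, 0, 0, 0, 0, 0], ![0, 1, 0, 0, 0, 0, 0, 0], ![0, 0, 1, 0, 0, 0, 0, 0], ![0, 0, 0, 1, 1, 0, 0, 0],
      ![0, 0, 0, 0, -1, 0, 0, 0], ![0, 0, 0, 0, 1, 1, 0, 0], ![0, 0, 0, 0, 0, 0, 1, 0],
      ![0, 0, 0, 0, 0, 0, 0, 1]])]

theorem ch6_ok : ChainOK Am ch6 := by decide +kernel

/-- coefficients of the eigenvector -/
def Ve6 : Fin 2 → Fin 8 → ℤ := ![![0, -1, -1, -2, -1, 0, 0, 0], ![0, 0, 0, 1, 1, 0, 0, 0]]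

/-- the functional -/
def Ue6 : Fin 8 → ℤ := ![0, -1, 0, 0, 0, 0, 0, 0]

theorem eig_6 : EigOK (hd ch6) c6 Ve6 Ue6 := by decide +kernel

theorem rel6 {F : Type u} [Field F] [Finite F] {r s : ℕ} (hr : r.Prime) (hs : s.Prime) (hrs : r ≠ s)
    (h1 : phiC c6 (Nat.card F) 1 r) (h2 : phiC c6 (Nat.card F) 1 s) :
    PG.Rel ↥(chevE8.group F) r s := by
  have := finW
  exact rel_of_eig hp CoxeterMatrix.E₈.toCoxeterSystem H129.TorusChar.invC_E8 one_ne_zero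
    (chain_rep hp CoxeterMatrix.E₈.toCoxeterSystem hA ch6_ok) eig_6 eig_6 hr hs hrs h1.1 h2.1 h1.2 h2.2

/-- partial products of an element with characteristic polynomial divisible by the cyclotomic polynomial 7 -/
def ch7 : List (Fin 8 × Mat 8) := [
    (0, ![![0, 0, 1, 0, 0, 0, 0, 0], ![1, 1, 1, 1, 0, 0, 0, 0], ![0, 0, 0, 1, 0, 0, 0, 0], ![0, 0, 0, 0, 1, 0, 0, 0],
      ![0, 0, 0, 0, 0, 1, 0, 0], ![0, 0, 0, 0, 0, 0, 1, 0], ![-1, 0, -1, -1, -1, -1, -1, 0],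
      ![1, 0, 1, 1, 1, 1, 1, 1]]),
    (2, ![![1, 0, 1, 0, 0, 0, 0, 0], ![0, 1, 1, 1, 0, 0, 0, 0], ![0, 0, 0, 1, 0, 0, 0, 0], ![0, 0, 0, 0, 1, 0, 0, 0],
      ![0, 0, 0, 0, 0, 1, 0, 0], ![0, 0, 0, 0, 0, 0, 1, 0], ![0, 0, -1, -1, -1, -1, -1, 0],
      ![0, 0, 1, 1, 1, 1, 1, 1]]),
    (3, ![![1, 0, 0, 0, 0, 0, 0, 0], ![0, 1, 0, 1, 0, 0, 0, 0], ![0, 0, 1, 1, 0, 0, 0, 0], ![0, 0, 0, 0, 1, 0, 0, 0],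
      ![0, 0, 0, 0, 0, 1, 0, 0], ![0, 0, 0, 0, 0, 0, 1, 0], ![0, 0, 0, -1, -1, -1, -1, 0],
      ![0, 0, 0, 1, 1, 1, 1, 1]]),
    (4, ![![1, 0, 0, 0, 0, 0, 0, 0], ![0, 1, 0, 0, 0, 0, 0, 0], ![0, 0, 1, 0, 0, 0, 0, 0], ![0, 0, 0, 1, 1, 0, 0, 0],
      ![0, 0, 0, 0, 0, 1, 0, 0], ![0, 0, 0, 0, 0, 0, 1, 0], ![0, 0, 0, 0, -1, -1, -1, 0],
      ![0, 0, 0, 0, 1, 1, 1, 1]]),
    (5, ![![1, 0, 0, 0, 0, 0, 0, 0], ![0, 1, 0, 0, 0, 0, 0, 0], ![0, 0, 1, 0, 0, 0, 0, 0], ![0, 0, 0, 1, 0, 0, 0, 0],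
      ![0, 0, 0, 0, 1, 1, 0, 0], ![0, 0, 0, 0, 0, 0, 1, 0], ![0, 0, 0, 0, 0, -1, -1, 0],
      ![0, 0, 0, 0, 0, 1, 1, 1]]),
    (6, ![![1, 0, 0, 0, 0, 0, 0, 0], ![0, 1, 0, 0, 0, 0, 0, 0], ![0, 0, 1, 0, 0, 0, 0, 0], ![0, 0, 0, 1, 0, 0, 0, 0],
      ![0, 0, 0, 0, 1, 0, 0, 0], ![0, 0, 0, 0, 0, 1, 1, 0], ![0, 0, 0, 0, 0, 0, -1, 0],
      ![0, 0, 0, 0, 0, 0, 1, 1]])]

theorem ch7_ok : ChainOK Am ch7 := by decide +kernel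

/-- coefficients of the eigenvector -/
def Ve7 : Fin 6 → Fin 8 → ℤ := ![![-1, 0, 0, 0, 0, 0, 0, 0], ![0, 0, 1, 1, 1, 1, 1, 0], ![0, 0, 1, 1, 1, 1, 0, 0], ![0, 0, 1, 1, 1, 0, 0, 0],
    ![0, 0, 1, 1, 0, 0, 0, 0], ![0, 0, 1, 0, 0, 0, 0, 0]]

/-- the functional -/
def Ue7 : Fin 8 → ℤ := ![-1, 0, 0, 0, 0, 0, 0, 0]

theorem eig_7 : EigOK (hd ch7) c7 Ve7 Ue7 := by decide +kernel

theorem rel7 {F : Type u} [Field F] [Finite F] {r s : ℕ} (hr : r.Prime) (hs : s.Prime) (hrs : r ≠ s)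
    (h1 : phiC c7 (Nat.card F) 1 r) (h2 : phiC c7 (Nat.card F) 1 s) :
    PG.Rel ↥(chevE8.group F) r s := by
  have := finW
  exact rel_of_eig hp CoxeterMatrix.E₈.toCoxeterSystem H129.TorusChar.invC_E8 one_ne_zero
    (chain_rep hp CoxeterMatrix.E₈.toCoxeterSystem hA ch7_ok) eig_7 eig_7 hr hs hrs h1.1 h2.1 h1.2 h2.2

/-- partial products of an element with characteristic polynomial divisible by the cyclotomic polynomial 8 -/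
def ch8 : List (Fin 8 × Mat 8) := [
    (0, ![![0, 0, 1, 0, 0, 0, 0, 0], ![1, 0, 1, 1, 0, 0, 0, 0], ![0, 1, 0, 1, 0, 0, 0, 0], ![0, 0, 0, 0, 1, 0, 0, 0],
      ![-1, -1, -1, -1, -1, 0, 0, 0], ![1, 1, 1, 1, 1, 1, 0, 0], ![0, 0, 0, 0, 0, 0, 1, 0],
      ![0, 0, 0, 0, 0, 0, 0, 1]]),
    (1, ![![1, 0, 1, 0, 0, 0, 0, 0], ![0, 0, 1, 1, 0, 0, 0, 0], ![0, 1, 0, 1, 0, 0, 0, 0], ![0, 0, 0, 0, 1, 0, 0, 0],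
      ![0, -1, -1, -1, -1, 0, 0, 0], ![0, 1, 1, 1, 1, 1, 0, 0], ![0, 0, 0, 0, 0, 0, 1, 0],
      ![0, 0, 0, 0, 0, 0, 0, 1]]),
    (2, ![![1, 0, 1, 0, 0, 0, 0, 0], ![0, 1, 1, 1, 0, 0, 0, 0], ![0, 0, 0, 1, 0, 0, 0, 0], ![0, 0, 0, 0, 1, 0, 0, 0],
      ![0, 0, -1, -1, -1, 0, 0, 0], ![0, 0, 1, 1, 1, 1, 0, 0], ![0, 0, 0, 0, 0, 0, 1, 0],
      ![0, 0, 0, 0, 0, 0, 0, 1]]),
    (3, ![![1, 0, 0, 0, 0, 0, 0, 0], ![0, 1, 0, 1, 0, 0, 0, 0], ![0, 0, 1, 1, 0, 0, 0, 0], ![0, 0, 0, 0, 1, 0, 0, 0],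
      ![0, 0, 0, -1, -1, 0, 0, 0], ![0, 0, 0, 1, 1, 1, 0, 0], ![0, 0, 0, 0, 0, 0, 1, 0],
      ![0, 0, 0, 0, 0, 0, 0, 1]]),
    (4, ![![1, 0, 0, 0, 0, 0, 0, 0], ![0, 1, 0, 0, 0, 0, 0, 0], ![0, 0, 1, 0, 0, 0, 0, 0], ![0, 0, 0, 1, 1, 0, 0, 0],
      ![0, 0, 0, 0, -1, 0, 0, 0], ![0, 0, 0, 0, 1, 1, 0, 0], ![0, 0, 0, 0, 0, 0, 1, 0],
      ![0, 0, 0, 0, 0, 0, 0, 1]])]

theorem ch8_ok : ChainOK Am ch8 := by decide +kernel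

/-- coefficients of the eigenvector -/
def Ve8 : Fin 4 → Fin 8 → ℤ := ![![1, 0, 1, 1, 1, 0, 0, 0], ![0, 1, 0, 1, 0, 0, 0, 0], ![0, 0, 1, 0, 0, 0, 0, 0], ![1, 0, 0, 0, 0, 0, 0, 0]]

/-- the functional -/
def Ue8 : Fin 8 → ℤ := ![0, -1, 0, 1, 0, 0, 0, 0]

theorem eig_8 : EigOK (hd ch8) c8 Ve8 Ue8 := by decide +kernel

theorem rel8 {F : Type u} [Field F] [Finite F] {r s : ℕ} (hr : r.Prime) (hs : s.Prime) (hrs : r ≠ s)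
    (h1 : phiC c8 (Nat.card F) 1 r) (h2 : phiC c8 (Nat.card F) 1 s) :
    PG.Rel ↥(chevE8.group F) r s := by
  have := finW
  exact rel_of_eig hp CoxeterMatrix.E₈.toCoxeterSystem H129.TorusChar.invC_E8 one_ne_zero
    (chain_rep hp CoxeterMatrix.E₈.toCoxeterSystem hA ch8_ok) eig_8 eig_8 hr hs hrs h1.1 h2.1 h1.2 h2.2

/-- partial products of an element with characteristic polynomial divisible by the cyclotomic polynomial 9 -/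
def ch9 : List (Fin 8 × Mat 8) := [
    (2, ![![-1, 0, -1, -1, 0, 0, 0, 0], ![0, -1, -1, -2, -1, 0, 0, 0], ![1, 0, 1, 1, 1, 0, 0, 0],
      ![0, 1, 1, 1, 0, 0, 0, 0], ![0, 0, 0, 1, 1, 1, 0, 0], ![0, 0, -1, -1, -1, -1, 0, 0],
      ![0, 0, 1, 1, 1, 1, 1, 0], ![0, 0, 0, 0, 0, 0, 0, 1]]),
    (3, ![![-1, 0, -1, -1, 0, 0, 0, 0], ![0, -1, -1, -2, -1, 0, 0, 0], ![1, 0, 1, 1, 1, 0, 0, 0],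
      ![0, 1, 0, 1, 0, 0, 0, 0], ![0, 0, 1, 1, 1, 1, 0, 0], ![0, 0, 0, -1, -1, -1, 0, 0],
      ![0, 0, 0, 1, 1, 1, 1, 0], ![0, 0, 0, 0, 0, 0, 0, 1]]),
    (2, ![![-1, 0, -1, 0, 0, 0, 0, 0], ![0, -1, -1, -1, -1, 0, 0, 0], ![1, 0, 1, 1, 1, 0, 0, 0],
      ![0, 1, 0, 0, 0, 0, 0, 0], ![0, 0, 1, 1, 1, 1, 0, 0], ![0, 0, 0, 0, -1, -1, 0, 0],
      ![0, 0, 0, 0, 1, 1, 1, 0], ![0, 0, 0, 0, 0, 0, 0, 1]]),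
    (7, ![![-1, 0, 0, 0, 0, 0, 0, 0], ![0, -1, 0, -1, -1, 0, 0, 0], ![1, 0, 1, 1, 1, 0, 0, 0], ![0, 1, 0, 0, 0, 0, 0, 0],
      ![0, 0, 0, 1, 1, 1, 0, 0], ![0, 0, 0, 0, -1, -1, 0, 0], ![0, 0, 0, 0, 1, 1, 1, 0],
      ![0, 0, 0, 0, 0, 0, 0, 1]]),
    (0, ![![-1, 0, 0, 0, 0, 0, 0, 0], ![0, -1, 0, -1, -1, 0, 0, 0], ![1, 0, 1, 1, 1, 0, 0, 0], ![0, 1, 0, 0, 0, 0, 0, 0],
      ![0, 0, 0, 1, 1, 1, 0, 0], ![0, 0, 0, 0, -1, -1, 0, 0], ![0, 0, 0, 0, 1, 1, 1, 1],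
      ![0, 0, 0, 0, 0, 0, 0, -1]]),
    (7, ![![1, 0, 0, 0, 0, 0, 0, 0], ![0, -1, 0, -1, -1, 0, 0, 0], ![0, 0, 1, 1, 1, 0, 0, 0], ![0, 1, 0, 0, 0, 0, 0, 0],
      ![0, 0, 0, 1, 1, 1, 0, 0], ![0, 0, 0, 0, -1, -1, 0, 0], ![0, 0, 0, 0, 1, 1, 1, 1],
      ![0, 0, 0, 0, 0, 0, 0, -1]]),
    (4, ![![1, 0, 0, 0, 0, 0, 0, 0], ![0, -1, 0, -1, -1, 0, 0, 0], ![0, 0, 1, 1, 1, 0, 0, 0], ![0, 1, 0, 0, 0, 0, 0, 0],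
      ![0, 0, 0, 1, 1, 1, 0, 0], ![0, 0, 0, 0, -1, -1, 0, 0], ![0, 0, 0, 0, 1, 1, 1, 0],
      ![0, 0, 0, 0, 0, 0, 0, 1]]),
    (3, ![![1, 0, 0, 0, 0, 0, 0, 0], ![0, -1, 0, -1, 0, 0, 0, 0], ![0, 0, 1, 1, 0, 0, 0, 0], ![0, 1, 0, 0, 0, 0, 0, 0],
      ![0, 0, 0, 1, 1, 1, 0, 0], ![0, 0, 0, 0, 0, -1, 0, 0], ![0, 0, 0, 0, 0, 1, 1, 0],
      ![0, 0, 0, 0, 0, 0, 0, 1]]),
    (5, ![![1, 0, 0, 0, 0, 0, 0, 0], ![0, -1, 0, 0, 0, 0, 0, 0], ![0, 0, 1, 0, 0, 0, 0, 0], ![0, 1, 0, 1, 0, 0, 0, 0],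
      ![0, 0, 0, 0, 1, 1, 0, 0], ![0, 0, 0, 0, 0, -1, 0, 0], ![0, 0, 0, 0, 0, 1, 1, 0],
      ![0, 0, 0, 0, 0, 0, 0, 1]]),
    (1, ![![1, 0, 0, 0, 0, 0, 0, 0], ![0, -1, 0, 0, 0, 0, 0, 0], ![0, 0, 1, 0, 0, 0, 0, 0], ![0, 1, 0, 1, 0, 0, 0, 0],
      ![0, 0, 0, 0, 1, 0, 0, 0], ![0, 0, 0, 0, 0, 1, 0, 0], ![0, 0, 0, 0, 0, 0, 1, 0], ![0, 0, 0, 0, 0, 0, 0, 1]])]

theorem ch9_ok : ChainOK Am ch9 := by decide +kernel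

/-- coefficients of the eigenvector -/
def Ve9 : Fin 6 → Fin 8 → ℤ := ![![1, 1, 1, 1, 0, 0, 0, 0], ![0, 1, 1, 2, 1, 1, 0, 0], ![0, 0, 0, 1, 1, 0, 0, 0], ![1, 0, 1, 0, 0, 0, 0, 0],
    ![0, 1, 1, 1, 0, 0, 0, 0], ![0, 0, 0, 1, 0, 0, 0, 0]]

/-- the functional -/
def Ue9 : Fin 8 → ℤ := ![1, 1, -1, 0, 0, 0, 0, 0]

theorem eig_9 : EigOK (hd ch9) c9 Ve9 Ue9 := by decide +kernel

theorem rel9 {F : Type u} [Field F] [Finite F] {r s : ℕ} (hr : r.Prime) (hs : s.Prime) (hrs : r ≠ s)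
    (h1 : phiC c9 (Nat.card F) 1 r) (h2 : phiC c9 (Nat.card F) 1 s) :
    PG.Rel ↥(chevE8.group F) r s := by
  have := finW
  exact rel_of_eig hp CoxeterMatrix.E₈.toCoxeterSystem H129.TorusChar.invC_E8 one_ne_zero
    (chain_rep hp CoxeterMatrix.E₈.toCoxeterSystem hA ch9_ok) eig_9 eig_9 hr hs hrs h1.1 h2.1 h1.2 h2.2

/-- partial products of an element with characteristic polynomial divisible by the cyclotomic polynomial 10 -/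
def ch10 : List (Fin 8 × Mat 8) := [
    (1, ![![1, 0, 1, 0, 0, 0, 0, 0], ![0, 0, 1, 1, 0, 0, 0, 0], ![0, 1, 0, 1, 0, 0, 0, 0], ![0, 0, 0, 0, 1, 0, 0, 0],
      ![0, 0, 0, 0, 0, 1, 0, 0], ![0, 0, 0, 0, 0, 0, 1, 0], ![0, -1, -1, -1, -1, -1, -1, 0],
      ![0, 1, 1, 1, 1, 1, 1, 1]]),
    (2, ![![1, 0, 1, 0, 0, 0, 0, 0], ![0, 1, 1, 1, 0, 0, 0, 0], ![0, 0, 0, 1, 0, 0, 0, 0], ![0, 0, 0, 0, 1, 0, 0, 0],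
      ![0, 0, 0, 0, 0, 1, 0, 0], ![0, 0, 0, 0, 0, 0, 1, 0], ![0, 0, -1, -1, -1, -1, -1, 0],
      ![0, 0, 1, 1, 1, 1, 1, 1]]),
    (3, ![![1, 0, 0, 0, 0, 0, 0, 0], ![0, 1, 0, 1, 0, 0, 0, 0], ![0, 0, 1, 1, 0, 0, 0, 0], ![0, 0, 0, 0, 1, 0, 0, 0],
      ![0, 0, 0, 0, 0, 1, 0, 0], ![0, 0, 0, 0, 0, 0, 1, 0], ![0, 0, 0, -1, -1, -1, -1, 0],
      ![0, 0, 0, 1, 1, 1, 1, 1]]),
    (4, ![![1, 0, 0, 0, 0, 0, 0, 0], ![0, 1, 0, 0, 0, 0, 0, 0], ![0, 0, 1, 0, 0, 0, 0, 0], ![0, 0, 0, 1, 1, 0, 0, 0],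
      ![0, 0, 0, 0, 0, 1, 0, 0], ![0, 0, 0, 0, 0, 0, 1, 0], ![0, 0, 0, 0, -1, -1, -1, 0],
      ![0, 0, 0, 0, 1, 1, 1, 1]]),
    (5, ![![1, 0, 0, 0, 0, 0, 0, 0], ![0, 1, 0, 0, 0, 0, 0, 0], ![0, 0, 1, 0, 0, 0, 0, 0], ![0, 0, 0, 1, 0, 0, 0, 0],
      ![0, 0, 0, 0, 1, 1, 0, 0], ![0, 0, 0, 0, 0, 0, 1, 0], ![0, 0, 0, 0, 0, -1, -1, 0],
      ![0, 0, 0, 0, 0, 1, 1, 1]]),
    (6, ![![1, 0, 0, 0, 0, 0, 0, 0], ![0, 1, 0, 0, 0, 0, 0, 0], ![0, 0, 1, 0, 0, 0, 0, 0], ![0, 0, 0, 1, 0, 0, 0, 0],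
      ![0, 0, 0, 0, 1, 0, 0, 0], ![0, 0, 0, 0, 0, 1, 1, 0], ![0, 0, 0, 0, 0, 0, -1, 0],
      ![0, 0, 0, 0, 0, 0, 1, 1]])]

theorem ch10_ok : ChainOK Am ch10 := by decide +kernel

/-- coefficients of the eigenvector -/
def Ve10 : Fin 4 → Fin 8 → ℤ := ![![0, -1, -1, -2, -1, -1, -1, 0], ![0, 0, 0, 1, 0, 0, 1, 0], ![0, 0, 0, -1, 0, 1, 0, 0],
    ![0, 0, 0, 1, 1, 0, 0, 0]]

/-- the functional -/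
def Ue10 : Fin 8 → ℤ := ![0, -1, 0, 0, 0, 0, 0, 0]

theorem eig_10 : EigOK (hd ch10) c10 Ve10 Ue10 := by decide +kernel

theorem rel10 {F : Type u} [Field F] [Finite F] {r s : ℕ} (hr : r.Prime) (hs : s.Prime) (hrs : r ≠ s)
    (h1 : phiC c10 (Nat.card F) 1 r) (h2 : phiC c10 (Nat.card F) 1 s) :
    PG.Rel ↥(chevE8.group F) r s := by
  have := finW
  exact rel_of_eig hp CoxeterMatrix.E₈.toCoxeterSystem H129.TorusChar.invC_E8 one_ne_zero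
    (chain_rep hp CoxeterMatrix.E₈.toCoxeterSystem hA ch10_ok) eig_10 eig_10 hr hs hrs h1.1 h2.1 h1.2 h2.2

/-- partial products of an element with characteristic polynomial divisible by the cyclotomic polynomial 12 -/
def ch12 : List (Fin 8 × Mat 8) := [
    (0, ![![0, 0, 1, 0, 0, 0, 0, 0], ![1, 0, 1, 1, 0, 0, 0, 0], ![0, 1, 0, 1, 0, 0, 0, 0], ![0, 0, 0, 0, 1, 0, 0, 0],
      ![0, 0, 0, 0, 0, 1, 0, 0], ![-1, -1, -1, -1, -1, -1, 0, 0], ![1, 1, 1, 1, 1, 1, 1, 0],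
      ![0, 0, 0, 0, 0, 0, 0, 1]]),
    (1, ![![1, 0, 1, 0, 0, 0, 0, 0], ![0, 0, 1, 1, 0, 0, 0, 0], ![0, 1, 0, 1, 0, 0, 0, 0], ![0, 0, 0, 0, 1, 0, 0, 0],
      ![0, 0, 0, 0, 0, 1, 0, 0], ![0, -1, -1, -1, -1, -1, 0, 0], ![0, 1, 1, 1, 1, 1, 1, 0],
      ![0, 0, 0, 0, 0, 0, 0, 1]]),
    (2, ![![1, 0, 1, 0, 0, 0, 0, 0], ![0, 1, 1, 1, 0, 0, 0, 0], ![0, 0, 0, 1, 0, 0, 0, 0], ![0, 0, 0, 0, 1, 0, 0, 0],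
      ![0, 0, 0, 0, 0, 1, 0, 0], ![0, 0, -1, -1, -1, -1, 0, 0], ![0, 0, 1, 1, 1, 1, 1, 0],
      ![0, 0, 0, 0, 0, 0, 0, 1]]),
    (3, ![![1, 0, 0, 0, 0, 0, 0, 0], ![0, 1, 0, 1, 0, 0, 0, 0], ![0, 0, 1, 1, 0, 0, 0, 0], ![0, 0, 0, 0, 1, 0, 0, 0],
      ![0, 0, 0, 0, 0, 1, 0, 0], ![0, 0, 0, -1, -1, -1, 0, 0], ![0, 0, 0, 1, 1, 1, 1, 0],
      ![0, 0, 0, 0, 0, 0, 0, 1]]),
    (4, ![![1, 0, 0, 0, 0, 0, 0, 0], ![0, 1, 0, 0, 0, 0, 0, 0], ![0, 0, 1, 0, 0, 0, 0, 0], ![0, 0, 0, 1, 1, 0, 0, 0],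
      ![0, 0, 0, 0, 0, 1, 0, 0], ![0, 0, 0, 0, -1, -1, 0, 0], ![0, 0, 0, 0, 1, 1, 1, 0],
      ![0, 0, 0, 0, 0, 0, 0, 1]]),
    (5, ![![1, 0, 0, 0, 0, 0, 0, 0], ![0, 1, 0, 0, 0, 0, 0, 0], ![0, 0, 1, 0, 0, 0, 0, 0], ![0, 0, 0, 1, 0, 0, 0, 0],
      ![0, 0, 0, 0, 1, 1, 0, 0], ![0, 0, 0, 0, 0, -1, 0, 0], ![0, 0, 0, 0, 0, 1, 1, 0],
      ![0, 0, 0, 0, 0, 0, 0, 1]])]

theorem ch12_ok : ChainOK Am ch12 := by decide +kernel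

/-- coefficients of the eigenvector -/
def Ve12 : Fin 4 → Fin 8 → ℤ := ![![0, 1, 0, 1, 1, 1, 0, 0], ![0, 0, 1, 1, 1, 0, 0, 0], ![1, 0, 1, 1, 0, 0, 0, 0], ![0, 1, 0, 0, 0, 0, 0, 0]]

/-- the functional -/
def Ue12 : Fin 8 → ℤ := ![0, 0, -1, 1, 0, 0, 0, 0]

theorem eig_12 : EigOK (hd ch12) c12 Ve12 Ue12 := by decide +kernel

theorem rel12 {F : Type u} [Field F] [Finite F] {r s : ℕ} (hr : r.Prime) (hs : s.Prime) (hrs : r ≠ s)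
    (h1 : phiC c12 (Nat.card F) 1 r) (h2 : phiC c12 (Nat.card F) 1 s) :
    PG.Rel ↥(chevE8.group F) r s := by
  have := finW
  exact rel_of_eig hp CoxeterMatrix.E₈.toCoxeterSystem H129.TorusChar.invC_E8 one_ne_zero
    (chain_rep hp CoxeterMatrix.E₈.toCoxeterSystem hA ch12_ok) eig_12 eig_12 hr hs hrs h1.1 h2.1 h1.2 h2.2

/-- partial products of an element with characteristic polynomial divisible by the cyclotomic polynomial 14 -/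
def ch14 : List (Fin 8 × Mat 8) := [
    (3, ![![0, 0, 1, 1, 0, 0, 0, 0], ![-1, 0, -1, 0, 0, 0, 0, 0], ![0, 1, 0, 0, 0, 0, 0, 0], ![1, 0, 1, 1, 1, 1, 0, 0],
      ![-1, -1, -1, -2, -1, -1, 0, 0], ![1, 1, 1, 2, 1, 1, 1, 0], ![0, 0, 0, 0, 0, -1, -1, 0],
      ![0, 0, 0, 0, 0, 1, 1, 1]]),
    (0, ![![0, 0, 1, 0, 0, 0, 0, 0], ![-1, 0, -1, -1, 0, 0, 0, 0], ![0, 1, 0, 1, 0, 0, 0, 0], ![1, 0, 1, 1, 1, 1, 0, 0],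
      ![-1, -1, -1, -1, -1, -1, 0, 0], ![1, 1, 1, 1, 1, 1, 1, 0], ![0, 0, 0, 0, 0, -1, -1, 0],
      ![0, 0, 0, 0, 0, 1, 1, 1]]),
    (2, ![![1, 0, 1, 0, 0, 0, 0, 0], ![0, 0, -1, -1, 0, 0, 0, 0], ![0, 1, 0, 1, 0, 0, 0, 0], ![0, 0, 1, 1, 1, 1, 0, 0],
      ![0, -1, -1, -1, -1, -1, 0, 0], ![0, 1, 1, 1, 1, 1, 1, 0], ![0, 0, 0, 0, 0, -1, -1, 0],
      ![0, 0, 0, 0, 0, 1, 1, 1]]),
    (1, ![![1, 0, 0, 0, 0, 0, 0, 0], ![0, 0, 0, -1, 0, 0, 0, 0], ![0, 1, 1, 1, 0, 0, 0, 0], ![0, 0, 0, 1, 1, 1, 0, 0],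
      ![0, -1, 0, -1, -1, -1, 0, 0], ![0, 1, 0, 1, 1, 1, 1, 0], ![0, 0, 0, 0, 0, -1, -1, 0],
      ![0, 0, 0, 0, 0, 1, 1, 1]]),
    (5, ![![1, 0, 0, 0, 0, 0, 0, 0], ![0, -1, 0, -1, 0, 0, 0, 0], ![0, 0, 1, 1, 0, 0, 0, 0], ![0, 1, 0, 1, 1, 1, 0, 0],
      ![0, 0, 0, -1, -1, -1, 0, 0], ![0, 0, 0, 1, 1, 1, 1, 0], ![0, 0, 0, 0, 0, -1, -1, 0],
      ![0, 0, 0, 0, 0, 1, 1, 1]]),
    (3, ![![1, 0, 0, 0, 0, 0, 0, 0], ![0, -1, 0, -1, 0, 0, 0, 0], ![0, 0, 1, 1, 0, 0, 0, 0], ![0, 1, 0, 1, 1, 0, 0, 0],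
      ![0, 0, 0, -1, -1, 0, 0, 0], ![0, 0, 0, 1, 1, 1, 1, 0], ![0, 0, 0, 0, 0, 0, -1, 0],
      ![0, 0, 0, 0, 0, 0, 1, 1]]),
    (6, ![![1, 0, 0, 0, 0, 0, 0, 0], ![0, -1, 0, 0, 0, 0, 0, 0], ![0, 0, 1, 0, 0, 0, 0, 0], ![0, 1, 0, 1, 1, 0, 0, 0],
      ![0, 0, 0, 0, -1, 0, 0, 0], ![0, 0, 0, 0, 1, 1, 1, 0], ![0, 0, 0, 0, 0, 0, -1, 0],
      ![0, 0, 0, 0, 0, 0, 1, 1]]),
    (4, ![![1, 0, 0, 0, 0, 0, 0, 0], ![0, -1, 0, 0, 0, 0, 0, 0], ![0, 0, 1, 0, 0, 0, 0, 0], ![0, 1, 0, 1, 1, 0, 0, 0],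
      ![0, 0, 0, 0, -1, 0, 0, 0], ![0, 0, 0, 0, 1, 1, 0, 0], ![0, 0, 0, 0, 0, 0, 1, 0],
      ![0, 0, 0, 0, 0, 0, 0, 1]]),
    (1, ![![1, 0, 0, 0, 0, 0, 0, 0], ![0, -1, 0, 0, 0, 0, 0, 0], ![0, 0, 1, 0, 0, 0, 0, 0], ![0, 1, 0, 1, 0, 0, 0, 0],
      ![0, 0, 0, 0, 1, 0, 0, 0], ![0, 0, 0, 0, 0, 1, 0, 0], ![0, 0, 0, 0, 0, 0, 1, 0], ![0, 0, 0, 0, 0, 0, 0, 1]])]

theorem ch14_ok : ChainOK Am ch14 := by decide +kernel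

/-- coefficients of the eigenvector -/
def Ve14 : Fin 6 → Fin 8 → ℤ := ![![0, 0, 0, 0, 1, 1, 1, 0], ![0, 1, 1, 2, 1, 0, -1, 0], ![1, 1, 1, 1, 1, 1, 2, 0], ![0, 0, 1, 1, 1, 1, -1, 0],
    ![1, 1, 1, 2, 1, 0, 1, 0], ![0, 0, 0, 0, 0, 1, 0, 0]]

/-- the functional -/
def Ue14 : Fin 8 → ℤ := ![0, 0, -1, 0, 1, 0, 0, 0]

theorem eig_14 : EigOK (hd ch14) c14 Ve14 Ue14 := by decide +kernel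

theorem rel14 {F : Type u} [Field F] [Finite F] {r s : ℕ} (hr : r.Prime) (hs : s.Prime) (hrs : r ≠ s)
    (h1 : phiC c14 (Nat.card F) 1 r) (h2 : phiC c14 (Nat.card F) 1 s) :
    PG.Rel ↥(chevE8.group F) r s := by
  have := finW
  exact rel_of_eig hp CoxeterMatrix.E₈.toCoxeterSystem H129.TorusChar.invC_E8 one_ne_zero
    (chain_rep hp CoxeterMatrix.E₈.toCoxeterSystem hA ch14_ok) eig_14 eig_14 hr hs hrs h1.1 h2.1 h1.2 h2.2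

/-- partial products of an element with characteristic polynomial divisible by the cyclotomic polynomial 15 -/
def ch15 : List (Fin 8 × Mat 8) := [
    (0, ![![0, 1, 0, 1, 0, 0, 0, 0], ![0, 1, 1, 1, 1, 0, 0, 0], ![1, 0, 1, 1, 1, 0, 0, 0], ![0, 0, 0, 0, 0, 1, 0, 0],
      ![0, 0, 0, 0, 0, 0, 1, 0], ![0, 0, 0, 0, 0, 0, 0, 1], ![-1, -1, -1, -1, -1, -1, -1, -1],
      ![0, 0, -1, -1, 0, 0, 0, 0]]),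
    (1, ![![0, 1, 0, 1, 0, 0, 0, 0], ![1, 1, 1, 1, 1, 0, 0, 0], ![0, 0, 1, 1, 1, 0, 0, 0], ![0, 0, 0, 0, 0, 1, 0, 0],
      ![0, 0, 0, 0, 0, 0, 1, 0], ![0, 0, 0, 0, 0, 0, 0, 1], ![0, -1, -1, -1, -1, -1, -1, -1],
      ![-1, 0, -1, -1, 0, 0, 0, 0]]),
    (2, ![![0, 0, 0, 1, 0, 0, 0, 0], ![1, 0, 1, 1, 1, 0, 0, 0], ![0, 1, 1, 1, 1, 0, 0, 0], ![0, 0, 0, 0, 0, 1, 0, 0],
      ![0, 0, 0, 0, 0, 0, 1, 0], ![0, 0, 0, 0, 0, 0, 0, 1], ![0, 0, -1, -1, -1, -1, -1, -1],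
      ![-1, -1, -1, -1, 0, 0, 0, 0]]),
    (3, ![![0, 0, 1, 1, 0, 0, 0, 0], ![1, 0, 1, 1, 1, 0, 0, 0], ![0, 1, 0, 1, 1, 0, 0, 0], ![0, 0, 0, 0, 0, 1, 0, 0],
      ![0, 0, 0, 0, 0, 0, 1, 0], ![0, 0, 0, 0, 0, 0, 0, 1], ![0, 0, 0, -1, -1, -1, -1, -1],
      ![-1, -1, -1, -1, 0, 0, 0, 0]]),
    (4, ![![0, 0, 1, 0, 0, 0, 0, 0], ![1, 0, 1, 1, 1, 0, 0, 0], ![0, 1, 0, 1, 1, 0, 0, 0], ![0, 0, 0, 0, 0, 1, 0, 0],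
      ![0, 0, 0, 0, 0, 0, 1, 0], ![0, 0, 0, 0, 0, 0, 0, 1], ![0, 0, 0, 0, -1, -1, -1, -1],
      ![-1, -1, -1, -1, 0, 0, 0, 0]]),
    (5, ![![0, 0, 1, 0, 0, 0, 0, 0], ![1, 0, 1, 1, 0, 0, 0, 0], ![0, 1, 0, 1, 0, 0, 0, 0], ![0, 0, 0, 0, 1, 1, 0, 0],
      ![0, 0, 0, 0, 0, 0, 1, 0], ![0, 0, 0, 0, 0, 0, 0, 1], ![0, 0, 0, 0, 0, -1, -1, -1],
      ![-1, -1, -1, -1, -1, 0, 0, 0]]),
    (6, ![![0, 0, 1, 0, 0, 0, 0, 0], ![1, 0, 1, 1, 0, 0, 0, 0], ![0, 1, 0, 1, 0, 0, 0, 0], ![0, 0, 0, 0, 1, 0, 0, 0],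
      ![0, 0, 0, 0, 0, 1, 1, 0], ![0, 0, 0, 0, 0, 0, 0, 1], ![0, 0, 0, 0, 0, 0, -1, -1],
      ![-1, -1, -1, -1, -1, -1, 0, 0]]),
    (7, ![![0, 0, 1, 0, 0, 0, 0, 0], ![1, 0, 1, 1, 0, 0, 0, 0], ![0, 1, 0, 1, 0, 0, 0, 0], ![0, 0, 0, 0, 1, 0, 0, 0],
      ![0, 0, 0, 0, 0, 1, 0, 0], ![0, 0, 0, 0, 0, 0, 1, 1], ![0, 0, 0, 0, 0, 0, 0, -1],
      ![-1, -1, -1, -1, -1, -1, -1, 0]]),
    (0, ![![0, 0, 1, 0, 0, 0, 0, 0], ![1, 0, 1, 1, 0, 0, 0, 0], ![0, 1, 0, 1, 0, 0, 0, 0], ![0, 0, 0, 0, 1, 0, 0, 0],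
      ![0, 0, 0, 0, 0, 1, 0, 0], ![0, 0, 0, 0, 0, 0, 1, 0], ![0, 0, 0, 0, 0, 0, 0, 1],
      ![-1, -1, -1, -1, -1, -1, -1, -1]]),
    (1, ![![1, 0, 1, 0, 0, 0, 0, 0], ![0, 0, 1, 1, 0, 0, 0, 0], ![0, 1, 0, 1, 0, 0, 0, 0], ![0, 0, 0, 0, 1, 0, 0, 0],
      ![0, 0, 0, 0, 0, 1, 0, 0], ![0, 0, 0, 0, 0, 0, 1, 0], ![0, 0, 0, 0, 0, 0, 0, 1],
      ![0, -1, -1, -1, -1, -1, -1, -1]]),
    (2, ![![1, 0, 1, 0, 0, 0, 0, 0], ![0, 1, 1, 1, 0, 0, 0, 0], ![0, 0, 0, 1, 0, 0, 0, 0], ![0, 0, 0, 0, 1, 0, 0, 0],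
      ![0, 0, 0, 0, 0, 1, 0, 0], ![0, 0, 0, 0, 0, 0, 1, 0], ![0, 0, 0, 0, 0, 0, 0, 1],
      ![0, 0, -1, -1, -1, -1, -1, -1]]),
    (3, ![![1, 0, 0, 0, 0, 0, 0, 0], ![0, 1, 0, 1, 0, 0, 0, 0], ![0, 0, 1, 1, 0, 0, 0, 0], ![0, 0, 0, 0, 1, 0, 0, 0],
      ![0, 0, 0, 0, 0, 1, 0, 0], ![0, 0, 0, 0, 0, 0, 1, 0], ![0, 0, 0, 0, 0, 0, 0, 1],
      ![0, 0, 0, -1, -1, -1, -1, -1]]),
    (4, ![![1, 0, 0, 0, 0, 0, 0, 0], ![0, 1, 0, 0, 0, 0, 0, 0], ![0, 0, 1, 0, 0, 0, 0, 0], ![0, 0, 0, 1, 1, 0, 0, 0],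
      ![0, 0, 0, 0, 0, 1, 0, 0], ![0, 0, 0, 0, 0, 0, 1, 0], ![0, 0, 0, 0, 0, 0, 0, 1],
      ![0, 0, 0, 0, -1, -1, -1, -1]]),
    (5, ![![1, 0, 0, 0, 0, 0, 0, 0], ![0, 1, 0, 0, 0, 0, 0, 0], ![0, 0, 1, 0, 0, 0, 0, 0], ![0, 0, 0, 1, 0, 0, 0, 0],
      ![0, 0, 0, 0, 1, 1, 0, 0], ![0, 0, 0, 0, 0, 0, 1, 0], ![0, 0, 0, 0, 0, 0, 0, 1],
      ![0, 0, 0, 0, 0, -1, -1, -1]]),
    (6, ![![1, 0, 0, 0, 0, 0, 0, 0], ![0, 1, 0, 0, 0, 0, 0, 0], ![0, 0, 1, 0, 0, 0, 0, 0], ![0, 0, 0, 1, 0, 0, 0, 0],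
      ![0, 0, 0, 0, 1, 0, 0, 0], ![0, 0, 0, 0, 0, 1, 1, 0], ![0, 0, 0, 0, 0, 0, 0, 1],
      ![0, 0, 0, 0, 0, 0, -1, -1]]),
    (7, ![![1, 0, 0, 0, 0, 0, 0, 0], ![0, 1, 0, 0, 0, 0, 0, 0], ![0, 0, 1, 0, 0, 0, 0, 0], ![0, 0, 0, 1, 0, 0, 0, 0],
      ![0, 0, 0, 0, 1, 0, 0, 0], ![0, 0, 0, 0, 0, 1, 0, 0], ![0, 0, 0, 0, 0, 0, 1, 1],
      ![0, 0, 0, 0, 0, 0, 0, -1]])]

theorem ch15_ok : ChainOK Am ch15 := by decide +kernel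

/-- coefficients of the eigenvector -/
def Ve15 : Fin 8 → Fin 8 → ℤ := ![![0, 1, 0, 1, 1, 1, 1, 0], ![1, 0, 1, 1, 1, 0, 0, 1], ![0, 0, 1, 0, 0, 1, 0, 0], ![-1, 1, -1, 1, 0, 0, 0, -1],
    ![2, 0, 1, 1, 1, 0, 1, 1], ![0, 0, 1, 0, 1, 1, 0, 0], ![-1, 1, 0, 1, 0, 0, 0, 0], ![1, 0, 0, 0, 0, 0, 0, 0]]

/-- the functional -/
def Ue15 : Fin 8 → ℤ := ![0, 0, -1, 0, 0, 1, 0, 1]

theorem eig_15 : EigOK (hd ch15) c15 Ve15 Ue15 := by decide +kernel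

theorem rel15 {F : Type u} [Field F] [Finite F] {r s : ℕ} (hr : r.Prime) (hs : s.Prime) (hrs : r ≠ s)
    (h1 : phiC c15 (Nat.card F) 1 r) (h2 : phiC c15 (Nat.card F) 1 s) :
    PG.Rel ↥(chevE8.group F) r s := by
  have := finW
  exact rel_of_eig hp CoxeterMatrix.E₈.toCoxeterSystem H129.TorusChar.invC_E8 one_ne_zero
    (chain_rep hp CoxeterMatrix.E₈.toCoxeterSystem hA ch15_ok) eig_15 eig_15 hr hs hrs h1.1 h2.1 h1.2 h2.2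

/-- partial products of an element with characteristic polynomial divisible by the cyclotomic polynomial 18 -/
def ch18 : List (Fin 8 × Mat 8) := [
    (0, ![![0, 0, 1, 0, 0, 0, 0, 0], ![1, 0, 1, 1, 0, 0, 0, 0], ![0, 1, 0, 1, 0, 0, 0, 0], ![0, 0, 0, 0, 1, 0, 0, 0],
      ![0, 0, 0, 0, 0, 1, 0, 0], ![0, 0, 0, 0, 0, 0, 1, 0], ![-1, -1, -1, -1, -1, -1, -1, 0],
      ![1, 1, 1, 1, 1, 1, 1, 1]]),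
    (1, ![![1, 0, 1, 0, 0, 0, 0, 0], ![0, 0, 1, 1, 0, 0, 0, 0], ![0, 1, 0, 1, 0, 0, 0, 0], ![0, 0, 0, 0, 1, 0, 0, 0],
      ![0, 0, 0, 0, 0, 1, 0, 0], ![0, 0, 0, 0, 0, 0, 1, 0], ![0, -1, -1, -1, -1, -1, -1, 0],
      ![0, 1, 1, 1, 1, 1, 1, 1]]),
    (2, ![![1, 0, 1, 0, 0, 0, 0, 0], ![0, 1, 1, 1, 0, 0, 0, 0], ![0, 0, 0, 1, 0, 0, 0, 0], ![0, 0, 0, 0, 1, 0, 0, 0],
      ![0, 0, 0, 0, 0, 1, 0, 0], ![0, 0, 0, 0, 0, 0, 1, 0], ![0, 0, -1, -1, -1, -1, -1, 0],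
      ![0, 0, 1, 1, 1, 1, 1, 1]]),
    (3, ![![1, 0, 0, 0, 0, 0, 0, 0], ![0, 1, 0, 1, 0, 0, 0, 0], ![0, 0, 1, 1, 0, 0, 0, 0], ![0, 0, 0, 0, 1, 0, 0, 0],
      ![0, 0, 0, 0, 0, 1, 0, 0], ![0, 0, 0, 0, 0, 0, 1, 0], ![0, 0, 0, -1, -1, -1, -1, 0],
      ![0, 0, 0, 1, 1, 1, 1, 1]]),
    (4, ![![1, 0, 0, 0, 0, 0, 0, 0], ![0, 1, 0, 0, 0, 0, 0, 0], ![0, 0, 1, 0, 0, 0, 0, 0], ![0, 0, 0, 1, 1, 0, 0, 0],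
      ![0, 0, 0, 0, 0, 1, 0, 0], ![0, 0, 0, 0, 0, 0, 1, 0], ![0, 0, 0, 0, -1, -1, -1, 0],
      ![0, 0, 0, 0, 1, 1, 1, 1]]),
    (5, ![![1, 0, 0, 0, 0, 0, 0, 0], ![0, 1, 0, 0, 0, 0, 0, 0], ![0, 0, 1, 0, 0, 0, 0, 0], ![0, 0, 0, 1, 0, 0, 0, 0],
      ![0, 0, 0, 0, 1, 1, 0, 0], ![0, 0, 0, 0, 0, 0, 1, 0], ![0, 0, 0, 0, 0, -1, -1, 0],
      ![0, 0, 0, 0, 0, 1, 1, 1]]),
    (6, ![![1, 0, 0, 0, 0, 0, 0, 0], ![0, 1, 0, 0, 0, 0, 0, 0], ![0, 0, 1, 0, 0, 0, 0, 0], ![0, 0, 0, 1, 0, 0, 0, 0],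
      ![0, 0, 0, 0, 1, 0, 0, 0], ![0, 0, 0, 0, 0, 1, 1, 0], ![0, 0, 0, 0, 0, 0, -1, 0],
      ![0, 0, 0, 0, 0, 0, 1, 1]])]

theorem ch18_ok : ChainOK Am ch18 := by decide +kernel

/-- coefficients of the eigenvector -/
def Ve18 : Fin 6 → Fin 8 → ℤ := ![![-1, 0, 0, 0, 0, 0, 0, 0], ![1, 0, 1, 1, 1, 1, 1, 0], ![0, 1, 0, 1, 1, 1, 0, 0], ![1, 0, 1, 1, 1, 0, 0, 0],
    ![0, 1, 0, 1, 0, 0, 0, 0], ![0, 0, 1, 0, 0, 0, 0, 0]]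

/-- the functional -/
def Ue18 : Fin 8 → ℤ := ![-1, -1, 0, 1, 0, 0, 0, 0]

theorem eig_18 : EigOK (hd ch18) c18 Ve18 Ue18 := by decide +kernel

theorem rel18 {F : Type u} [Field F] [Finite F] {r s : ℕ} (hr : r.Prime) (hs : s.Prime) (hrs : r ≠ s)
    (h1 : phiC c18 (Nat.card F) 1 r) (h2 : phiC c18 (Nat.card F) 1 s) :
    PG.Rel ↥(chevE8.group F) r s := by
  have := finW
  exact rel_of_eig hp CoxeterMatrix.E₈.toCoxeterSystem H129.TorusChar.invC_E8 one_ne_zero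
    (chain_rep hp CoxeterMatrix.E₈.toCoxeterSystem hA ch18_ok) eig_18 eig_18 hr hs hrs h1.1 h2.1 h1.2 h2.2

/-- partial products of an element with characteristic polynomial divisible by the cyclotomic polynomial 20 -/
def ch20 : List (Fin 8 × Mat 8) := [
    (7, ![![0, 1, 1, 2, 1, 1, 0, 0], ![1, 0, 1, 1, 0, 0, 0, 0], ![0, -1, 0, -1, 0, 0, 0, 0], ![0, 1, 0, 0, 0, 0, 0, 0],
      ![-1, -1, -1, -1, -1, -1, 0, 0], ![1, 1, 1, 2, 2, 2, 1, 1], ![0, 0, 0, 0, 0, -1, -1, -1],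
      ![0, 0, 0, 0, 0, 1, 1, 0]]),
    (5, ![![0, 1, 1, 2, 1, 1, 0, 0], ![1, 0, 1, 1, 0, 0, 0, 0], ![0, -1, 0, -1, 0, 0, 0, 0], ![0, 1, 0, 0, 0, 0, 0, 0],
      ![-1, -1, -1, -1, -1, -1, 0, 0], ![1, 1, 1, 2, 2, 2, 1, 0], ![0, 0, 0, 0, 0, -1, -1, 0],
      ![0, 0, 0, 0, 0, 1, 1, 1]]),
    (0, ![![0, 1, 1, 2, 1, 0, 0, 0], ![1, 0, 1, 1, 0, 0, 0, 0], ![0, -1, 0, -1, 0, 0, 0, 0], ![0, 1, 0, 0, 0, 0, 0, 0],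
      ![-1, -1, -1, -1, -1, 0, 0, 0], ![1, 1, 1, 2, 2, 1, 1, 0], ![0, 0, 0, 0, 0, 0, -1, 0],
      ![0, 0, 0, 0, 0, 0, 1, 1]]),
    (4, ![![1, 1, 1, 2, 1, 0, 0, 0], ![0, 0, 1, 1, 0, 0, 0, 0], ![0, -1, 0, -1, 0, 0, 0, 0], ![0, 1, 0, 0, 0, 0, 0, 0],
      ![0, -1, -1, -1, -1, 0, 0, 0], ![0, 1, 1, 2, 2, 1, 1, 0], ![0, 0, 0, 0, 0, 0, -1, 0],
      ![0, 0, 0, 0, 0, 0, 1, 1]]),
    (3, ![![1, 1, 1, 2, 1, 0, 0, 0], ![0, 0, 1, 1, 1, 0, 0, 0], ![0, -1, 0, -1, -1, 0, 0, 0], ![0, 1, 0, 0, 0, 0, 0, 0],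
      ![0, -1, -1, -1, 0, 0, 0, 0], ![0, 1, 1, 2, 1, 1, 1, 0], ![0, 0, 0, 0, 0, 0, -1, 0],
      ![0, 0, 0, 0, 0, 0, 1, 1]]),
    (5, ![![1, 1, 1, 1, 1, 0, 0, 0], ![0, 0, 1, 1, 1, 0, 0, 0], ![0, -1, 0, -1, -1, 0, 0, 0], ![0, 1, 0, 1, 0, 0, 0, 0],
      ![0, -1, -1, -1, 0, 0, 0, 0], ![0, 1, 1, 1, 1, 1, 1, 0], ![0, 0, 0, 0, 0, 0, -1, 0],
      ![0, 0, 0, 0, 0, 0, 1, 1]]),
    (5, ![![1, 1, 1, 1, 1, 1, 0, 0], ![0, 0, 1, 1, 1, 1, 0, 0], ![0, -1, 0, -1, -1, -1, 0, 0], ![0, 1, 0, 1, 0, 0, 0, 0],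
      ![0, -1, -1, -1, 0, 0, 0, 0], ![0, 1, 1, 1, 1, 1, 1, 0], ![0, 0, 0, 0, 0, -1, -1, 0],
      ![0, 0, 0, 0, 0, 1, 1, 1]]),
    (1, ![![1, 1, 1, 1, 1, 0, 0, 0], ![0, 0, 1, 1, 1, 0, 0, 0], ![0, -1, 0, -1, -1, 0, 0, 0], ![0, 1, 0, 1, 0, 0, 0, 0],
      ![0, -1, -1, -1, 0, 0, 0, 0], ![0, 1, 1, 1, 1, 1, 1, 0], ![0, 0, 0, 0, 0, 0, -1, 0],
      ![0, 0, 0, 0, 0, 0, 1, 1]]),
    (6, ![![1, 0, 1, 1, 1, 0, 0, 0], ![0, 1, 1, 1, 1, 0, 0, 0], ![0, 0, 0, -1, -1, 0, 0, 0], ![0, 0, 0, 1, 0, 0, 0, 0],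
      ![0, 0, -1, -1, 0, 0, 0, 0], ![0, 0, 1, 1, 1, 1, 1, 0], ![0, 0, 0, 0, 0, 0, -1, 0],
      ![0, 0, 0, 0, 0, 0, 1, 1]]),
    (2, ![![1, 0, 1, 1, 1, 0, 0, 0], ![0, 1, 1, 1, 1, 0, 0, 0], ![0, 0, 0, -1, -1, 0, 0, 0], ![0, 0, 0, 1, 0, 0, 0, 0],
      ![0, 0, -1, -1, 0, 0, 0, 0], ![0, 0, 1, 1, 1, 1, 0, 0], ![0, 0, 0, 0, 0, 0, 1, 0],
      ![0, 0, 0, 0, 0, 0, 0, 1]]),
    (3, ![![1, 0, 1, 1, 1, 0, 0, 0], ![0, 1, 0, 1, 1, 0, 0, 0], ![0, 0, -1, -1, -1, 0, 0, 0], ![0, 0, 1, 1, 0, 0, 0, 0],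
      ![0, 0, 0, -1, 0, 0, 0, 0], ![0, 0, 0, 1, 1, 1, 0, 0], ![0, 0, 0, 0, 0, 0, 1, 0],
      ![0, 0, 0, 0, 0, 0, 0, 1]]),
    (4, ![![1, 0, 1, 1, 1, 0, 0, 0], ![0, 1, 0, 1, 1, 0, 0, 0], ![0, 0, -1, -1, -1, 0, 0, 0], ![0, 0, 1, 0, 0, 0, 0, 0],
      ![0, 0, 0, 1, 0, 0, 0, 0], ![0, 0, 0, 0, 1, 1, 0, 0], ![0, 0, 0, 0, 0, 0, 1, 0], ![0, 0, 0, 0, 0, 0, 0, 1]]),
    (3, ![![1, 0, 1, 1, 0, 0, 0, 0], ![0, 1, 0, 1, 0, 0, 0, 0], ![0, 0, -1, -1, 0, 0, 0, 0], ![0, 0, 1, 0, 0, 0, 0, 0],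
      ![0, 0, 0, 1, 1, 0, 0, 0], ![0, 0, 0, 0, 0, 1, 0, 0], ![0, 0, 0, 0, 0, 0, 1, 0], ![0, 0, 0, 0, 0, 0, 0, 1]]),
    (2, ![![1, 0, 1, 0, 0, 0, 0, 0], ![0, 1, 0, 0, 0, 0, 0, 0], ![0, 0, -1, 0, 0, 0, 0, 0], ![0, 0, 1, 1, 0, 0, 0, 0],
      ![0, 0, 0, 0, 1, 0, 0, 0], ![0, 0, 0, 0, 0, 1, 0, 0], ![0, 0, 0, 0, 0, 0, 1, 0], ![0, 0, 0, 0, 0, 0, 0, 1]])]

theorem ch20_ok : ChainOK Am ch20 := by decide +kernel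

/-- coefficients of the eigenvector -/
def Ve20 : Fin 8 → Fin 8 → ℤ := ![![1, 0, 1, 1, 1, 0, 0, 0], ![0, 1, 1, 1, 1, 1, 1, 0], ![0, 1, 1, 2, 1, 1, 1, 1], ![1, 1, 1, 2, 2, 1, 0, 0],
    ![1, 0, 1, 1, 1, 1, 1, 0], ![0, 1, 1, 1, 1, 1, 1, 1], ![0, 1, 1, 2, 1, 1, 0, 0], ![1, 0, 0, 0, 0, 0, 0, 0]]

/-- the functional -/
def Ue20 : Fin 8 → ℤ := ![0, 0, 1, 0, 0, -1, 0, 0]

theorem eig_20 : EigOK (hd ch20) c20 Ve20 Ue20 := by decide +kernel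

theorem rel20 {F : Type u} [Field F] [Finite F] {r s : ℕ} (hr : r.Prime) (hs : s.Prime) (hrs : r ≠ s)
    (h1 : phiC c20 (Nat.card F) 1 r) (h2 : phiC c20 (Nat.card F) 1 s) :
    PG.Rel ↥(chevE8.group F) r s := by
  have := finW
  exact rel_of_eig hp CoxeterMatrix.E₈.toCoxeterSystem H129.TorusChar.invC_E8 one_ne_zero
    (chain_rep hp CoxeterMatrix.E₈.toCoxeterSystem hA ch20_ok) eig_20 eig_20 hr hs hrs h1.1 h2.1 h1.2 h2.2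

/-- partial products of an element with characteristic polynomial divisible by the cyclotomic polynomial 24 -/
def ch24 : List (Fin 8 × Mat 8) := [
    (1, ![![0, 0, 0, -1, -1, 0, 0, 0], ![0, 1, 1, 1, 1, 0, 0, 0], ![-1, -1, -1, -1, 0, 0, 0, 0],
      ![1, 0, 0, 0, 0, 0, 0, 0], ![0, 1, 1, 2, 1, 1, 0, 0], ![0, 0, 0, 0, 0, 0, 1, 1],
      ![0, -1, 0, -1, -1, -1, -1, -1], ![0, 1, 0, 1, 1, 1, 1, 0]]),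
    (3, ![![0, -1, 0, -1, -1, 0, 0, 0], ![0, 0, 1, 1, 1, 0, 0, 0], ![-1, 0, -1, -1, 0, 0, 0, 0],
      ![1, 0, 0, 0, 0, 0, 0, 0], ![0, 1, 1, 2, 1, 1, 0, 0], ![0, 0, 0, 0, 0, 0, 1, 1],
      ![0, 0, 0, -1, -1, -1, -1, -1], ![0, 0, 0, 1, 1, 1, 1, 0]]),
    (2, ![![0, -1, 0, -1, -1, 0, 0, 0], ![0, 0, 1, 1, 1, 0, 0, 0], ![-1, 0, -1, 0, 0, 0, 0, 0],
      ![1, 0, 0, 0, 0, 0, 0, 0], ![0, 1, 1, 1, 1, 1, 0, 0], ![0, 0, 0, 0, 0, 0, 1, 1],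
      ![0, 0, 0, 0, -1, -1, -1, -1], ![0, 0, 0, 0, 1, 1, 1, 0]]),
    (4, ![![0, -1, -1, -1, -1, 0, 0, 0], ![0, 0, 0, 1, 1, 0, 0, 0], ![-1, 0, 0, 0, 0, 0, 0, 0],
      ![1, 0, 1, 0, 0, 0, 0, 0], ![0, 1, 0, 1, 1, 1, 0, 0], ![0, 0, 0, 0, 0, 0, 1, 1],
      ![0, 0, 0, 0, -1, -1, -1, -1], ![0, 0, 0, 0, 1, 1, 1, 0]]),
    (0, ![![0, -1, -1, -1, 0, 0, 0, 0], ![0, 0, 0, 1, 0, 0, 0, 0], ![-1, 0, 0, 0, 0, 0, 0, 0], ![1, 0, 1, 0, 0, 0, 0, 0],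
      ![0, 1, 0, 1, 1, 1, 0, 0], ![0, 0, 0, 0, 0, 0, 1, 1], ![0, 0, 0, 0, 0, -1, -1, -1],
      ![0, 0, 0, 0, 0, 1, 1, 0]]),
    (1, ![![-1, -1, -1, -1, 0, 0, 0, 0], ![0, 0, 0, 1, 0, 0, 0, 0], ![1, 0, 0, 0, 0, 0, 0, 0], ![0, 0, 1, 0, 0, 0, 0, 0],
      ![0, 1, 0, 1, 1, 1, 0, 0], ![0, 0, 0, 0, 0, 0, 1, 1], ![0, 0, 0, 0, 0, -1, -1, -1],
      ![0, 0, 0, 0, 0, 1, 1, 0]]),
    (7, ![![-1, 0, -1, -1, 0, 0, 0, 0], ![0, 1, 0, 1, 0, 0, 0, 0], ![1, 0, 0, 0, 0, 0, 0, 0], ![0, 0, 1, 0, 0, 0, 0, 0],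
      ![0, 0, 0, 1, 1, 1, 0, 0], ![0, 0, 0, 0, 0, 0, 1, 1], ![0, 0, 0, 0, 0, -1, -1, -1],
      ![0, 0, 0, 0, 0, 1, 1, 0]]),
    (3, ![![-1, 0, -1, -1, 0, 0, 0, 0], ![0, 1, 0, 1, 0, 0, 0, 0], ![1, 0, 0, 0, 0, 0, 0, 0], ![0, 0, 1, 0, 0, 0, 0, 0],
      ![0, 0, 0, 1, 1, 1, 0, 0], ![0, 0, 0, 0, 0, 0, 1, 0], ![0, 0, 0, 0, 0, -1, -1, 0],
      ![0, 0, 0, 0, 0, 1, 1, 1]]),
    (2, ![![-1, 0, -1, 0, 0, 0, 0, 0], ![0, 1, 0, 0, 0, 0, 0, 0], ![1, 0, 0, 0, 0, 0, 0, 0], ![0, 0, 1, 1, 0, 0, 0, 0],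
      ![0, 0, 0, 0, 1, 1, 0, 0], ![0, 0, 0, 0, 0, 0, 1, 0], ![0, 0, 0, 0, 0, -1, -1, 0],
      ![0, 0, 0, 0, 0, 1, 1, 1]]),
    (0, ![![-1, 0, 0, 0, 0, 0, 0, 0], ![0, 1, 0, 0, 0, 0, 0, 0], ![1, 0, 1, 0, 0, 0, 0, 0], ![0, 0, 0, 1, 0, 0, 0, 0],
      ![0, 0, 0, 0, 1, 1, 0, 0], ![0, 0, 0, 0, 0, 0, 1, 0], ![0, 0, 0, 0, 0, -1, -1, 0],
      ![0, 0, 0, 0, 0, 1, 1, 1]]),
    (5, ![![1, 0, 0, 0, 0, 0, 0, 0], ![0, 1, 0, 0, 0, 0, 0, 0], ![0, 0, 1, 0, 0, 0, 0, 0], ![0, 0, 0, 1, 0, 0, 0, 0],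
      ![0, 0, 0, 0, 1, 1, 0, 0], ![0, 0, 0, 0, 0, 0, 1, 0], ![0, 0, 0, 0, 0, -1, -1, 0],
      ![0, 0, 0, 0, 0, 1, 1, 1]]),
    (6, ![![1, 0, 0, 0, 0, 0, 0, 0], ![0, 1, 0, 0, 0, 0, 0, 0], ![0, 0, 1, 0, 0, 0, 0, 0], ![0, 0, 0, 1, 0, 0, 0, 0],
      ![0, 0, 0, 0, 1, 0, 0, 0], ![0, 0, 0, 0, 0, 1, 1, 0], ![0, 0, 0, 0, 0, 0, -1, 0],
      ![0, 0, 0, 0, 0, 0, 1, 1]]),
    (7, ![![1, 0, 0, 0, 0, 0, 0, 0], ![0, 1, 0, 0, 0, 0, 0, 0], ![0, 0, 1, 0, 0, 0, 0, 0], ![0, 0, 0, 1, 0, 0, 0, 0],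
      ![0, 0, 0, 0, 1, 0, 0, 0], ![0, 0, 0, 0, 0, 1, 0, 0], ![0, 0, 0, 0, 0, 0, 1, 0], ![0, 0, 0, 0, 0, 0, 0, 1]]),
    (7, ![![1, 0, 0, 0, 0, 0, 0, 0], ![0, 1, 0, 0, 0, 0, 0, 0], ![0, 0, 1, 0, 0, 0, 0, 0], ![0, 0, 0, 1, 0, 0, 0, 0],
      ![0, 0, 0, 0, 1, 0, 0, 0], ![0, 0, 0, 0, 0, 1, 0, 0], ![0, 0, 0, 0, 0, 0, 1, 1],
      ![0, 0, 0, 0, 0, 0, 0, -1]])]

theorem ch24_ok : ChainOK Am ch24 := by decide +kernel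

/-- coefficients of the eigenvector -/
def Ve24 : Fin 8 → Fin 8 → ℤ := ![![0, 0, 0, -1, 0, 0, 0, 0], ![1, 1, 1, 1, 0, 0, 0, 0], ![0, 0, -1, 0, 0, 0, 0, 0],
    ![-1, -1, -1, -1, -1, -1, -1, 0], ![-1, -1, -1, -1, -1, -1, -1, -1], ![-1, -1, -1, -2, -1, -1, 0, 0],
    ![0, 0, 0, -1, -1, 0, 0, 0], ![1, 0, 0, 0, 0, 0, 0, 0]]

/-- the functional -/
def Ue24 : Fin 8 → ℤ := ![0, 1, 0, -1, 1, 0, -1, 0]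

theorem eig_24 : EigOK (hd ch24) c24 Ve24 Ue24 := by decide +kernel

theorem rel24 {F : Type u} [Field F] [Finite F] {r s : ℕ} (hr : r.Prime) (hs : s.Prime) (hrs : r ≠ s)
    (h1 : phiC c24 (Nat.card F) 1 r) (h2 : phiC c24 (Nat.card F) 1 s) :
    PG.Rel ↥(chevE8.group F) r s := by
  have := finW
  exact rel_of_eig hp CoxeterMatrix.E₈.toCoxeterSystem H129.TorusChar.invC_E8 one_ne_zero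
    (chain_rep hp CoxeterMatrix.E₈.toCoxeterSystem hA ch24_ok) eig_24 eig_24 hr hs hrs h1.1 h2.1 h1.2 h2.2

/-- partial products of an element with characteristic polynomial divisible by the cyclotomic polynomial 30 -/
def ch30 : List (Fin 8 × Mat 8) := [
    (0, ![![0, 0, 1, 0, 0, 0, 0, 0], ![1, 0, 1, 1, 0, 0, 0, 0], ![0, 1, 0, 1, 0, 0, 0, 0], ![0, 0, 0, 0, 1, 0, 0, 0],
      ![0, 0, 0, 0, 0, 1, 0, 0], ![0, 0, 0, 0, 0, 0, 1, 0], ![0, 0, 0, 0, 0, 0, 0, 1],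
      ![-1, -1, -1, -1, -1, -1, -1, -1]]),
    (1, ![![1, 0, 1, 0, 0, 0, 0, 0], ![0, 0, 1, 1, 0, 0, 0, 0], ![0, 1, 0, 1, 0, 0, 0, 0], ![0, 0, 0, 0, 1, 0, 0, 0],
      ![0, 0, 0, 0, 0, 1, 0, 0], ![0, 0, 0, 0, 0, 0, 1, 0], ![0, 0, 0, 0, 0, 0, 0, 1],
      ![0, -1, -1, -1, -1, -1, -1, -1]]),
    (2, ![![1, 0, 1, 0, 0, 0, 0, 0], ![0, 1, 1, 1, 0, 0, 0, 0], ![0, 0, 0, 1, 0, 0, 0, 0], ![0, 0, 0, 0, 1, 0, 0, 0],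
      ![0, 0, 0, 0, 0, 1, 0, 0], ![0, 0, 0, 0, 0, 0, 1, 0], ![0, 0, 0, 0, 0, 0, 0, 1],
      ![0, 0, -1, -1, -1, -1, -1, -1]]),
    (3, ![![1, 0, 0, 0, 0, 0, 0, 0], ![0, 1, 0, 1, 0, 0, 0, 0], ![0, 0, 1, 1, 0, 0, 0, 0], ![0, 0, 0, 0, 1, 0, 0, 0],
      ![0, 0, 0, 0, 0, 1, 0, 0], ![0, 0, 0, 0, 0, 0, 1, 0], ![0, 0, 0, 0, 0, 0, 0, 1],
      ![0, 0, 0, -1, -1, -1, -1, -1]]),
    (4, ![![1, 0, 0, 0, 0, 0, 0, 0], ![0, 1, 0, 0, 0, 0, 0, 0], ![0, 0, 1, 0, 0, 0, 0, 0], ![0, 0, 0, 1, 1, 0, 0, 0],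
      ![0, 0, 0, 0, 0, 1, 0, 0], ![0, 0, 0, 0, 0, 0, 1, 0], ![0, 0, 0, 0, 0, 0, 0, 1],
      ![0, 0, 0, 0, -1, -1, -1, -1]]),
    (5, ![![1, 0, 0, 0, 0, 0, 0, 0], ![0, 1, 0, 0, 0, 0, 0, 0], ![0, 0, 1, 0, 0, 0, 0, 0], ![0, 0, 0, 1, 0, 0, 0, 0],
      ![0, 0, 0, 0, 1, 1, 0, 0], ![0, 0, 0, 0, 0, 0, 1, 0], ![0, 0, 0, 0, 0, 0, 0, 1],
      ![0, 0, 0, 0, 0, -1, -1, -1]]),
    (6, ![![1, 0, 0, 0, 0, 0, 0, 0], ![0, 1, 0, 0, 0, 0, 0, 0], ![0, 0, 1, 0, 0, 0, 0, 0], ![0, 0, 0, 1, 0, 0, 0, 0],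
      ![0, 0, 0, 0, 1, 0, 0, 0], ![0, 0, 0, 0, 0, 1, 1, 0], ![0, 0, 0, 0, 0, 0, 0, 1],
      ![0, 0, 0, 0, 0, 0, -1, -1]]),
    (7, ![![1, 0, 0, 0, 0, 0, 0, 0], ![0, 1, 0, 0, 0, 0, 0, 0], ![0, 0, 1, 0, 0, 0, 0, 0], ![0, 0, 0, 1, 0, 0, 0, 0],
      ![0, 0, 0, 0, 1, 0, 0, 0], ![0, 0, 0, 0, 0, 1, 0, 0], ![0, 0, 0, 0, 0, 0, 1, 1],
      ![0, 0, 0, 0, 0, 0, 0, -1]])]

theorem ch30_ok : ChainOK Am ch30 := by decide +kernel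

/-- coefficients of the eigenvector -/
def Ve30 : Fin 8 → Fin 8 → ℤ := ![![1, 0, 1, 1, 1, 1, 1, 1], ![1, 1, 1, 2, 2, 2, 2, 1], ![0, 1, 1, 2, 2, 2, 1, 0], ![0, 1, 1, 2, 2, 1, 0, 0],
    ![0, 1, 1, 2, 1, 0, 0, 0], ![0, 1, 1, 1, 0, 0, 0, 0], ![1, 0, 1, 0, 0, 0, 0, 0], ![1, 0, 0, 0, 0, 0, 0, 0]]

/-- the functional -/
def Ue30 : Fin 8 → ℤ := ![0, -1, 0, 1, -1, 1, -1, 1]

theorem eig_30 : EigOK (hd ch30) c30 Ve30 Ue30 := by decide +kernel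

theorem rel30 {F : Type u} [Field F] [Finite F] {r s : ℕ} (hr : r.Prime) (hs : s.Prime) (hrs : r ≠ s)
    (h1 : phiC c30 (Nat.card F) 1 r) (h2 : phiC c30 (Nat.card F) 1 s) :
    PG.Rel ↥(chevE8.group F) r s := by
  have := finW
  exact rel_of_eig hp CoxeterMatrix.E₈.toCoxeterSystem H129.TorusChar.invC_E8 one_ne_zero
    (chain_rep hp CoxeterMatrix.E₈.toCoxeterSystem hA ch30_ok) eig_30 eig_30 hr hs hrs h1.1 h2.1 h1.2 h2.2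

end Cfsg.Agent.H168.ExcE8
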