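import Cfsg.Agent.S1059
import Cfsg.Agent.S1062
import Cfsg.Agent.S1063
import Cfsg.Agent.S1064
import Cfsg.Agent.S1065
import Cfsg.Agent.H168.ExcG2
import Cfsg.Agent.H168.ExcF4
import Cfsg.Agent.H168.ExcE6
import Cfsg.Agent.H168.ExcE7
import Cfsg.Agent.H168.ExcE8
import Cfsg.Prelude.Def_LieChev

/-!
# Classes of primes for the untwisted exceptional groups (helper168)

`cov_*` : `CovL` with the classes: the characteristic, the prime divisors of the values of the cyclotomic polynomials and,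
for `E6` (`E7`), the prime `3` (`2`) by itself.
-/

set_option autoImplicit false

namespace Cfsg.Agent.H168.ExcUntw

open Cfsg Cfsg.Lie Cfsg.Agent.H493 Cfsg.Agent.H493.PGTorus Cfsg.Agent.H493.PGCyc Cfsg.Agent.H168.ExcAdj

universe u

theorem eq_of_dvd_pow {p k r : ℕ} (hp : p.Prime) (hr : r.Prime) (h : r ∣ p ^ k) : r = p :=
  (Nat.prime_dvd_prime_iff_eq hr hp).1 (hr.dvd_of_dvd_pow h)

/-- the classes of primes of type G2 -/
def LG2 (F : Type u) (p : ℕ) : List (ℕ → Prop) := [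
    fun r => r = p, phiC c1 (Nat.card F) 1, phiC c2 (Nat.card F) 1, phiC c3 (Nat.card F) 1,
    phiC c6 (Nat.card F) 1]

theorem cov_G2 (F : Type u) [Field F] [Finite F] {p k : ℕ} (hp : p.Prime) (hq : Nat.card F = p ^ k) :
    CovL (LG2 F p) ↥(chevG2.group F) where
  cover r hr hd := by
    cases nonempty_fintype F
    have h := S1059.result (F := F) rfl
    rw [← Nat.card_eq_fintype_card (α := F)] at h
    have hq0 : 0 < Nat.card F := Nat.card_pos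
    have hdv : (r : ℤ) ∣ ((Nat.card ↥(chevG2.group F) : ℕ) : ℤ) := Int.natCast_dvd_natCast.2 hd
    rw [h] at hdv
    by_contra hn
    have np : r ≠ p := fun h => hn ⟨_, .head _, h⟩
    have hrd : ¬ r ∣ 1 := fun h => hr.one_lt.ne' (Nat.dvd_one.1 h)
    have n1 : ¬ (r : ℤ) ∣ pv c1 (Nat.card F) := fun h => hn ⟨_, .tail _ (.head _), hrd, h⟩
    have n2 : ¬ (r : ℤ) ∣ pv c2 (Nat.card F) := fun h => hn ⟨_, .tail _ (.tail _ (.head _)), hrd, h⟩
    have n3 : ¬ (r : ℤ) ∣ pv c3 (Nat.card F) := fun h => hn ⟨_, .tail _ (.tail _ (.tail _ (.head _))), hrd, h⟩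
    have n6 : ¬ (r : ℤ) ∣ pv c6 (Nat.card F) := fun h => hn ⟨_, .tail _ (.tail _ (.tail _ (.tail _ (.head _)))), hrd, h⟩
    have nq : ¬ (r : ℤ) ∣ ((Nat.card F : ℕ) : ℤ) := fun h' => np (by
      have h2 := Int.natCast_dvd_natCast.1 h'
      rw [hq] at h2
      exact eq_of_dvd_pow hp hr h2)
    have hpr := Nat.prime_iff_prime_int.1 hr
    simp only [Nat.cast_mul, Nat.cast_pow, cast_sub _ _ hq0, f2, f6, hpr.dvd_mul] at hdv
    have nqa : ¬ (r : ℤ) ∣ ((Nat.card F : ℕ) : ℤ) ^ 6 := fun h' => nq (hpr.dvd_of_dvd_pow h')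
    simp only [nqa, n1, n2, n3, n6, or_self] at hdv
  rel C hC r s hr hs hrs h1 h2 := by
    simp only [LG2, List.mem_cons, List.not_mem_nil, or_false] at hC
    rcases hC with rfl | rfl | rfl | rfl | rfl
    · exact absurd (h1.trans h2.symm) hrs
    · exact ExcG2.rel1 hr hs hrs h1 h2
    · exact ExcG2.rel2 hr hs hrs h1 h2
    · exact ExcG2.rel3 hr hs hrs h1 h2
    · exact ExcG2.rel6 hr hs hrs h1 h2

/-- the classes of primes of type F4 -/
def LF4 (F : Type u) (p : ℕ) : List (ℕ → Prop) := [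
    fun r => r = p, phiC c1 (Nat.card F) 1, phiC c2 (Nat.card F) 1, phiC c3 (Nat.card F) 1,
    phiC c4 (Nat.card F) 1, phiC c6 (Nat.card F) 1, phiC c8 (Nat.card F) 1, phiC c12 (Nat.card F) 1]

theorem cov_F4 (F : Type u) [Field F] [Finite F] {p k : ℕ} (hp : p.Prime) (hq : Nat.card F = p ^ k) :
    CovL (LF4 F p) ↥(chevF4.group F) where
  cover r hr hd := by
    cases nonempty_fintype F
    have h := S1062.result (F := F) rfl
    rw [← Nat.card_eq_fintype_card (α := F)] at h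
    have hq0 : 0 < Nat.card F := Nat.card_pos
    have hdv : (r : ℤ) ∣ ((Nat.card ↥(chevF4.group F) : ℕ) : ℤ) := Int.natCast_dvd_natCast.2 hd
    rw [h] at hdv
    by_contra hn
    have np : r ≠ p := fun h => hn ⟨_, .head _, h⟩
    have hrd : ¬ r ∣ 1 := fun h => hr.one_lt.ne' (Nat.dvd_one.1 h)
    have n1 : ¬ (r : ℤ) ∣ pv c1 (Nat.card F) := fun h => hn ⟨_, .tail _ (.head _), hrd, h⟩
    have n2 : ¬ (r : ℤ) ∣ pv c2 (Nat.card F) := fun h => hn ⟨_, .tail _ (.tail _ (.head _)), hrd, h⟩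
    have n3 : ¬ (r : ℤ) ∣ pv c3 (Nat.card F) := fun h => hn ⟨_, .tail _ (.tail _ (.tail _ (.head _))), hrd, h⟩
    have n4 : ¬ (r : ℤ) ∣ pv c4 (Nat.card F) := fun h => hn ⟨_, .tail _ (.tail _ (.tail _ (.tail _ (.head _)))), hrd, h⟩
    have n6 : ¬ (r : ℤ) ∣ pv c6 (Nat.card F) := fun h => hn ⟨_, .tail _ (.tail _ (.tail _ (.tail _ (.tail _ (.head _))))), hrd, h⟩
    have n8 : ¬ (r : ℤ) ∣ pv c8 (Nat.card F) := fun h => hn ⟨_, .tail _ (.tail _ (.tail _ (.tail _ (.tail _ (.tail _ (.head _)))))), hrd, h⟩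
    have n12 : ¬ (r : ℤ) ∣ pv c12 (Nat.card F) := fun h => hn ⟨_, .tail _ (.tail _ (.tail _ (.tail _ (.tail _ (.tail _ (.tail _ (.head _))))))), hrd, h⟩
    have nq : ¬ (r : ℤ) ∣ ((Nat.card F : ℕ) : ℤ) := fun h' => np (by
      have h2 := Int.natCast_dvd_natCast.1 h'
      rw [hq] at h2
      exact eq_of_dvd_pow hp hr h2)
    have hpr := Nat.prime_iff_prime_int.1 hr
    simp only [Nat.cast_mul, Nat.cast_pow, cast_sub _ _ hq0, f2, f6, f8, f12, hpr.dvd_mul] at hdv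
    have nqa : ¬ (r : ℤ) ∣ ((Nat.card F : ℕ) : ℤ) ^ 24 := fun h' => nq (hpr.dvd_of_dvd_pow h')
    simp only [nqa, n1, n2, n3, n4, n6, n8, n12, or_self] at hdv
  rel C hC r s hr hs hrs h1 h2 := by
    simp only [LF4, List.mem_cons, List.not_mem_nil, or_false] at hC
    rcases hC with rfl | rfl | rfl | rfl | rfl | rfl | rfl | rfl
    · exact absurd (h1.trans h2.symm) hrs
    · exact ExcF4.rel1 hr hs hrs h1 h2
    · exact ExcF4.rel2 hr hs hrs h1 h2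
    · exact ExcF4.rel3 hr hs hrs h1 h2
    · exact ExcF4.rel4 hr hs hrs h1 h2
    · exact ExcF4.rel6 hr hs hrs h1 h2
    · exact ExcF4.rel8 hr hs hrs h1 h2
    · exact ExcF4.rel12 hr hs hrs h1 h2

/-- the classes of primes of type E6 -/
def LE6 (F : Type u) (p : ℕ) : List (ℕ → Prop) := [
    fun r => r = p, fun r => r = 3, phiC c1 (Nat.card F) 3, phiC c2 (Nat.card F) 3,
    phiC c3 (Nat.card F) 3, phiC c4 (Nat.card F) 3, phiC c5 (Nat.card F) 3, phiC c6 (Nat.card F) 3,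
    phiC c8 (Nat.card F) 3, phiC c9 (Nat.card F) 3, phiC c12 (Nat.card F) 3]

theorem cov_E6 (F : Type u) [Field F] [Finite F] {p k : ℕ} (hp : p.Prime) (hq : Nat.card F = p ^ k) :
    CovL (LE6 F p) ↥(chevE6.group F) where
  cover r hr hd := by
    cases nonempty_fintype F
    have h := S1063.result (F := F) rfl
    rw [← Nat.card_eq_fintype_card (α := F)] at h
    have hq0 : 0 < Nat.card F := Nat.card_pos
    have hdv : (r : ℤ) ∣ ((Nat.card ↥(chevE6.group F) : ℕ) : ℤ) := Int.natCast_dvd_natCast.2 hd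
    replace hdv := hdv.mul_left ((Nat.gcd 3 (Nat.card F - 1) : ℕ) : ℤ)
    rw [← Nat.cast_mul, h] at hdv
    by_contra hn
    have np : r ≠ p := fun h => hn ⟨_, .head _, h⟩
    have nd : r ≠ 3 := fun h => hn ⟨_, .tail _ (.head _), h⟩
    have hrd : ¬ r ∣ 3 := fun h => nd ((Nat.prime_dvd_prime_iff_eq hr (by norm_num)).1 h)
    have n1 : ¬ (r : ℤ) ∣ pv c1 (Nat.card F) := fun h => hn ⟨_, .tail _ (.tail _ (.head _)), hrd, h⟩
    have n2 : ¬ (r : ℤ) ∣ pv c2 (Nat.card F) := fun h => hn ⟨_, .tail _ (.tail _ (.tail _ (.head _))), hrd, h⟩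
    have n3 : ¬ (r : ℤ) ∣ pv c3 (Nat.card F) := fun h => hn ⟨_, .tail _ (.tail _ (.tail _ (.tail _ (.head _)))), hrd, h⟩
    have n4 : ¬ (r : ℤ) ∣ pv c4 (Nat.card F) := fun h => hn ⟨_, .tail _ (.tail _ (.tail _ (.tail _ (.tail _ (.head _))))), hrd, h⟩
    have n5 : ¬ (r : ℤ) ∣ pv c5 (Nat.card F) := fun h => hn ⟨_, .tail _ (.tail _ (.tail _ (.tail _ (.tail _ (.tail _ (.head _)))))), hrd, h⟩
    have n6 : ¬ (r : ℤ) ∣ pv c6 (Nat.card F) := fun h => hn ⟨_, .tail _ (.tail _ (.tail _ (.tail _ (.tail _ (.tail _ (.tail _ (.head _))))))), hrd, h⟩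
    have n8 : ¬ (r : ℤ) ∣ pv c8 (Nat.card F) := fun h => hn ⟨_, .tail _ (.tail _ (.tail _ (.tail _ (.tail _ (.tail _ (.tail _ (.tail _ (.head _)))))))), hrd, h⟩
    have n9 : ¬ (r : ℤ) ∣ pv c9 (Nat.card F) := fun h => hn ⟨_, .tail _ (.tail _ (.tail _ (.tail _ (.tail _ (.tail _ (.tail _ (.tail _ (.tail _ (.head _))))))))), hrd, h⟩
    have n12 : ¬ (r : ℤ) ∣ pv c12 (Nat.card F) := fun h => hn ⟨_, .tail _ (.tail _ (.tail _ (.tail _ (.tail _ (.tail _ (.tail _ (.tail _ (.tail _ (.tail _ (.head _)))))))))), hrd, h⟩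
    have nq : ¬ (r : ℤ) ∣ ((Nat.card F : ℕ) : ℤ) := fun h' => np (by
      have h2 := Int.natCast_dvd_natCast.1 h'
      rw [hq] at h2
      exact eq_of_dvd_pow hp hr h2)
    have hpr := Nat.prime_iff_prime_int.1 hr
    simp only [Nat.cast_mul, Nat.cast_pow, cast_sub _ _ hq0, f2, f5, f6, f8, f9, f12, hpr.dvd_mul] at hdv
    have nqa : ¬ (r : ℤ) ∣ ((Nat.card F : ℕ) : ℤ) ^ 36 := fun h' => nq (hpr.dvd_of_dvd_pow h')
    simp only [nqa, n1, n2, n3, n4, n5, n6, n8, n9, n12, or_self] at hdv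
  rel C hC r s hr hs hrs h1 h2 := by
    simp only [LE6, List.mem_cons, List.not_mem_nil, or_false] at hC
    rcases hC with rfl | rfl | rfl | rfl | rfl | rfl | rfl | rfl | rfl | rfl | rfl
    · exact absurd (h1.trans h2.symm) hrs
    · exact absurd (h1.trans h2.symm) hrs
    · exact ExcE6.rel1 hr hs hrs h1 h2
    · exact ExcE6.rel2 hr hs hrs h1 h2
    · exact ExcE6.rel3 hr hs hrs h1 h2
    · exact ExcE6.rel4 hr hs hrs h1 h2
    · exact ExcE6.rel5 hr hs hrs h1 h2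
    · exact ExcE6.rel6 hr hs hrs h1 h2
    · exact ExcE6.rel8 hr hs hrs h1 h2
    · exact ExcE6.rel9 hr hs hrs h1 h2
    · exact ExcE6.rel12 hr hs hrs h1 h2

/-- the classes of primes of type E7 -/
def LE7 (F : Type u) (p : ℕ) : List (ℕ → Prop) := [
    fun r => r = p, fun r => r = 2, phiC c1 (Nat.card F) 2, phiC c2 (Nat.card F) 2,
    phiC c3 (Nat.card F) 2, phiC c4 (Nat.card F) 2, phiC c5 (Nat.card F) 2, phiC c6 (Nat.card F) 2,
    phiC c7 (Nat.card F) 2, phiC c8 (Nat.card F) 2, phiC c9 (Nat.card F) 2,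
    phiC c10 (Nat.card F) 2, phiC c12 (Nat.card F) 2, phiC c14 (Nat.card F) 2,
    phiC c18 (Nat.card F) 2]

theorem cov_E7 (F : Type u) [Field F] [Finite F] {p k : ℕ} (hp : p.Prime) (hq : Nat.card F = p ^ k) :
    CovL (LE7 F p) ↥(chevE7.group F) where
  cover r hr hd := by
    cases nonempty_fintype F
    have h := S1064.result (F := F) rfl
    rw [← Nat.card_eq_fintype_card (α := F)] at h
    have hq0 : 0 < Nat.card F := Nat.card_pos
    have hdv : (r : ℤ) ∣ ((Nat.card ↥(chevE7.group F) : ℕ) : ℤ) := Int.natCast_dvd_natCast.2 hd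
    replace hdv := hdv.mul_left ((Nat.gcd 2 (Nat.card F - 1) : ℕ) : ℤ)
    rw [← Nat.cast_mul, h] at hdv
    by_contra hn
    have np : r ≠ p := fun h => hn ⟨_, .head _, h⟩
    have nd : r ≠ 2 := fun h => hn ⟨_, .tail _ (.head _), h⟩
    have hrd : ¬ r ∣ 2 := fun h => nd ((Nat.prime_dvd_prime_iff_eq hr (by norm_num)).1 h)
    have n1 : ¬ (r : ℤ) ∣ pv c1 (Nat.card F) := fun h => hn ⟨_, .tail _ (.tail _ (.head _)), hrd, h⟩
    have n2 : ¬ (r : ℤ) ∣ pv c2 (Nat.card F) := fun h => hn ⟨_, .tail _ (.tail _ (.tail _ (.head _))), hrd, h⟩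
    have n3 : ¬ (r : ℤ) ∣ pv c3 (Nat.card F) := fun h => hn ⟨_, .tail _ (.tail _ (.tail _ (.tail _ (.head _)))), hrd, h⟩
    have n4 : ¬ (r : ℤ) ∣ pv c4 (Nat.card F) := fun h => hn ⟨_, .tail _ (.tail _ (.tail _ (.tail _ (.tail _ (.head _))))), hrd, h⟩
    have n5 : ¬ (r : ℤ) ∣ pv c5 (Nat.card F) := fun h => hn ⟨_, .tail _ (.tail _ (.tail _ (.tail _ (.tail _ (.tail _ (.head _)))))), hrd, h⟩
    have n6 : ¬ (r : ℤ) ∣ pv c6 (Nat.card F) := fun h => hn ⟨_, .tail _ (.tail _ (.tail _ (.tail _ (.tail _ (.tail _ (.tail _ (.head _))))))), hrd, h⟩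
    have n7 : ¬ (r : ℤ) ∣ pv c7 (Nat.card F) := fun h => hn ⟨_, .tail _ (.tail _ (.tail _ (.tail _ (.tail _ (.tail _ (.tail _ (.tail _ (.head _)))))))), hrd, h⟩
    have n8 : ¬ (r : ℤ) ∣ pv c8 (Nat.card F) := fun h => hn ⟨_, .tail _ (.tail _ (.tail _ (.tail _ (.tail _ (.tail _ (.tail _ (.tail _ (.tail _ (.head _))))))))), hrd, h⟩
    have n9 : ¬ (r : ℤ) ∣ pv c9 (Nat.card F) := fun h => hn ⟨_, .tail _ (.tail _ (.tail _ (.tail _ (.tail _ (.tail _ (.tail _ (.tail _ (.tail _ (.tail _ (.head _)))))))))), hrd, h⟩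
    have n10 : ¬ (r : ℤ) ∣ pv c10 (Nat.card F) := fun h => hn ⟨_, .tail _ (.tail _ (.tail _ (.tail _ (.tail _ (.tail _ (.tail _ (.tail _ (.tail _ (.tail _ (.tail _ (.head _))))))))))), hrd, h⟩
    have n12 : ¬ (r : ℤ) ∣ pv c12 (Nat.card F) := fun h => hn ⟨_, .tail _ (.tail _ (.tail _ (.tail _ (.tail _ (.tail _ (.tail _ (.tail _ (.tail _ (.tail _ (.tail _ (.tail _ (.head _)))))))))))), hrd, h⟩
    have n14 : ¬ (r : ℤ) ∣ pv c14 (Nat.card F) := fun h => hn ⟨_, .tail _ (.tail _ (.tail _ (.tail _ (.tail _ (.tail _ (.tail _ (.tail _ (.tail _ (.tail _ (.tail _ (.tail _ (.tail _ (.head _))))))))))))), hrd, h⟩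
    have n18 : ¬ (r : ℤ) ∣ pv c18 (Nat.card F) := fun h => hn ⟨_, .tail _ (.tail _ (.tail _ (.tail _ (.tail _ (.tail _ (.tail _ (.tail _ (.tail _ (.tail _ (.tail _ (.tail _ (.tail _ (.tail _ (.head _)))))))))))))), hrd, h⟩
    have nq : ¬ (r : ℤ) ∣ ((Nat.card F : ℕ) : ℤ) := fun h' => np (by
      have h2 := Int.natCast_dvd_natCast.1 h'
      rw [hq] at h2
      exact eq_of_dvd_pow hp hr h2)
    have hpr := Nat.prime_iff_prime_int.1 hr
    simp only [Nat.cast_mul, Nat.cast_pow, cast_sub _ _ hq0, f2, f6, f8, f10, f12, f14, f18, hpr.dvd_mul] at hdv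
    have nqa : ¬ (r : ℤ) ∣ ((Nat.card F : ℕ) : ℤ) ^ 63 := fun h' => nq (hpr.dvd_of_dvd_pow h')
    simp only [nqa, n1, n2, n3, n4, n5, n6, n7, n8, n9, n10, n12, n14, n18, or_self] at hdv
  rel C hC r s hr hs hrs h1 h2 := by
    simp only [LE7, List.mem_cons, List.not_mem_nil, or_false] at hC
    rcases hC with rfl | rfl | rfl | rfl | rfl | rfl | rfl | rfl | rfl | rfl | rfl | rfl | rfl | rfl | rfl
    · exact absurd (h1.trans h2.symm) hrs
    · exact absurd (h1.trans h2.symm) hrs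
    · exact ExcE7.rel1 hr hs hrs h1 h2
    · exact ExcE7.rel2 hr hs hrs h1 h2
    · exact ExcE7.rel3 hr hs hrs h1 h2
    · exact ExcE7.rel4 hr hs hrs h1 h2
    · exact ExcE7.rel5 hr hs hrs h1 h2
    · exact ExcE7.rel6 hr hs hrs h1 h2
    · exact ExcE7.rel7 hr hs hrs h1 h2
    · exact ExcE7.rel8 hr hs hrs h1 h2
    · exact ExcE7.rel9 hr hs hrs h1 h2
    · exact ExcE7.rel10 hr hs hrs h1 h2
    · exact ExcE7.rel12 hr hs hrs h1 h2
    · exact ExcE7.rel14 hr hs hrs h1 h2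
    · exact ExcE7.rel18 hr hs hrs h1 h2

/-- the classes of primes of type E8 -/
def LE8 (F : Type u) (p : ℕ) : List (ℕ → Prop) := [
    fun r => r = p, phiC c1 (Nat.card F) 1, phiC c2 (Nat.card F) 1, phiC c3 (Nat.card F) 1,
    phiC c4 (Nat.card F) 1, phiC c5 (Nat.card F) 1, phiC c6 (Nat.card F) 1, phiC c7 (Nat.card F) 1,
    phiC c8 (Nat.card F) 1, phiC c9 (Nat.card F) 1, phiC c10 (Nat.card F) 1,
    phiC c12 (Nat.card F) 1, phiC c14 (Nat.card F) 1, phiC c15 (Nat.card F) 1,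
    phiC c18 (Nat.card F) 1, phiC c20 (Nat.card F) 1, phiC c24 (Nat.card F) 1,
    phiC c30 (Nat.card F) 1]

theorem cov_E8 (F : Type u) [Field F] [Finite F] {p k : ℕ} (hp : p.Prime) (hq : Nat.card F = p ^ k) :
    CovL (LE8 F p) ↥(chevE8.group F) where
  cover r hr hd := by
    cases nonempty_fintype F
    have h := S1065.result (F := F) rfl
    rw [← Nat.card_eq_fintype_card (α := F)] at h
    have hq0 : 0 < Nat.card F := Nat.card_pos
    have hdv : (r : ℤ) ∣ ((Nat.card ↥(chevE8.group F) : ℕ) : ℤ) := Int.natCast_dvd_natCast.2 hd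
    rw [h] at hdv
    by_contra hn
    have np : r ≠ p := fun h => hn ⟨_, .head _, h⟩
    have hrd : ¬ r ∣ 1 := fun h => hr.one_lt.ne' (Nat.dvd_one.1 h)
    have n1 : ¬ (r : ℤ) ∣ pv c1 (Nat.card F) := fun h => hn ⟨_, .tail _ (.head _), hrd, h⟩
    have n2 : ¬ (r : ℤ) ∣ pv c2 (Nat.card F) := fun h => hn ⟨_, .tail _ (.tail _ (.head _)), hrd, h⟩
    have n3 : ¬ (r : ℤ) ∣ pv c3 (Nat.card F) := fun h => hn ⟨_, .tail _ (.tail _ (.tail _ (.head _))), hrd, h⟩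
    have n4 : ¬ (r : ℤ) ∣ pv c4 (Nat.card F) := fun h => hn ⟨_, .tail _ (.tail _ (.tail _ (.tail _ (.head _)))), hrd, h⟩
    have n5 : ¬ (r : ℤ) ∣ pv c5 (Nat.card F) := fun h => hn ⟨_, .tail _ (.tail _ (.tail _ (.tail _ (.tail _ (.head _))))), hrd, h⟩
    have n6 : ¬ (r : ℤ) ∣ pv c6 (Nat.card F) := fun h => hn ⟨_, .tail _ (.tail _ (.tail _ (.tail _ (.tail _ (.tail _ (.head _)))))), hrd, h⟩
    have n7 : ¬ (r : ℤ) ∣ pv c7 (Nat.card F) := fun h => hn ⟨_, .tail _ (.tail _ (.tail _ (.tail _ (.tail _ (.tail _ (.tail _ (.head _))))))), hrd, h⟩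
    have n8 : ¬ (r : ℤ) ∣ pv c8 (Nat.card F) := fun h => hn ⟨_, .tail _ (.tail _ (.tail _ (.tail _ (.tail _ (.tail _ (.tail _ (.tail _ (.head _)))))))), hrd, h⟩
    have n9 : ¬ (r : ℤ) ∣ pv c9 (Nat.card F) := fun h => hn ⟨_, .tail _ (.tail _ (.tail _ (.tail _ (.tail _ (.tail _ (.tail _ (.tail _ (.tail _ (.head _))))))))), hrd, h⟩
    have n10 : ¬ (r : ℤ) ∣ pv c10 (Nat.card F) := fun h => hn ⟨_, .tail _ (.tail _ (.tail _ (.tail _ (.tail _ (.tail _ (.tail _ (.tail _ (.tail _ (.tail _ (.head _)))))))))), hrd, h⟩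
    have n12 : ¬ (r : ℤ) ∣ pv c12 (Nat.card F) := fun h => hn ⟨_, .tail _ (.tail _ (.tail _ (.tail _ (.tail _ (.tail _ (.tail _ (.tail _ (.tail _ (.tail _ (.tail _ (.head _))))))))))), hrd, h⟩
    have n14 : ¬ (r : ℤ) ∣ pv c14 (Nat.card F) := fun h => hn ⟨_, .tail _ (.tail _ (.tail _ (.tail _ (.tail _ (.tail _ (.tail _ (.tail _ (.tail _ (.tail _ (.tail _ (.tail _ (.head _)))))))))))), hrd, h⟩
    have n15 : ¬ (r : ℤ) ∣ pv c15 (Nat.card F) := fun h => hn ⟨_, .tail _ (.tail _ (.tail _ (.tail _ (.tail _ (.tail _ (.tail _ (.tail _ (.tail _ (.tail _ (.tail _ (.tail _ (.tail _ (.head _))))))))))))), hrd, h⟩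
    have n18 : ¬ (r : ℤ) ∣ pv c18 (Nat.card F) := fun h => hn ⟨_, .tail _ (.tail _ (.tail _ (.tail _ (.tail _ (.tail _ (.tail _ (.tail _ (.tail _ (.tail _ (.tail _ (.tail _ (.tail _ (.tail _ (.head _)))))))))))))), hrd, h⟩
    have n20 : ¬ (r : ℤ) ∣ pv c20 (Nat.card F) := fun h => hn ⟨_, .tail _ (.tail _ (.tail _ (.tail _ (.tail _ (.tail _ (.tail _ (.tail _ (.tail _ (.tail _ (.tail _ (.tail _ (.tail _ (.tail _ (.tail _ (.head _))))))))))))))), hrd, h⟩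
    have n24 : ¬ (r : ℤ) ∣ pv c24 (Nat.card F) := fun h => hn ⟨_, .tail _ (.tail _ (.tail _ (.tail _ (.tail _ (.tail _ (.tail _ (.tail _ (.tail _ (.tail _ (.tail _ (.tail _ (.tail _ (.tail _ (.tail _ (.tail _ (.head _)))))))))))))))), hrd, h⟩
    have n30 : ¬ (r : ℤ) ∣ pv c30 (Nat.card F) := fun h => hn ⟨_, .tail _ (.tail _ (.tail _ (.tail _ (.tail _ (.tail _ (.tail _ (.tail _ (.tail _ (.tail _ (.tail _ (.tail _ (.tail _ (.tail _ (.tail _ (.tail _ (.tail _ (.head _))))))))))))))))), hrd, h⟩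
    have nq : ¬ (r : ℤ) ∣ ((Nat.card F : ℕ) : ℤ) := fun h' => np (by
      have h2 := Int.natCast_dvd_natCast.1 h'
      rw [hq] at h2
      exact eq_of_dvd_pow hp hr h2)
    have hpr := Nat.prime_iff_prime_int.1 hr
    simp only [Nat.cast_mul, Nat.cast_pow, cast_sub _ _ hq0, f2, f8, f12, f14, f18, f20, f24, f30, hpr.dvd_mul] at hdv
    have nqa : ¬ (r : ℤ) ∣ ((Nat.card F : ℕ) : ℤ) ^ 120 := fun h' => nq (hpr.dvd_of_dvd_pow h')
    simp only [nqa, n1, n2, n3, n4, n5, n6, n7, n8, n9, n10, n12, n14, n15, n18, n20, n24, n30, or_self] at hdv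
  rel C hC r s hr hs hrs h1 h2 := by
    simp only [LE8, List.mem_cons, List.not_mem_nil, or_false] at hC
    rcases hC with rfl | rfl | rfl | rfl | rfl | rfl | rfl | rfl | rfl | rfl | rfl | rfl | rfl | rfl | rfl | rfl | rfl | rfl
    · exact absurd (h1.trans h2.symm) hrs
    · exact ExcE8.rel1 hr hs hrs h1 h2
    · exact ExcE8.rel2 hr hs hrs h1 h2
    · exact ExcE8.rel3 hr hs hrs h1 h2
    · exact ExcE8.rel4 hr hs hrs h1 h2
    · exact ExcE8.rel5 hr hs hrs h1 h2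
    · exact ExcE8.rel6 hr hs hrs h1 h2
    · exact ExcE8.rel7 hr hs hrs h1 h2
    · exact ExcE8.rel8 hr hs hrs h1 h2
    · exact ExcE8.rel9 hr hs hrs h1 h2
    · exact ExcE8.rel10 hr hs hrs h1 h2
    · exact ExcE8.rel12 hr hs hrs h1 h2
    · exact ExcE8.rel14 hr hs hrs h1 h2
    · exact ExcE8.rel15 hr hs hrs h1 h2
    · exact ExcE8.rel18 hr hs hrs h1 h2
    · exact ExcE8.rel20 hr hs hrs h1 h2
    · exact ExcE8.rel24 hr hs hrs h1 h2
    · exact ExcE8.rel30 hr hs hrs h1 h2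

theorem exists_card (F : Type u) [Field F] [Finite F] : ∃ p k : ℕ, p.Prime ∧ Nat.card F = p ^ k := by
  cases nonempty_fintype F
  obtain ⟨p, hp⟩ := CharP.exists F
  obtain ⟨n, h1, h2⟩ := FiniteField.card F p
  exact ⟨p, n, h1, by rw [Nat.card_eq_fintype_card, h2]⟩

theorem cov_of_IsoChevG2 {G : Type*} [Group G] (h : IsoChevG2 G) : ∃ L : List (ℕ → Prop), L.length = 5 ∧ CovL L G := by
  obtain ⟨F, _, _, _, ⟨e⟩⟩ := h
  obtain ⟨p, k, hp, hq⟩ := exists_card F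
  exact ⟨LG2 F p, rfl, (cov_G2 F hp hq).congr e.symm⟩

theorem cov_of_IsoF4 {G : Type*} [Group G] (h : IsoF4 G) : ∃ L : List (ℕ → Prop), L.length = 8 ∧ CovL L G := by
  obtain ⟨F, _, _, ⟨e⟩⟩ := h
  obtain ⟨p, k, hp, hq⟩ := exists_card F
  exact ⟨LF4 F p, rfl, (cov_F4 F hp hq).congr e.symm⟩

theorem cov_of_IsoChevE6 {G : Type*} [Group G] (h : IsoChevE6 G) : ∃ L : List (ℕ → Prop), L.length = 11 ∧ CovL L G := by
  obtain ⟨F, _, _, ⟨e⟩⟩ := h
  obtain ⟨p, k, hp, hq⟩ := exists_card F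
  exact ⟨LE6 F p, rfl, (cov_E6 F hp hq).congr e.symm⟩

theorem cov_of_IsoE7 {G : Type*} [Group G] (h : IsoE7 G) : ∃ L : List (ℕ → Prop), L.length = 15 ∧ CovL L G := by
  obtain ⟨F, _, _, ⟨e⟩⟩ := h
  obtain ⟨p, k, hp, hq⟩ := exists_card F
  exact ⟨LE7 F p, rfl, (cov_E7 F hp hq).congr e.symm⟩

theorem cov_of_IsoE8 {G : Type*} [Group G] (h : IsoE8 G) : ∃ L : List (ℕ → Prop), L.length = 18 ∧ CovL L G := by
  obtain ⟨F, _, _, ⟨e⟩⟩ := h
  obtain ⟨p, k, hp, hq⟩ := exists_card F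
  exact ⟨LE8 F p, rfl, (cov_E8 F hp hq).congr e.symm⟩

end Cfsg.Agent.H168.ExcUntw
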