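import Mathlib
import Cfsg.Prelude.Def_CaseTheorems
import Cfsg.Prelude.Def_LieRecognition
import Cfsg.Prelude.Def_LieTwisted
import Cfsg.Prelude.Def_Spor_J1
import Cfsg.Agent.Walter.Main
import Cfsg.Agent.Ree.Ward
import Cfsg.Agent.S1644
import Cfsg.Agent.SmallSimple.SylowEight
import Cfsg.Agent.ReeUniq.Constr
import Cfsg.Agent.ReeUniq.NotCentral

/-!
# Groups of Janko–Ree type: `J₁`, or the Sylow 3-subgroups are not abelian (helper168)

`sylow_three_or_J1` : a simple group of Janko–Ree type (`IsJR`) is `J₁` or has a 3-subgroup which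
is not abelian.
-/

set_option autoImplicit false

namespace Cfsg.Agent.H168.ReeSylow

open Cfsg Cfsg.Agent.Walter.Types Cfsg.Agent.Walter.Main

universe u

/-- Groups of Janko–Ree type: `J₁`, or some 3-subgroup is not abelian. -/
theorem sylow_three_or_J1 (hC : CentThm.{u}) {G : Type u} [Group G] [Finite G] [IsSimpleGroup G]
    (hna : ¬ IsMulCommutative G) (h : IsJR G) :
    (∃ U : Subgroup G, IsPGroup 3 U ∧ ∃ a ∈ U, ∃ b ∈ U, a * b ≠ b * a) ∨ Cfsg.Spor.IsoJ1 G := by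
  have h2 : Fact (Nat.Prime 2) := ⟨Nat.prime_two⟩
  obtain ⟨S⟩ : Nonempty (Sylow 2 G) := inferInstance
  obtain ⟨⟨S₀, hS₀, hS₀2⟩, F, i1, i2, hmod, hq, hc⟩ := h
  have hsyl : ∀ P : Sylow 2 G, Nat.card P = 8 ∧ ∀ x ∈ P, x * x = 1 := by
    intro P
    let e := P.equiv S₀
    refine ⟨by rw [Nat.card_congr e.toEquiv]; exact hS₀, fun x hx => ?_⟩
    have h3 := hS₀2 _ (e ⟨x, hx⟩).2
    have h4 : e ⟨x, hx⟩ * e ⟨x, hx⟩ = 1 := Subtype.ext h3
    rw [← map_mul, ← map_one e] at h4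
    exact congrArg Subtype.val (e.injective h4)
  have hab : ∀ P : Sylow 2 G, ∀ a b : P, a * b = b * a := by
    intro P a b
    have h3 := (hsyl P).2 _ (mul_mem a.2 b.2)
    have ha := (hsyl P).2 _ a.2
    have hb := (hsyl P).2 _ b.2
    apply Subtype.ext
    calc (a : G) * b = ((a : G) * b)⁻¹ := (inv_eq_of_mul_eq_one_right h3).symm
      _ = (b : G)⁻¹ * (a : G)⁻¹ := mul_inv_rev _ _
      _ = b * a := by rw [inv_eq_of_mul_eq_one_right ha, inv_eq_of_mul_eq_one_right hb]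
  have h8 : Nat.card (S : Subgroup G) = 8 := (hsyl S).1
  have h8d : 8 ∣ Nat.card G := h8 ▸ (S : Subgroup G).card_subgroup_dvd_card
  have h16 : ¬ 16 ∣ Nat.card G := by
    intro h
    have h3 := (S : Subgroup G).card_mul_index
    rw [h8] at h3
    have h4 := S.not_dvd_index
    apply h4
    obtain ⟨k, hk⟩ := h
    rw [hk] at h3
    exact ⟨k, by omega⟩
  have hconj := Cfsg.Agent.SmallSimple.SylowEight.isConj_of_card_sylow_eight hna h8d h16
  obtain ⟨t, ht⟩ : ∃ t : G, orderOf t = 2 := by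
    apply exists_prime_orderOf_dvd_card'
    omega
  rcases hC G hab F (by omega) t ht (hc t ht) with ⟨m, hm, hF, hcard⟩ | ⟨hF, -⟩
  · left
    have hodd : Odd (2 * m + 1) := ⟨m, rfl⟩
    obtain ⟨P, U, h1, h3, h4, h5, h6, h7, h9, h10, h11, h12, h13, h14⟩ :=
      Cfsg.Agent.Ree.Ward.exists_bnPair hodd hF ht (hc t ht) hconj (fun P => (hsyl P).2) hcard
    obtain ⟨V, SU, hV, b, hb⟩ := Cfsg.Agent.ReeUniq.exists_setup P h1 hodd U h3 h4 h6 h7 h9 h10 h11
      h12 h13 F hF h14 hsyl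
    obtain ⟨c, hc1, u, hu, hcu⟩ := SU.not_central hb
    refine ⟨U, ?_, c, ?_, u, ?_, hcu⟩
    · exact IsPGroup.of_card h10
    · rw [← hV]
      exact (Cfsg.Agent.ReeUniq.mem_E.mp hc1).1
    · rw [← hV]
      exact hu
  · right
    have hF5 : Fintype.card F = 5 := by omega
    obtain ⟨e⟩ := hc t ht
    obtain ⟨f⟩ : Nonempty (Matrix.ProjectiveSpecialLinearGroup (Fin 2) F ≃* alternatingGroup (Fin 5)) := by
      apply Cfsg.Agent.Walter.TypeSylow.equiv_alternating
      · rw [hF5]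
        exact Dvd.intro _ rfl
      · have h := Cfsg.Agent.ClassicalGeometry.PSL2Basic.card_PSL2_odd F (by rw [hF5]; decide)
        rw [hF5] at h
        omega
    exact Cfsg.Agent.S1644.result S ⟨⟨hab S⟩⟩ h8 t ht (e.trans (MulEquiv.prodCongr (MulEquiv.refl _) f))

/-- A simple group of type `WType` all of whose 3-subgroups are abelian is `J₁` or `PSL(2,q)`. -/
theorem of_wType (hC : CentThm.{u}) {G : Type u} [Group G] [Finite G] [IsSimpleGroup G]
    (hna : ¬ IsMulCommutative G) (h : WType G)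
    (hA : ∀ P : Sylow 3 G, IsMulCommutative ↥P) :
    Cfsg.Spor.IsoJ1 G ∨
      ∃ (F : Type) (_ : Field F) (_ : Fintype F), 3 < Fintype.card F ∧
        (Fintype.card F % 8 = 0 ∨ Fintype.card F % 8 = 3 ∨ Fintype.card F % 8 = 5) ∧
        Nonempty (G ≃* Matrix.ProjectiveSpecialLinearGroup (Fin 2) F) := by
  rcases h with ⟨F, i1, i2, k, hk, hF, ⟨e⟩⟩ | ⟨F, i1, i2, hF, h5, he⟩ | h
  · right
    rcases Nat.lt_or_ge 2 k with h3 | h3
    · refine ⟨F, i1, i2, ?_, Or.inl ?_, ⟨e⟩⟩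
      · rw [hF]
        calc 3 < 2 ^ 3 := by norm_num
          _ ≤ 2 ^ k := Nat.pow_le_pow_right (by norm_num) h3
      · rw [hF]
        obtain ⟨j, rfl⟩ : ∃ j, k = 3 + j := ⟨k - 3, by omega⟩
        rw [pow_add]
        omega
    · have hk2 : k = 2 := by omega
      rw [hk2] at hF
      obtain ⟨f⟩ := Cfsg.Agent.Walter.TypeSylow.psl_four_equiv (F := F) (by rw [hF]; norm_num)
      have : Fact (Nat.Prime 5) := ⟨by norm_num⟩
      exact ⟨ZMod 5, inferInstance, inferInstance, by rw [ZMod.card]; norm_num,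
        Or.inr (Or.inr (by rw [ZMod.card])), ⟨e.trans f⟩⟩
  · right
    exact ⟨F, i1, i2, by omega, Or.inr hF, he⟩
  · left
    rcases sylow_three_or_J1 hC hna h with ⟨U, hU, a, ha, b, hb, hab⟩ | h
    · exfalso
      obtain ⟨P, hP⟩ := hU.exists_le_sylow
      have h1 := (hA P).is_comm.comm ⟨a, hP ha⟩ ⟨b, hP hb⟩
      exact hab (congrArg Subtype.val h1)
    · exact h

end Cfsg.Agent.H168.ReeSylow
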