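import Cfsg.Agent.H420.LTwo
import Cfsg.Agent.H141.SpinOdd

/-!
# 2 and the primitive prime divisors of `q ^ n - 1` (`n` odd), `q ^ (2n - 2) - 1` in `PΩ⁺(2n,q)`, `q ≡ 1 mod 4` (helper168)

* `ops` : an element of order `2 r` of `POmega F Q` gives commuting operators `X`, `Z` of `⁅O Q, O Q⁆`;
* `eq_or_neg` : an involution commuting with an isometry of order `r` acting irreducibly or on a dual pair is `±1`;
* `no_sq` : `n` odd, `i ^ 2 = -1`, `i` a nonsquare: no element of `⁅O Q, O Q⁆` has square `-1`;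
* `no_two` : `i ^ 2 = -1`: 2 is not adjacent to `r` with `e(r,q) = 2n - 2`;
* `two_nonadj_odd`, `two_nonadj_even` : for `q = 5`.
-/

set_option autoImplicit false
set_option linter.unusedSectionVars false

namespace Cfsg.Agent.H168.TwoFive

open Module QuadraticMap
open Cfsg.Agent.LieClassical.OrthCore Cfsg.Agent.H955

universe u v

section Gen

variable {F : Type u} [Field F] [Finite F] {V : Type v} [AddCommGroup V] [Module F V] [FiniteDimensional F V]
  {Q : QuadraticForm F V}

/-- **Involutory isometries commuting with an isometry of order `r` with one block.** -/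
theorem eq_or_neg (h2 : (2 : F) ≠ 0) (hQ : Nondeg Q) {r : ℕ} [hr : Fact r.Prime] (hr2 : 2 < r)
    (hrF : ¬ r ∣ Nat.card F) (hd : finrank F V = cc (Nat.card F) r)
    {X Z : V ≃ₗ[F] V} (hX : X ∈ O Q) (hZ : Z ∈ O Q) (hXr : X ^ r = 1) (hfix : ∀ v, X v = v → v = 0)
    (hc : ∀ v, X (Z v) = Z (X v)) (hZ2 : ∀ x, Z (Z x) = x) :
    (∀ x, Z x = x) ∨ ∀ x, Z x = -x := by
  -- the eigenspaces of `Z`
  have key : ∀ (ε : F), ε * ε = 1 → ∀ W : Submodule F V, (∀ v, v ∈ W ↔ Z v = ε • v) →
      finrank F W = 0 ∨ finrank F W = finrank F V := by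
    intro ε hε W hW
    have hinv : Inv X W := fun w hw => by
      rw [hW] at hw ⊢
      rw [← hc, hw, map_smul]
    have hnd : Nondeg (res Q W) := by
      rw [nondeg_res_iff]
      intro x hx hxy
      refine hQ x fun y => ?_
      have ha : y + ε • Z y ∈ W := by
        rw [hW, map_add, map_smul, hZ2, smul_add, smul_smul, hε, one_smul, add_comm]
      have h5 : polar Q x (y - ε • Z y) = 0 := by
        have h6 : polar Q (Z x) (Z (y - ε • Z y)) = polar Q x (y - ε • Z y) := polar_map hZ _ _
        rw [map_sub, map_smul, hZ2, (hW x).1 hx] at h6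
        have h7 : Z y - ε • y = -(ε • (y - ε • Z y)) := by
          rw [smul_sub, smul_smul, hε, one_smul]; abel
        rw [h7, polar_smul_left, polar_neg_right, polar_smul_right, smul_eq_mul, smul_eq_mul, mul_neg, ← mul_assoc, hε,
          one_mul] at h6
        have h8 : 2 * polar Q x (y - ε • Z y) = 0 := by linear_combination -h6
        exact (mul_eq_zero.1 h8).resolve_left h2
      have h9 := hxy _ ha
      have h10 : (2 : F) * polar Q x y = 0 := by
        have h11 : (2 : F) • y = (y + ε • Z y) + (y - ε • Z y) := by rw [two_smul]; abel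
        have h12 : polar Q x ((2 : F) • y) = 0 := by rw [h11, polar_add_right, h9, h5, add_zero]
        rw [polar_smul_right, smul_eq_mul] at h12
        exact h12
      exact (mul_eq_zero.1 h10).resolve_left h2
    obtain ⟨t, ht, -⟩ := blocks_of_inv hX hr2 hrF hXr hinv hnd (fun w _ => hfix w)
    have h1 : finrank F W ≤ finrank F V := Submodule.finrank_le _
    rcases Nat.eq_zero_or_pos (finrank F V) with h0 | h0
    · left; omega
    rw [ht, hd] at h1
    rw [hd] at h0 ⊢
    have : t ≤ 1 := by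
      by_contra hlt
      push Not at hlt
      nlinarith
    rcases (show t = 0 ∨ t = 1 by omega) with h | h
    · left; rw [ht, h, mul_zero]
    · right; rw [ht, h, mul_one]
  let W1 : Submodule F V :=
    { carrier := {v | Z v = v}
      add_mem' := fun {a b} ha hb => by change Z (a + b) = a + b; rw [map_add, show Z a = a from ha, show Z b = b from hb]
      zero_mem' := map_zero _
      smul_mem' := fun c x hx => by change Z (c • x) = c • x; rw [map_smul, show Z x = x from hx] }
  rcases key 1 (one_mul 1) W1 (fun v => by rw [one_smul]; rfl) with h | h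
  · right
    intro x
    have h1 : x + Z x ∈ W1 := by
      change Z (x + Z x) = x + Z x
      rw [map_add, hZ2, add_comm]
    rw [Submodule.finrank_eq_zero.1 h, Submodule.mem_bot] at h1
    exact (neg_eq_of_add_eq_zero_right h1).symm
  · left
    intro x
    have h1 : W1 = ⊤ := Submodule.eq_top_of_finrank_eq h
    have h3 : x ∈ W1 := h1 ▸ Submodule.mem_top
    exact h3

open Cfsg.Agent.H160.QSpin Cfsg.Agent.H141.SpinFacts

/-- **No element of `⁅O Q, O Q⁆` has square `-1`.** -/
theorem no_sq (h2 : (2 : F) ≠ 0) (hQ : Nondeg Q) {i : F} (hi : i * i = -1) (hns : ¬ IsSquare i) {n : ℕ} (hn : Odd n)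
    (hd : finrank F V = 2 * n) {Z : V ≃ₗ[F] V} (hZ : Z ∈ ⁅O Q, O Q⁆) (hZ2 : ∀ x, Z (Z x) = -x) : False := by
  have hfin : Finite V := Module.finite_of_finite F
  have hZO : Z ∈ O Q := comm_le hZ
  have hi0 : i ≠ 0 := by
    rintro rfl
    rw [zero_mul] at hi
    exact one_ne_zero (α := F) (by linear_combination hi)
  let E : F → Submodule F V := fun c => LinearMap.ker ((Z : V →ₗ[F] V) - c • LinearMap.id)
  have hE : ∀ c v, v ∈ E c ↔ Z v = c • v := fun c v => by
    simp [E, sub_eq_zero]
  -- totally singular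
  have hts : ∀ c : F, c * c = -1 → ∀ u ∈ E c, ∀ v ∈ E c, polar Q u v = 0 := by
    intro c hc u hu v hv
    have h1 : polar Q (Z u) (Z v) = polar Q u v := polar_map hZO _ _
    rw [(hE c u).1 hu, (hE c v).1 hv, polar_smul_left, polar_smul_right, smul_eq_mul, smul_eq_mul, ← mul_assoc, hc] at h1
    have h3 : 2 * polar Q u v = 0 := by linear_combination -h1
    exact (mul_eq_zero.1 h3).resolve_left h2
  have hts' : ∀ c : F, c * c = -1 → ∀ u ∈ E c, Q u = 0 := by
    intro c hc u hu
    have h1 := hts c hc u hu u hu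
    rw [polar_self, two_nsmul, ← two_mul] at h1
    exact (mul_eq_zero.1 h1).resolve_left h2
  have hi' : (-i) * (-i) = -1 := by rw [neg_mul_neg, hi]
  -- decomposition
  have hdec : ∀ v, ∃ a ∈ E i, ∃ b ∈ E (-i), v = a + b := by
    intro v
    refine ⟨(2 : F)⁻¹ • (v - i • Z v), ?_, (2 : F)⁻¹ • (v + i • Z v), ?_, ?_⟩
    · refine (E i).smul_mem _ ?_
      rw [hE, map_sub, map_smul, hZ2, smul_sub, smul_smul, hi, smul_neg, neg_smul, one_smul]
      abel
    · refine (E (-i)).smul_mem _ ?_
      rw [hE, map_add, map_smul, hZ2, smul_add, smul_smul, neg_mul, hi, smul_neg, neg_smul, neg_neg, one_smul]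
      abel
    · rw [← smul_add]
      have : v - i • Z v + (v + i • Z v) = (2 : F) • v := by rw [two_smul]; abel
      rw [this, smul_smul, inv_mul_cancel₀ h2, one_smul]
  -- the pairing
  have hnd : ∀ c : F, c * c = -1 → (∀ v, ∃ a ∈ E c, ∃ b ∈ E (-c), v = a + b) → ∀ u ∈ E c,
      (∀ w ∈ E (-c), polar Q u w = 0) → u = 0 := by
    intro c hc hdc u hu huw
    refine hQ u fun y => ?_
    obtain ⟨a, ha, b, hb, rfl⟩ := hdc y
    rw [polar_add_right, hts c hc u hu a ha, huw b hb, add_zero]
  have hdec' : ∀ v, ∃ a ∈ E (-i), ∃ b ∈ E (- -i), v = a + b := by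
    intro v
    obtain ⟨a, ha, b, hb, h⟩ := hdec v
    exact ⟨b, hb, a, by rwa [neg_neg], by rw [h, add_comm]⟩
  -- the map `E (-i) → Dual (E i)`
  let f : E (-i) →ₗ[F] Module.Dual F (E i) :=
    { toFun := fun w => ((polarBilin Q) (w : V)).comp (E i).subtype
      map_add' := fun a b => by ext x; simp
      map_smul' := fun c a => by ext x; simp }
  have hf : ∀ w u, f w u = polar Q (w : V) (u : V) := fun w u => rfl
  have hfi : Function.Injective f := by
    rw [injective_iff_map_eq_zero]
    intro w hw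
    apply Subtype.ext
    refine hnd (-i) hi' hdec' w w.2 fun u hu => ?_
    rw [neg_neg] at hu
    exact DFunLike.congr_fun hw ⟨u, hu⟩
  let f' : E i →ₗ[F] Module.Dual F (E (-i)) :=
    { toFun := fun w => ((polarBilin Q) (w : V)).comp (E (-i)).subtype
      map_add' := fun a b => by ext x; simp
      map_smul' := fun c a => by ext x; simp }
  have hfi' : Function.Injective f' := by
    rw [injective_iff_map_eq_zero]
    intro w hw
    apply Subtype.ext
    refine hnd i hi hdec w w.2 fun u hu => ?_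
    exact DFunLike.congr_fun hw ⟨u, hu⟩
  have h3 := LinearMap.finrank_le_finrank_of_injective hfi
  have h4 := LinearMap.finrank_le_finrank_of_injective hfi'
  rw [Subspace.dual_finrank_eq] at h3 h4
  have h5 : finrank F (E i) + finrank F (E (-i)) = 2 * n := by
    have h6 : E i ⊔ E (-i) = ⊤ := by
      rw [eq_top_iff]
      intro v _
      obtain ⟨a, ha, b, hb, rfl⟩ := hdec v
      exact Submodule.add_mem_sup ha hb
    have h7 : E i ⊓ E (-i) = ⊥ := by
      rw [eq_bot_iff]
      rintro v ⟨hv1, hv2⟩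
      rw [Submodule.mem_bot]
      refine hnd i hi hdec v hv1 fun w hw => ?_
      exact hts (-i) hi' v hv2 w hw
    have h8 := Submodule.finrank_sup_add_finrank_inf_eq (E i) (E (-i))
    rw [h6, h7, finrank_top, finrank_bot, hd, add_zero] at h8
    exact h8.symm
  have hEi : finrank F (E i) = n := by omega
  have hEi' : finrank F (E (-i)) = n := by omega
  have hfb : Function.Bijective f :=
    ⟨hfi, (LinearMap.injective_iff_surjective_of_finrank_eq_finrank (by rw [Subspace.dual_finrank_eq, hEi, hEi'])).1 hfi⟩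
  -- dual bases
  let b := Module.finBasisOfFinrankEq F (E i) hEi
  choose w' hw' using fun j => hfb.2 (b.coord j)
  have hF : Cfsg.Agent.H140.OreO.Frame Q (fun j => (b j : V)) (fun j => (w' j : V)) := by
    refine ⟨fun j => hts' i hi _ (b j).2, fun j => hts' (-i) hi' _ (w' j).2, fun j k => hts i hi _ (b j).2 _ (b k).2,
      fun j k => hts (-i) hi' _ (w' j).2 _ (w' k).2, fun j k => ?_⟩
    rw [polar_comm, ← hf, hw', Basis.coord_apply, Basis.repr_self, Finsupp.single_apply]
  have hp0 : finrank F (Cfsg.Agent.H140.OreO.perp Q (fun j => (b j : V)) (fun j => (w' j : V))) = 0 := by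
    have := hF.finrank_perp
    omega
  have hsub : Subsingleton (Cfsg.Agent.H140.OreO.perp Q (fun j => (b j : V)) (fun j => (w' j : V))) :=
    Module.finrank_zero_iff.1 hp0
  let A : Matrix.GeneralLinearGroup (Fin n) F :=
    { val := i • 1
      inv := (-i) • 1
      val_inv := by rw [smul_mul_smul_comm, one_mul, mul_neg, hi, neg_neg, one_smul]
      inv_val := by rw [smul_mul_smul_comm, one_mul, neg_mul, hi, neg_neg, one_smul] }
  have hlev : hF.toModel.symm.trans (Z.trans hF.toModel) =
      Cfsg.Agent.H140.OreO.lev A (1 : Cfsg.Agent.H140.OreO.perp Q (fun j => (b j : V)) (fun j => (w' j : V)) ≃ₗ[F] _) := by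
    apply LinearEquiv.ext
    intro x
    change hF.toModel (Z (hF.toModel.symm x)) = _
    rw [← LinearEquiv.eq_symm_apply, hF.toModel_symm_apply, hF.toModel_symm_apply,
      Cfsg.Agent.H140.OreO.lev_apply, map_add, map_add, map_sum, map_sum]
    have e1 : (x.2.1 : V) = 0 := by
      rw [show x.2.1 = 0 from Subsingleton.elim _ _]; rfl
    have e2 : ((((1 : Cfsg.Agent.H140.OreO.perp Q (fun j => (b j : V)) (fun j => (w' j : V)) ≃ₗ[F] _) x.2.1) :
        Cfsg.Agent.H140.OreO.perp Q (fun j => (b j : V)) (fun j => (w' j : V))) : V) = 0 := e1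
    rw [e1, map_zero]
    simp only [e2]
    congr 1
    · refine Finset.sum_congr rfl fun j _ => ?_
      rw [map_smul, (hE i _).1 (b j).2]
      change _ = ((i • (1 : Matrix (Fin n) (Fin n) F)).mulVec x.1) j • _
      rw [Matrix.smul_mulVec, Matrix.one_mulVec, Pi.smul_apply, smul_eq_mul, smul_smul, mul_comm]
    · congr 1
      refine Finset.sum_congr rfl fun j _ => ?_
      rw [map_smul, (hE (-i) _).1 (w' j).2]
      change _ = (((-i) • (1 : Matrix (Fin n) (Fin n) F)).transpose.mulVec x.2.2) j • _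
      rw [Matrix.transpose_smul, Matrix.transpose_one, Matrix.smul_mulVec, Matrix.one_mulVec, Pi.smul_apply,
        smul_eq_mul, smul_smul, mul_comm]
  have h9 := conj_mem_comm (Q' := Cfsg.Agent.H140.OreO.MQ n
    (Cfsg.Agent.H140.OreO.res Q (fun j => (b j : V)) (fun j => (w' j : V)))) hF.toModel hF.MQ_toModel hZ
  rw [hlev] at h9
  have h10 := hom_eq_one (spin _) h9 (comm_le h9)
  have h11 := spin_levGL (Q := Cfsg.Agent.H140.OreO.res Q (fun j => (b j : V)) (fun j => (w' j : V))) h2 A
  have h12 : chi (A : Matrix (Fin n) (Fin n) F).det = 1 := h11.symm.trans h10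
  rw [chi_eq_one_iff] at h12
  have h13 : (A : Matrix (Fin n) (Fin n) F).det = i ^ n := by
    change (i • (1 : Matrix (Fin n) (Fin n) F)).det = _
    rw [Matrix.det_smul, Matrix.det_one, mul_one, Fintype.card_fin]
  rw [h13] at h12
  obtain ⟨k, rfl⟩ := hn
  rw [pow_succ, pow_mul] at h12
  have h14 : (i ^ 2) ^ k ≠ 0 := pow_ne_zero _ (pow_ne_zero _ hi0)
  obtain ⟨c, hc⟩ := h12
  apply hns
  refine ⟨c / i ^ k, ?_⟩
  have h15 : i ^ k ≠ 0 := pow_ne_zero _ hi0
  field_simp
  rw [pow_two c, ← hc]
  ring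

end Gen

section Two

open Cfsg.Agent.H160.QSpin Cfsg.Agent.H141.SpinFacts

variable {F : Type u} [Field F] [Finite F] {V : Type v} [AddCommGroup V] [Module F V] [FiniteDimensional F V]
  {Q : QuadraticForm F V}

/-- `-1` has spinor norm 1 if it is a square of an isometry. -/
theorem spin_neg [Finite V] {T : V ≃ₗ[F] V} (hT : T ∈ O Q) (hT2 : ∀ x, T (T x) = -x) {Z : V ≃ₗ[F] V} (hZ : Z ∈ O Q)
    {Z' : V ≃ₗ[F] V} (hZ' : Z' ∈ O Q) (h : ∀ x, Z' x = -Z x) : spin Q ⟨Z', hZ'⟩ = spin Q ⟨Z, hZ⟩ := by
  have h1 : (⟨Z', hZ'⟩ : O Q) = ⟨T, hT⟩ * ⟨T, hT⟩ * ⟨Z, hZ⟩ := by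
    apply Subtype.ext
    apply LinearEquiv.ext
    intro x
    change Z' x = T (T (Z x))
    rw [hT2, h]
  rw [h1, map_mul, map_mul]
  rcases Int.units_eq_one_or (spin Q ⟨T, hT⟩) with h | h <;> rw [h] <;> simp

/-- the operators on an anisotropic plane: an orthogonal basis of eigenvectors -/
theorem exists_eigen (h2 : (2 : F) ≠ 0) {W : Submodule F V} (hW : finrank F W = 2)
    (han : ∀ w ∈ W, Q w = 0 → w = 0) {Z : V ≃ₗ[F] V} (hZ : Z ∈ O Q) (hZW : ∀ w ∈ W, Z w ∈ W)
    (hZ2 : ∀ x, Z (Z x) = x) : ∃ a ∈ W, ∃ b ∈ W, a ≠ 0 ∧ b ≠ 0 ∧ polar Q a b = 0 ∧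
      (Z a = a ∨ Z a = -a) ∧ (Z b = b ∨ Z b = -b) := by
  -- existence of an orthogonal vector
  have horth : ∀ a ∈ W, a ≠ 0 → ∃ b ∈ W, b ≠ 0 ∧ polar Q a b = 0 := by
    intro a ha ha0
    by_contra hcon
    push Not at hcon
    let f : W →ₗ[F] F := (polarBilin Q a).comp W.subtype
    have hfi : Function.Injective f := by
      rw [injective_iff_map_eq_zero]
      intro w hw
      by_contra hw0
      exact hcon w w.2 (fun h => hw0 (Subtype.ext h)) hw
    have := LinearMap.finrank_le_finrank_of_injective hfi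
    rw [hW, Module.finrank_self] at this
    omega
  -- an eigenvector
  obtain ⟨a, ha, ha0, hZa⟩ : ∃ a ∈ W, a ≠ 0 ∧ (Z a = a ∨ Z a = -a) := by
    have hnt : Nontrivial W := Module.nontrivial_of_finrank_pos (R := F) (by omega)
    obtain ⟨⟨w, hw⟩, hw0⟩ := exists_ne (0 : W)
    have hw0' : w ≠ 0 := fun h => hw0 (Subtype.ext h)
    by_cases h : Z w = -w
    · exact ⟨w, hw, hw0', Or.inr h⟩
    · refine ⟨w + Z w, W.add_mem hw (hZW w hw), fun h' => h (eq_neg_of_add_eq_zero_right h'), Or.inl ?_⟩
      rw [map_add, hZ2, add_comm]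
  obtain ⟨b, hb, hb0, hab⟩ := horth a ha ha0
  refine ⟨a, ha, b, hb, ha0, hb0, hab, hZa, ?_⟩
  -- `Z b` is orthogonal to `a`, hence `Z b ± b` is a multiple of ...
  have hZab : polar Q a (Z b) = 0 := by
    have h1 : polar Q (Z a) (Z b) = polar Q a b := polar_map hZ _ _
    rcases hZa with h | h
    · rwa [h, hab] at h1
    · rw [h, hab, polar_neg_left, neg_eq_zero] at h1
      exact h1
  have haa : polar Q a a ≠ 0 := fun h => by
    rw [polar_self, two_nsmul, ← two_mul] at h
    exact ha0 (han a ha ((mul_eq_zero.1 h).resolve_left h2))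
  let f : W →ₗ[F] F := (polarBilin Q a).comp W.subtype
  have hfs : Function.Surjective f := by
    apply LinearMap.surjective
    intro h
    exact haa (DFunLike.congr_fun h ⟨a, ha⟩)
  have hker : finrank F (LinearMap.ker f) = 1 := by
    have h1 := LinearMap.finrank_range_add_finrank_ker f
    rw [LinearMap.range_eq_top.2 hfs, finrank_top, Module.finrank_self, hW] at h1
    omega
  have hbK : (⟨b, hb⟩ : W) ∈ LinearMap.ker f := hab
  have hZbK : (⟨Z b, hZW b hb⟩ : W) ∈ LinearMap.ker f := hZab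
  obtain ⟨c, hc⟩ := (finrank_eq_one_iff_of_nonzero' (⟨⟨b, hb⟩, hbK⟩ : LinearMap.ker f) (fun h => hb0 (by
    have := congrArg (fun x : LinearMap.ker f => ((x : W) : V)) h
    exact this))).1 hker ⟨⟨Z b, hZW b hb⟩, hZbK⟩
  have hc' : c • b = Z b := congrArg (fun x : LinearMap.ker f => ((x : W) : V)) hc
  have h1 := hZ2 b
  rw [← hc', map_smul, ← hc', smul_smul] at h1
  have h3 : (c * c - 1) • b = 0 := by rw [sub_smul, h1, one_smul, sub_self]
  have h4 := (smul_eq_zero.1 h3).resolve_right hb0
  have h5 : (c - 1) * (c + 1) = 0 := by linear_combination h4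
  rw [← hc']
  rcases mul_eq_zero.1 h5 with h | h
  · left; rw [sub_eq_zero.1 h, one_smul]
  · right; rw [eq_neg_of_add_eq_zero_left h, neg_smul, one_smul]

theorem det_eq_neg_one_of_refl {v : V} (hv : Q v ≠ 0) (hdet : LinearEquiv.det (refl Q v hv) = 1) (h2 : (2 : F) ≠ 0) :
    False := by
  rw [det_refl hv] at hdet
  have h3 := congrArg Units.val hdet
  rw [Units.val_neg, Units.val_one] at h3
  apply h2
  linear_combination -h3

/-- an isometry of determinant and spinor norm 1 acting as 1 on a subspace of codimension 2 with anisotropic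
complement -/
theorem core [Finite V] (h2 : (2 : F) ≠ 0) {i : F} (hi : i * i = -1) {W U : Submodule F V}
    (han : ∀ w ∈ W, Q w = 0 → w = 0) (hUW : ∀ u ∈ U, ∀ w ∈ W, polar Q w u = 0) {a b : V} (ha : a ∈ W) (hb : b ∈ W)
    (ha0 : a ≠ 0) (hb0 : b ≠ 0) (hab : polar Q a b = 0) (hspan : ∀ v, ∃ u ∈ U, ∃ x y : F, v = u + (x • a + y • b))
    {Z : V ≃ₗ[F] V} (hZO : Z ∈ O Q) (hdet : LinearEquiv.det Z = 1) (hspin : spin Q ⟨Z, hZO⟩ = 1)
    (hZU : ∀ u ∈ U, Z u = u) (hZa : Z a = a ∨ Z a = -a) (hZb : Z b = b ∨ Z b = -b) : ∀ v, Z v = v := by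
  have hQa : Q a ≠ 0 := fun h => ha0 (han a ha h)
  have hQb : Q b ≠ 0 := fun h => hb0 (han b hb h)
  have hself : ∀ c, polar Q c c = 2 * Q c := fun c => by rw [polar_self, two_nsmul, two_mul]
  have hra : ∀ u ∈ U, ∀ x y : F, refl Q a hQa (u + (x • a + y • b)) = u + ((-x) • a + y • b) := by
    intro u hu x y
    rw [refl_apply, polar_add_right, polar_add_right, hUW u hu a ha, polar_smul_right, polar_smul_right, hself, hab]
    have : (Q a)⁻¹ * (0 + (x • (2 * Q a) + y • (0 : F))) = 2 * x := by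
      rw [smul_zero, add_zero, zero_add, smul_eq_mul]
      field_simp
    rw [this, neg_smul, mul_smul, two_smul]
    abel
  have hrb : ∀ u ∈ U, ∀ x y : F, refl Q b hQb (u + (x • a + y • b)) = u + (x • a + (-y) • b) := by
    intro u hu x y
    rw [refl_apply, polar_add_right, polar_add_right, hUW u hu b hb, polar_smul_right, polar_smul_right, hself,
      polar_comm Q b a, hab]
    have : (Q b)⁻¹ * (0 + (x • (0 : F) + y • (2 * Q b))) = 2 * y := by
      rw [smul_zero, zero_add, zero_add, smul_eq_mul]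
      field_simp
    rw [this, neg_smul, mul_smul, two_smul]
    abel
  have hZv : ∀ u ∈ U, ∀ x y : F, Z (u + (x • a + y • b)) = u + (x • Z a + y • Z b) := by
    intro u hu x y
    rw [map_add, map_add, map_smul, map_smul, hZU u hu]
  rcases hZa with h | h <;> rcases hZb with h' | h' <;> rw [h, h'] at hZv
  · intro v
    obtain ⟨u, hu, x, y, rfl⟩ := hspan v
    exact hZv u hu x y
  · exfalso
    have h3 : Z = refl Q b hQb := by
      apply LinearEquiv.ext
      intro v
      obtain ⟨u, hu, x, y, rfl⟩ := hspan v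
      rw [hZv u hu, hrb u hu, smul_neg, neg_smul]
    rw [h3] at hdet
    exact det_eq_neg_one_of_refl hQb hdet h2
  · exfalso
    have h3 : Z = refl Q a hQa := by
      apply LinearEquiv.ext
      intro v
      obtain ⟨u, hu, x, y, rfl⟩ := hspan v
      rw [hZv u hu, hra u hu, smul_neg, neg_smul]
    rw [h3] at hdet
    exact det_eq_neg_one_of_refl hQa hdet h2
  · exfalso
    have h3 : (⟨Z, hZO⟩ : O Q) = ⟨refl Q a hQa, refl_mem_O hQa⟩ * ⟨refl Q b hQb, refl_mem_O hQb⟩ := by
      apply Subtype.ext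
      apply LinearEquiv.ext
      intro v
      obtain ⟨u, hu, x, y, rfl⟩ := hspan v
      change Z _ = refl Q a hQa (refl Q b hQb _)
      rw [hZv u hu, hrb u hu, hra u hu, smul_neg, smul_neg, neg_smul, neg_smul]
    rw [h3, map_mul, spin_refl' h2 hQa, spin_refl' h2 hQb, neg_mul_neg, ← chi_mul hQa hQb, chi_eq_one_iff] at hspin
    obtain ⟨c, hc⟩ := hspin
    have h4 : c • a + (i * Q a) • b ∈ W := W.add_mem (W.smul_mem _ ha) (W.smul_mem _ hb)
    have h5 : Q (c • a + (i * Q a) • b) = 0 := by
      rw [Q_add, QuadraticMap.map_smul, QuadraticMap.map_smul, polar_smul_left, polar_smul_right, hab]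
      simp only [smul_eq_mul]
      linear_combination (-Q a) * hc + Q a * Q a * Q b * hi
    have h6 := han _ h4 h5
    have h7 : polar Q (c • a + (i * Q a) • b) b = 0 := by rw [h6, polar_zero_left]
    rw [polar_add_left, polar_smul_left, polar_smul_left, hab, hself, smul_zero, zero_add, smul_eq_mul] at h7
    have hi0 : i ≠ 0 := by
      rintro rfl
      rw [zero_mul] at hi
      exact one_ne_zero (α := F) (by linear_combination hi)
    exact mul_ne_zero (mul_ne_zero hi0 hQa) (mul_ne_zero h2 hQb) h7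

/-- **The centralizer of an isometry of order `r` with a block of codimension 2.** -/
theorem no_two (h2 : (2 : F) ≠ 0) (hQ : Nondeg Q) {i : F} (hi : i * i = -1) {n : ℕ} (hn : 3 ≤ n)
    (hd : finrank F V = 2 * n) (hP : IsPlus Q) {r : ℕ} [hr : Fact r.Prime] (hr2 : 2 < r) (hrF : ¬ r ∣ Nat.card F)
    (he : orderOf (Nat.card F : ZMod r) = 2 * (n - 1)) {T : V ≃ₗ[F] V} (hT : T ∈ O Q) (hT2 : ∀ x, T (T x) = -x)
    {X Z : V ≃ₗ[F] V} (hX : X ∈ O Q) (hZ : Z ∈ ⁅O Q, O Q⁆) (hXr : X ^ r = 1) (hX1 : X ≠ 1)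
    (hc : ∀ v, X (Z v) = Z (X v)) (hZ2 : (∀ x, Z (Z x) = x) ∨ ∀ x, Z (Z x) = -x) :
    (∀ x, Z x = x) ∨ ∀ x, Z x = -x := by
  have hfin : Finite V := Module.finite_of_finite F
  have hZO : Z ∈ O Q := comm_le hZ
  have hrF' := natCast_ne_zero_of_not_dvd (F := F) hrF
  obtain ⟨hnd, t, ht, htP⟩ := blocks_of_comS hQ hX hr2 hrF hXr
  have hcc : cc (Nat.card F) r = 2 * (n - 1) := by
    rw [cc, he, if_pos (even_two_mul _)]
  have ht1 : t = 1 := by
    have h1 : finrank F (comS X) ≤ finrank F V := Submodule.finrank_le _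
    have h3 : comS X ≠ ⊥ := by
      intro h
      apply hX1
      apply LinearEquiv.ext
      intro v
      have h4 := sub_mem_comS X v
      rw [h, Submodule.mem_bot, sub_eq_zero] at h4
      exact h4
    have h4 : 0 < finrank F (comS X) := by
      rw [Nat.pos_iff_ne_zero]
      intro h
      exact h3 (Submodule.finrank_eq_zero.1 h)
    rw [ht, hcc] at h1 h4
    rw [hd] at h1
    have ht0 : t ≠ 0 := by rintro rfl; simp at h4
    have : t ≤ 1 := by
      by_contra hlt
      push Not at hlt
      have h5 : 2 * (n - 1) * 2 ≤ 2 * (n - 1) * t := Nat.mul_le_mul_left _ hlt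
      omega
    omega
  rw [ht1, mul_one] at ht
  have hnP : ¬ IsPlus (res Q (comS X)) := by
    rw [htP, ht1, he]
    rintro (h | h)
    · exact (Nat.not_odd_iff_even.2 (even_two_mul _)) h
    · exact absurd h (by decide)
  -- the fixed space
  have hperp : perp Q (comS X) = fixS X := perp_comS hQ hX
  have hW2 : finrank F (fixS X) = 2 := by
    have := finrank_fixS_add_comS X
    rw [ht, hcc, hd] at this
    omega
  have hWnd : Nondeg (res Q (fixS X)) := by rw [← hperp]; exact nondeg_perp hQ hnd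
  have hWP : ¬ IsPlus (res Q (fixS X)) := by
    intro h
    rw [← hperp] at h
    exact hnP (((isPlus_iff_perp hQ hnd (by rw [hd]; exact even_two_mul _)
      (by rw [ht, hcc]; exact even_two_mul _)).1 hP).2 h)
  have han : ∀ w ∈ fixS X, Q w = 0 → w = 0 := by
    intro w hw hw0
    by_contra hne
    apply hWP
    refine ⟨Submodule.span F {(⟨w, hw⟩ : fixS X)}, ?_, ?_⟩
    · intro u hu
      obtain ⟨c, rfl⟩ := Submodule.mem_span_singleton.1 hu
      rw [QuadraticMap.map_smul, res_apply, hw0, smul_zero]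
    · rw [finrank_span_singleton (fun h => hne (congrArg Subtype.val h)), hW2]
  have hZW : ∀ w ∈ fixS X, Z w ∈ fixS X := fun w hw => by
    rw [mem_fixS] at hw ⊢
    rw [hc, hw]
  have hZU : Inv Z (comS X) := by
    intro w hw
    obtain ⟨y, rfl⟩ := mem_comS.1 hw
    rw [map_sub, ← hc]
    exact mem_comS.2 ⟨Z y, rfl⟩
  -- `Z² = -1` is impossible
  have hZ2' : ∀ x, Z (Z x) = x := by
    rcases hZ2 with h | h
    · exact h
    exfalso
    have hnt : Nontrivial (fixS X) := Module.nontrivial_of_finrank_pos (R := F) (by omega)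
    obtain ⟨⟨w, hw⟩, hw0⟩ := exists_ne (0 : fixS X)
    have hw0' : w ≠ 0 := fun h => hw0 (Subtype.ext h)
    have key : ∀ c : F, c * c = -1 → Z w ≠ c • w := by
      intro c hc h3
      apply hw0'
      apply han w hw
      have h4 := mem_O.1 hZO w
      rw [h3, QuadraticMap.map_smul, hc, neg_smul, one_smul] at h4
      have h5 : 2 * Q w = 0 := by linear_combination -h4
      exact (mul_eq_zero.1 h5).resolve_left h2
    -- the vector `w - i Z w` is an eigenvector
    have h3 : w - i • Z w ∈ fixS X := (fixS X).sub_mem hw ((fixS X).smul_mem _ (hZW w hw))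
    have h4 : Z (w - i • Z w) = i • (w - i • Z w) := by
      rw [map_sub, map_smul, h, smul_sub, smul_smul, hi, smul_neg, neg_smul, one_smul]
      abel
    have h5 : w - i • Z w = 0 := by
      apply han _ h3
      have h6 := mem_O.1 hZO (w - i • Z w)
      rw [h4, QuadraticMap.map_smul, hi, neg_smul, one_smul] at h6
      have h7 : 2 * Q (w - i • Z w) = 0 := by linear_combination -h6
      exact (mul_eq_zero.1 h7).resolve_left h2
    refine key (-i) (by rw [neg_mul_neg, hi]) ?_
    rw [neg_smul]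
    have h8 : i • w = i • (i • Z w) := by rw [← sub_eq_zero.1 h5]
    rw [smul_smul, hi, neg_smul, one_smul] at h8
    rw [h8, neg_neg]
  -- `Z` on the commutator space
  have hU : (∀ x ∈ comS X, Z x = x) ∨ ∀ x ∈ comS X, Z x = -x := by
    rcases eq_or_neg h2 hnd hr2 hrF (by rw [ht]) (X := resT X (comS X) (inv_comS X)) (Z := resT Z (comS X) hZU)
      (resT_mem_O hX _) (resT_mem_O hZO _) (resT_pow_eq_one hXr)
      (fun v hv => Subtype.ext (free_comS hrF' hXr v v.2 (congrArg Subtype.val hv)))
      (fun v => Subtype.ext (hc v)) (fun v => Subtype.ext (hZ2' v)) with h | h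
    · left; intro x hx; exact congrArg Subtype.val (h ⟨x, hx⟩)
    · right; intro x hx; exact congrArg Subtype.val (h ⟨x, hx⟩)
  have hcompl : IsCompl (fixS X) (comS X) := isCompl_fixS_comS hrF' hXr
  obtain ⟨a, ha, b, hb, ha0, hb0, hab, hZa, hZb⟩ := exists_eigen h2 hW2 han hZO hZW hZ2'
  have hQa : Q a ≠ 0 := fun h => ha0 (han a ha h)
  have hQb : Q b ≠ 0 := fun h => hb0 (han b hb h)
  -- `V = comS X + F a + F b`
  have hspan : ∀ v, ∃ u ∈ comS X, ∃ x y : F, v = u + (x • a + y • b) := by
    have hW : fixS X = Submodule.span F {a, b} := by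
      symm
      apply Submodule.eq_of_le_of_finrank_eq
      · rw [Submodule.span_le]
        rintro z (rfl | hz)
        · exact ha
        · rw [Set.mem_singleton_iff.1 hz]; exact hb
      · rw [hW2]
        have hli : LinearIndependent F ![a, b] := by
          rw [LinearIndependent.pair_iff]
          intro x y hxy
          have h3 : polar Q (x • a + y • b) a = 0 := by rw [hxy, polar_zero_left]
          have h4 : polar Q (x • a + y • b) b = 0 := by rw [hxy, polar_zero_left]
          rw [polar_add_left, polar_smul_left, polar_smul_left, polar_comm Q b a, hab, smul_zero, add_zero, polar_self,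
            two_nsmul, ← two_mul, smul_eq_mul] at h3
          rw [polar_add_left, polar_smul_left, polar_smul_left, hab, smul_zero, zero_add, polar_self,
            two_nsmul, ← two_mul, smul_eq_mul] at h4
          exact ⟨(mul_eq_zero.1 h3).resolve_right (mul_ne_zero h2 hQa),
            (mul_eq_zero.1 h4).resolve_right (mul_ne_zero h2 hQb)⟩
        have h3 : finrank F (Submodule.span F (Set.range ![a, b])) = 2 := by
          simpa using finrank_span_eq_card hli
        have h4 : Set.range ![a, b] = {a, b} := by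
          ext z
          rw [Set.mem_range, Fin.exists_fin_two]
          change (a = z ∨ b = z) ↔ (z = a ∨ z = b)
          rw [eq_comm, @eq_comm _ b z]
        rwa [h4] at h3
    intro v
    obtain ⟨w, hw, u, hu, rfl⟩ := Submodule.mem_sup.1 (hcompl.sup_eq_top ▸ Submodule.mem_top (x := v))
    rw [hW, Submodule.mem_span_pair] at hw
    obtain ⟨x, y, rfl⟩ := hw
    exact ⟨u, hu, x, y, add_comm _ _⟩
  have hUW : ∀ u ∈ comS X, ∀ w ∈ fixS X, polar Q w u = 0 := by
    intro u hu w hw
    rw [← hperp] at hw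
    rw [polar_comm]
    exact hw u hu
  have hdZ : LinearEquiv.det Z = 1 := det_eq_one hZ
  have hsZ : spin Q ⟨Z, hZO⟩ = 1 := hom_eq_one (spin Q) hZ hZO
  rcases hU with hU | hU
  · left
    exact core h2 hi han hUW ha hb ha0 hb0 hab hspan hZO hdZ hsZ hU hZa hZb
  · right
    have hZ'O : T * T * Z ∈ O Q := (O Q).mul_mem ((O Q).mul_mem hT hT) hZO
    have hZ' : ∀ x, (T * T * Z) x = -Z x := fun x => hT2 (Z x)
    have hdT : LinearEquiv.det (T * T * Z) = 1 := by
      rw [map_mul, map_mul, hdZ, mul_one]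
      have h3 : LinearEquiv.det T * LinearEquiv.det T = LinearEquiv.det (T * T) := (map_mul _ _ _).symm
      have h4 : (LinearEquiv.det (T * T) : Fˣ) = 1 := by
        apply Units.ext
        rw [LinearEquiv.coe_det, Units.val_one]
        have h5 : ((T * T : V ≃ₗ[F] V) : V →ₗ[F] V) = (-1 : F) • LinearMap.id := by
          ext x
          change T (T x) = (-1 : F) • x
          rw [hT2, neg_smul, one_smul]
        rw [h5, LinearMap.det_smul, hd, LinearMap.det_id, pow_mul]
        norm_num
      rw [h3, h4]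
    have h6 := core h2 hi han hUW ha hb ha0 hb0 hab hspan hZ'O hdT ((spin_neg hT hT2 hZO hZ'O hZ').trans hsZ)
      (fun u hu => by rw [hZ', hU u hu, neg_neg])
      (by rw [hZ']; rcases hZa with h | h
          · right; rw [h]
          · left; rw [h, neg_neg])
      (by rw [hZ']; rcases hZb with h | h
          · right; rw [h]
          · left; rw [h, neg_neg])
    intro x
    have h7 := h6 x
    rw [hZ'] at h7
    exact neg_eq_iff_eq_neg.1 h7

end Two

section Graph

open Cfsg.Agent.H160.QSpin Cfsg.Agent.H141.SpinFacts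

/-- **Elements of order `2 r` of `PΩ(Q)` as commuting operators.** -/
theorem ops {F : Type u} [Field F] [Fintype F] {ι : Type} [Fintype ι] [DecidableEq ι]
    (Q : QuadraticForm F (ι → F)) (hQ : (polarBilin Q).Nondegenerate) (h4 : 4 ≤ Fintype.card ι)
    (hs : ∃ u : ι → F, u ≠ 0 ∧ Q u = 0) {r : ℕ} (hr : r.Prime) (hr2 : r ≠ 2) {g : Cfsg.POmega F ⇑Q}
    (hg : orderOf g = 2 * r) :
    ∃ X Z : (ι → F) ≃ₗ[F] (ι → F), X ∈ O Q ∧ Z ∈ ⁅O Q, O Q⁆ ∧ X ^ r = 1 ∧ X ≠ 1 ∧ (∀ v, X (Z v) = Z (X v)) ∧
      ((∀ x, Z (Z x) = x) ∨ ∀ x, Z (Z x) = -x) ∧ ¬ ((∀ x, Z x = x) ∨ ∀ x, Z x = -x) := by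
  obtain ⟨b, rfl⟩ := QuotientGroup.mk_surjective g
  have hcen := LieClassical.OmegaCenter.mem_center_omega_iff Q hQ (by omega) hs
  -- the operators
  let φ : Cfsg.Omega F (⇑Q) →* ((ι → F) ≃ₗ[F] (ι → F)) :=
    (LieClassical.OrthCount.OG Q).subtype.comp
      ((LieClassical.OrthCount.isometryGroupEquiv Q).toMonoidHom.comp (Subgroup.subtype _))
  have hφO : ∀ c, φ c ∈ O Q := fun c v => (LieClassical.OrthCount.isometryGroupEquiv Q c.1).2 v
  have hφm : ∀ c v, φ c v = Matrix.mulVec (LieClassical.OmegaCenter.omegaMat c) v := fun c v => rfl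
  have hφΩ : ∀ c, φ c ∈ ⁅O Q, O Q⁆ := fun c => by
    have h1 : φ c = (LieClassical.OrthFinite.omegaEquiv Q c : (ι → F) ≃ₗ[F] (ι → F)) := by
      apply LinearEquiv.ext
      intro v
      rfl
    rw [h1]
    exact (LieClassical.OrthFinite.omegaEquiv Q c).2
  have hφc : ∀ c, ((∀ v, φ c v = v) ∨ ∀ v, φ c v = -v) ↔ c ∈ Subgroup.center (Cfsg.Omega F (⇑Q)) := by
    intro c
    rw [hcen]
    constructor
    · rintro (h | h)
      · left
        apply (Matrix.toLin' (R := F)).injective
        apply LinearMap.ext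
        intro v
        rw [Matrix.toLin'_apply, Matrix.toLin'_one, ← hφm, h]
        rfl
      · right
        apply (Matrix.toLin' (R := F)).injective
        apply LinearMap.ext
        intro v
        rw [Matrix.toLin'_apply, ← hφm, h, map_neg, Matrix.toLin'_one]
        rfl
    · rintro (h | h)
      · left
        intro v
        rw [hφm, h, Matrix.one_mulVec]
      · right
        intro v
        rw [hφm, h, Matrix.neg_mulVec, Matrix.one_mulVec]
  have hmk : ∀ c : Cfsg.Omega F (⇑Q), (QuotientGroup.mk c : Cfsg.POmega F ⇑Q) = 1 ↔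
      c ∈ Subgroup.center (Cfsg.Omega F (⇑Q)) := fun c => QuotientGroup.eq_one_iff c
  have hpow : ∀ k, b ^ k ∈ Subgroup.center (Cfsg.Omega F (⇑Q)) ↔ 2 * r ∣ k := fun k => by
    rw [← hmk, QuotientGroup.mk_pow, ← orderOf_dvd_iff_pow_eq_one, hg]
  have hro : r % 2 = 1 := Nat.odd_iff.1 (hr.odd_of_ne_two hr2)
  have hB : ∀ (i j : ℕ) v, (φ (b ^ i)) ((φ (b ^ j)) v) = φ (b ^ (i + j)) v := fun i j v => by
    rw [pow_add, map_mul]; rfl
  have h2r := (hφc _).2 ((hpow (2 * r)).2 dvd_rfl)
  refine ⟨φ (b ^ 4), φ (b ^ r), hφO _, hφΩ _, ?_, ?_, fun v => by rw [hB, hB, add_comm], ?_, ?_⟩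
  · apply LinearEquiv.ext
    intro v
    rw [← map_pow, ← pow_mul, show 4 * r = 2 * r + 2 * r by ring, ← hB]
    rcases h2r with h | h
    · rw [h, h]; rfl
    · rw [h, h, neg_neg]; rfl
  · intro h
    have h1 := (hpow 4).1 ((hφc _).1 (Or.inl fun v => by rw [h]; rfl))
    have h3 : r ∣ 4 := (Dvd.intro_left _ rfl).trans h1
    have h4 : r ∣ 2 ^ 2 := h3
    exact hr2 ((Nat.prime_dvd_prime_iff_eq hr Nat.prime_two).1 (hr.dvd_of_dvd_pow h4))
  · rcases h2r with h | h
    · left; intro x; rw [hB, ← two_mul, h]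
    · right; intro x; rw [hB, ← two_mul, h]
  · intro h5
    have h6 := (hpow r).1 ((hφc _).1 h5)
    have := Nat.le_of_dvd hr.pos h6
    have := hr.pos
    omega

variable {F : Type u} [Field F] [Fintype F]

theorem prime_facts {r k : ℕ} (hr : r.Prime) (he : orderOf (5 : ZMod r) = k) (hk : 2 ≤ k) :
    r ≠ 5 ∧ r ≠ 2 := by
  constructor
  · rintro rfl
    have h : (5 : ZMod 5) = 0 := rfl
    have : Nontrivial (ZMod 5) := (ZMod.nontrivial_iff (n := 5)).2 (by norm_num)
    rw [h, orderOf_zero] at he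
    omega
  · rintro rfl
    have h : (5 : ZMod 2) = 1 := by decide
    rw [h, orderOf_one] at he
    omega

theorem field_facts (hF : Fintype.card F = 5) : (2 : F) ≠ 0 ∧ (2 : F) * 2 = -1 ∧ ¬ IsSquare (2 : F) := by
  have h5 : (5 : F) = 0 := by
    have := FiniteField.cast_card_eq_zero F
    rw [hF] at this
    exact_mod_cast this
  have h2 : (2 : F) ≠ 0 := H420.QR.two_ne_zero_of_odd (by rw [hF]; decide)
  refine ⟨h2, by linear_combination h5, ?_⟩
  rintro ⟨c, hc⟩
  have hc0 : c ≠ 0 := by
    rintro rfl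
    rw [mul_zero] at hc
    exact h2 hc
  have h1 := FiniteField.pow_card_sub_one_eq_one c hc0
  rw [hF] at h1
  have h3 : c ^ (5 - 1) = (c * c) * (c * c) := by norm_num; ring
  rw [h3, ← hc] at h1
  apply one_ne_zero (α := F)
  have h4 : (2 : F) = 0 := by linear_combination h5 - h1
  exact absurd h4 h2

/-- **2 and `r`, `e(r,5) = n` odd, are not adjacent in `PΩ⁺(2n,5)`.** -/
theorem two_nonadj_odd (hF : Fintype.card F = 5) {n : ℕ} (hn : Odd n) (hn1 : 1 < n)
    {r : ℕ} (hr : r.Prime) (he : orderOf (5 : ZMod r) = n) :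
    ¬ ∃ g : Cfsg.POmega F (Cfsg.quadFormPlus n F), orderOf g = 2 * r := by
  obtain ⟨hr5, hr2⟩ := prime_facts hr he (by omega)
  obtain ⟨h2, hi, hns⟩ := field_facts hF
  have hfr : Fact r.Prime := ⟨hr⟩
  have hFN : Nat.card F = 5 := by rw [Nat.card_eq_fintype_card, hF]
  rw [← LieClassical.OmegaReindex.coe_quadPlus]
  have hQ : (polarBilin (LieClassical.OmegaReindex.quadPlus n F)).Nondegenerate :=
    LieClassical.OmegaReindex.quadPlus_nondegenerate
  have hι : Fintype.card (Fin n ⊕ Fin n) = 2 * n := by simp; ring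
  rintro ⟨g, hg⟩
  obtain ⟨X, Z, hX, hZ, hXr, hX1, hc, hZ2, hne⟩ := ops _ hQ (by omega)
    (LieClassical.OmegaReindex.quadPlus_isotropic (by omega)) hr hr2 hg
  have hND : Nondeg (LieClassical.OmegaReindex.quadPlus n F) := fun x hx => hQ.1 x hx
  have hfin : finrank F (Fin n ⊕ Fin n → F) = 2 * n := by rw [Module.finrank_fintype_fun_eq_card, hι]
  have hr2' : 2 < r := lt_of_le_of_ne hr.two_le (Ne.symm hr2)
  have hrF : ¬ r ∣ Nat.card F := by
    rw [hFN]
    intro h
    exact hr5 ((Nat.prime_dvd_prime_iff_eq hr Nat.prime_five).1 h)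
  have hcc : cc (Nat.card F) r = 2 * n := by
    rw [cc, hFN]
    have h1 : orderOf ((5 : ℕ) : ZMod r) = n := by exact_mod_cast he
    rw [h1, if_neg (Nat.not_even_iff_odd.2 hn)]
  have hrF' := natCast_ne_zero_of_not_dvd (F := F) hrF
  have htop : comS X = ⊤ := by
    obtain ⟨-, t, ht, -⟩ := blocks_of_comS hND hX hr2' hrF hXr
    rw [hcc] at ht
    apply Submodule.eq_top_of_finrank_eq
    have h1 : finrank F (comS X) ≤ finrank F (Fin n ⊕ Fin n → F) := Submodule.finrank_le _
    have h3 : comS X ≠ ⊥ := by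
      intro h
      apply hX1
      apply LinearEquiv.ext
      intro v
      have h4 := sub_mem_comS X v
      rw [h, Submodule.mem_bot, sub_eq_zero] at h4
      exact h4
    have h4 : 0 < finrank F (comS X) := by
      rw [Nat.pos_iff_ne_zero]
      intro h
      exact h3 (Submodule.finrank_eq_zero.1 h)
    rw [ht] at h1 h4 ⊢
    rw [hfin] at h1 ⊢
    have ht0 : t ≠ 0 := by rintro rfl; simp at h4
    have : t ≤ 1 := by
      by_contra hlt
      push Not at hlt
      nlinarith
    have : t = 1 := by omega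
    rw [this, mul_one]
  rcases hZ2 with hZ2 | hZ2
  · exact hne (eq_or_neg h2 hND hr2' hrF (by rw [hcc, hfin]) hX (comm_le hZ) hXr
      (fun v hv => free_comS hrF' hXr v (htop ▸ Submodule.mem_top) hv) hc hZ2)
  · exact no_sq h2 hND hi hns hn hfin hZ hZ2

/-- **2 and `r`, `e(r,5) = 2 n - 2`, are not adjacent in `PΩ⁺(2n,5)`.** -/
theorem two_nonadj_even (hF : Fintype.card F = 5) {n : ℕ} (hn : 3 ≤ n)
    {r : ℕ} (hr : r.Prime) (he : orderOf (5 : ZMod r) = 2 * (n - 1)) :
    ¬ ∃ g : Cfsg.POmega F (Cfsg.quadFormPlus n F), orderOf g = 2 * r := by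
  obtain ⟨hr5, hr2⟩ := prime_facts hr he (by omega)
  obtain ⟨h2, hi, hns⟩ := field_facts hF
  have hfr : Fact r.Prime := ⟨hr⟩
  have hFN : Nat.card F = 5 := by rw [Nat.card_eq_fintype_card, hF]
  rw [← LieClassical.OmegaReindex.coe_quadPlus]
  have hQ : (polarBilin (LieClassical.OmegaReindex.quadPlus n F)).Nondegenerate :=
    LieClassical.OmegaReindex.quadPlus_nondegenerate
  have hι : Fintype.card (Fin n ⊕ Fin n) = 2 * n := by simp; ring
  rintro ⟨g, hg⟩
  obtain ⟨X, Z, hX, hZ, hXr, hX1, hc, hZ2, hne⟩ := ops _ hQ (by omega)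
    (LieClassical.OmegaReindex.quadPlus_isotropic (by omega)) hr hr2 hg
  have hND : Nondeg (LieClassical.OmegaReindex.quadPlus n F) := fun x hx => hQ.1 x hx
  have hfin : finrank F (Fin n ⊕ Fin n → F) = 2 * n := by rw [Module.finrank_fintype_fun_eq_card, hι]
  have hr2' : 2 < r := lt_of_le_of_ne hr.two_le (Ne.symm hr2)
  have hrF : ¬ r ∣ Nat.card F := by
    rw [hFN]
    intro h
    exact hr5 ((Nat.prime_dvd_prime_iff_eq hr Nat.prime_five).1 h)
  have he' : orderOf (Nat.card F : ZMod r) = 2 * (n - 1) := by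
    rw [hFN]
    exact_mod_cast he
  have hP : IsPlus (LieClassical.OmegaReindex.quadPlus n F) := by
    refine ⟨LinearMap.ker (LinearMap.funLeft F F (Sum.inl : Fin n → Fin n ⊕ Fin n)), ?_, ?_⟩
    · intro u hu
      rw [LieClassical.OmegaReindex.coe_quadPlus, Cfsg.quadFormPlus]
      refine Finset.sum_eq_zero fun i _ => ?_
      have : u (.inl i) = 0 := congrFun (LinearMap.mem_ker.1 hu) i
      rw [this, zero_mul]
    · have h1 := LinearMap.finrank_range_add_finrank_ker (LinearMap.funLeft F F (Sum.inl : Fin n → Fin n ⊕ Fin n))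
      rw [LinearMap.range_eq_top.2 (LinearMap.funLeft_surjective_of_injective _ _ _ Sum.inl_injective), finrank_top,
        Module.finrank_fintype_fun_eq_card, Module.finrank_fintype_fun_eq_card, hι, Fintype.card_fin] at h1
      rw [Module.finrank_fintype_fun_eq_card, hι]
      omega
  -- a square root of `-1`
  have h22 : (2 : F) * -2 = 1 := by linear_combination -hi
  let T : (Fin n ⊕ Fin n → F) ≃ₗ[F] (Fin n ⊕ Fin n → F) :=
    LinearEquiv.ofLinearMap
      { toFun := fun v s => Sum.elim (fun j => (2 : F) * v (.inl j)) (fun j => (-2 : F) * v (.inr j)) s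
        map_add' := fun a b => by ext s; rcases s with s | s <;> simp [mul_add]
        map_smul' := fun a b => by ext s; rcases s with s | s <;> simp <;> ring }
      { toFun := fun v s => Sum.elim (fun j => (-2 : F) * v (.inl j)) (fun j => (2 : F) * v (.inr j)) s
        map_add' := fun a b => by ext s; rcases s with s | s <;> simp [mul_add]
        map_smul' := fun a b => by ext s; rcases s with s | s <;> simp <;> ring }
      (by
        apply LinearMap.ext
        intro v
        funext s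
        rcases s with s | s
        · change (2 : F) * (-2 * v (.inl s)) = v (.inl s)
          rw [← mul_assoc, h22, one_mul]
        · change (-2 : F) * (2 * v (.inr s)) = v (.inr s)
          rw [← mul_assoc, mul_comm (-2 : F), h22, one_mul])
      (by
        apply LinearMap.ext
        intro v
        funext s
        rcases s with s | s
        · change (-2 : F) * (2 * v (.inl s)) = v (.inl s)
          rw [← mul_assoc, mul_comm (-2 : F), h22, one_mul]
        · change (2 : F) * (-2 * v (.inr s)) = v (.inr s)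
          rw [← mul_assoc, h22, one_mul])
  have hT : T ∈ O (LieClassical.OmegaReindex.quadPlus n F) := by
    intro v
    rw [LieClassical.OmegaReindex.coe_quadPlus, Cfsg.quadFormPlus, Cfsg.quadFormPlus]
    refine Finset.sum_congr rfl fun j _ => ?_
    change (2 : F) * v (.inl j) * (-2 * v (.inr j)) = _
    linear_combination (v (.inl j) * v (.inr j)) * h22
  have hT2 : ∀ x, T (T x) = -x := by
    intro v
    funext s
    rcases s with s | s
    · change (2 : F) * (2 * v (.inl s)) = -v (.inl s)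
      linear_combination v (.inl s) * hi
    · change (-2 : F) * (-2 * v (.inr s)) = -v (.inr s)
      linear_combination v (.inr s) * hi
  exact hne (no_two h2 hND hi hn hfin hP hr2' hrF he' hT hT2 hX hZ hXr hX1 hc hZ2)

end Graph

end Cfsg.Agent.H168.TwoFive
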